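import Groth.Agent.L21.TFNodal.Basic
import Groth.Agent.L21.RR.BirationalGenus
import Groth.Agent.L17.BC.PullSec

/-!
Torsion-free modules on reduced schemes are detected on dense opens.
-/

set_option autoImplicit false
set_option backward.isDefEq.respectTransparency false
set_option linter.style.haveILetI false
universe u

open CategoryTheory CategoryTheory.Limits AlgebraicGeometry IsLocalRing

noncomputable section

namespace Groth.L21.TFNodal

variable {X : Scheme.{u}}

/-- A section of a torsion-free module vanishing on a dense open vanishes. -/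
theorem eq_zero_of_dense [IsLocallyNoetherian X] [AlgebraicGeometry.IsReduced X] (F : X.Modules) [Coh.IsQCoh F]
    (htF : TorSh.IsTorsionFree F) (U : X.Opens) (s : Γ(F, U)) (D : X.Opens) (hD : Dense (D : Set X))
    (hs : Groth.L18.Frame.rs F (inf_le_left : U ⊓ D ≤ U) s = 0) : s = 0 := by
  refine TopCat.Presheaf.section_ext ⟨F.presheaf, F.isSheaf⟩ U s 0 fun z hz => ?_
  rw [map_zero]
  obtain ⟨V, hV, hzV, hVU⟩ := exists_isAffineOpen_mem_and_subset (x := z) (U := U) hz
  haveI : IsNoetherianRing Γ(X, V) := IsLocallyNoetherian.component_noetherian ⟨V, hV⟩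
  let a : Γ(F, V) := Groth.L18.Frame.rs F hVU s
  let J : Ideal Γ(X, V) := LinearMap.ker (LinearMap.toSpanSingleton Γ(X, V) Γ(F, V) a)
  have hJ : ∀ p ∈ minimalPrimes Γ(X, V), ¬ J ≤ p := by
    intro p hp hle
    let q : PrimeSpectrum Γ(X, V) := ⟨p, hp.isPrime⟩
    have hyV : hV.fromSpec q ∈ V := hV.range_fromSpec.subset ⟨q, rfl⟩
    have hyD : hV.fromSpec q ∈ D := by
      refine Groth.L20.mem_of_dense_of_mem_genericPoints D hD ((Groth.L20.mem_genericPoints_iff _).2 fun g hg => ?_)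
      haveI : Subsingleton (PrimeSpectrum (X.presheaf.stalk (hV.fromSpec q))) :=
        (PrimeSpectrum.subsingleton_iff_isField_of_isReduced).2 (isField_stalk_fromSpec hV q hp)
      obtain ⟨w, rfl⟩ : g ∈ Set.range (X.fromSpecStalk (hV.fromSpec q)) := X.range_fromSpecStalk ▸ hg
      rw [Subsingleton.elim (α := PrimeSpectrum (X.presheaf.stalk (hV.fromSpec q))) w (closedPoint _)]
      exact Scheme.fromSpecStalk_closedPoint
    have hqq : hV.primeIdealOf ⟨_, hyV⟩ = q :=
      hV.fromSpec.isOpenEmbedding.injective (hV.fromSpec_primeIdealOf ⟨_, hyV⟩)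
    letI := Groth.L20.ModStalk.stalkModule F hyV
    haveI := Groth.L20.ModStalk.isLocalizedModule_germ F hV hyV
    have h0 : F.presheaf.germ V (hV.fromSpec q) hyV a = 0 := by
      rw [Groth.L20.ModStalk.germ_rs, ← Groth.L20.ModStalk.germ_rs F (inf_le_left : U ⊓ D ≤ U)
        (show hV.fromSpec q ∈ U ⊓ D from ⟨hVU hyV, hyD⟩) s, hs, map_zero]
    obtain ⟨⟨r, hr⟩, hra⟩ := (IsLocalizedModule.eq_zero_iff (hV.primeIdealOf ⟨_, hyV⟩).asIdeal.primeCompl
      (Groth.L20.ModStalk.germₗ F hyV)).1 h0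
    exact hr ((congrArg PrimeSpectrum.asIdeal hqq).ge (hle (show r ∈ J from hra)))
  obtain ⟨r, hrJ, hr⟩ := exists_nonZeroDivisor_of_not_le_minimal J hJ
  letI := X.presheaf.algebra_section_stalk (⟨z, hzV⟩ : V)
  haveI := hV.isLocalization_stalk ⟨z, hzV⟩
  have hreg : algebraMap Γ(X, V) (X.presheaf.stalk z) r ∈ nonZeroDivisors (X.presheaf.stalk z) :=
    IsLocalization.map_nonZeroDivisors_le (hV.primeIdealOf ⟨z, hzV⟩).asIdeal.primeCompl _ ⟨r, hr, rfl⟩
  haveI := htF z
  refine (isRegular_iff_mem_nonZeroDivisors.2 hreg).isSMulRegular ?_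
  dsimp only
  rw [smul_zero]
  erw [← Groth.L20.ModStalk.germ_rs F hVU hzV s]
  refine (Groth.L20.ModStalk.germ_smul F hzV r a).symm.trans ?_
  exact (congrArg (F.presheaf.germ V z hzV) (show r • a = 0 from hrJ)).trans (map_zero _)

/-- A map to a torsion-free module vanishing on a dense open vanishes. -/
theorem hom_eq_zero_of_dense [IsLocallyNoetherian X] [AlgebraicGeometry.IsReduced X] {K F : X.Modules} [Coh.IsQCoh F]
    (htF : TorSh.IsTorsionFree F) (φ : K ⟶ F) (D : X.Opens) (hD : Dense (D : Set X))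
    (hφ : (Scheme.Modules.restrictFunctor D.ι).map φ = 0) : φ = 0 := by
  refine Scheme.Modules.hom_ext _ _ fun U => ?_
  ext s
  refine eq_zero_of_dense F htF U _ D hD ?_
  have hle : D.ι ''ᵁ (D.ι ⁻¹ᵁ U) = U ⊓ D := by
    rw [Scheme.Hom.image_preimage_eq_opensRange_inf, Scheme.Opens.opensRange_ι, inf_comm]
  have h1 : φ.app (U ⊓ D) (Groth.L18.Frame.rs K inf_le_left s) = 0 := by
    have h2 : φ.app (D.ι ''ᵁ (D.ι ⁻¹ᵁ U)) = 0 :=
      congrArg (fun ψ : K.restrict D.ι ⟶ F.restrict D.ι => ψ.app (D.ι ⁻¹ᵁ U)) hφ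
    rw [hle] at h2
    rw [h2]
    rfl
  exact (Groth.L17.BC.PullSec.app_rs φ inf_le_left s).symm.trans h1

end Groth.L21.TFNodal
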