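import Groth.Agent.L21.TFNodal.NodeAlg
import Groth.Agent.L21.TFNodal.Dense
import Groth.Agent.L21.NormRed.Nodal
import Groth.Agent.L21.NormRed.RatTree
import Groth.Agent.L21.NormRed.Coker
import Groth.Agent.L21.Mod.Stalks
import Groth.Agent.L16.AffineBC.Pullback
import Groth.Agent.L18.FreeFiniteSet

/-!
Stalks of maps `F → π_*G` for the normalisation of a nodal curve.
-/

set_option autoImplicit false
set_option backward.isDefEq.respectTransparency false
set_option linter.style.haveILetI false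
set_option maxSynthPendingDepth 3

universe u

open CategoryTheory CategoryTheory.Limits AlgebraicGeometry TopologicalSpace IsLocalRing TensorProduct
attribute [local instance] Curv2.resAlgebra

noncomputable section

namespace Groth.L21.TFNodal

/-- The setting: a nodal curve and its normalisation. -/
structure Setting (k : Type u) [Field k] (X Y : Scheme.{u}) [X.Over (Spec (CommRingCat.of k))]
    (π : Y ⟶ X) (U : X.Opens) : Prop where
  [finite : IsFinite π]
  [reduced : IsReduced X]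
  [noetherian : IsLocallyNoetherian X]
  [iso : IsIso (π ∣_ U)]
  hdim : ∀ Z ∈ irreducibleComponents (X : Type u), topologicalKrullDim Z = 1
  hnorm : Pi1.IsNormalScheme Y
  hUd : Dense (U : Set X)
  hUd' : Dense ((π ⁻¹ᵁ U : Y.Opens) : Set Y)
  hU : ∀ x : X, x ∈ U ↔ ¬ Curv2.IsNode k X x

variable {k : Type u} [Field k] {X Y : Scheme.{u}} [X.Over (Spec (CommRingCat.of k))] {π : Y ⟶ X} {U : X.Opens}

theorem setting_of_hyps [IsAlgClosed k] [IsProper (X ↘ Spec (CommRingCat.of k))]
    [ConnectedSpace X] (hdim : topologicalKrullDim X = 1) (hnod : Curv2.AtWorstNodal k X)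
    [IsFinite π] [Smooth (π ≫ (X ↘ Spec (CommRingCat.of k)))]
    (hU : ∀ x : X, x ∈ U ↔ ¬ Curv2.IsNode k X x) (hUiso : IsIso (π ∣_ U))
    (hUd : Dense ((π ⁻¹ᵁ U : Y.Opens) : Set Y)) : Setting k X Y π U := by
  haveI := Groth.L21.RR.isNoetherian_of_proper (X := X) k
  have hd := Groth.L21.NormRed.dim_components k hdim (X := X)
  haveI := Groth.L21.NormRed.isReduced_of_atWorstNodal k hd hnod
  refine { hdim := hd
           hnorm := fun y => ⟨Groth.L21.Smooth.isDomain_stalk (π ≫ (X ↘ Spec (CommRingCat.of k))) y,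
             Groth.L21.Smooth.isIntegrallyClosed_stalk (π ≫ (X ↘ Spec (CommRingCat.of k))) y⟩
           hUd := fun x => ?_
           hUd' := hUd
           hU := hU }
  obtain ⟨w, hw, hwx⟩ := Groth.L21.CurveDual.exists_nonclosed_gen hdim x
  exact closure_mono (Set.singleton_subset_iff.2 (show w ∈ (U : Set X) from (hU w).2 fun h => hw h.1))
    (specializes_iff_mem_closure.1 hwx)

/-- The cotangent space at a node is two-dimensional. -/
theorem finrank_cotangent_node [IsAlgClosed k] [IsProper (X ↘ Spec (CommRingCat.of k))]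
    (hdim : ∀ Z ∈ irreducibleComponents (X : Type u), topologicalKrullDim Z = 1) [IsReduced X] {x : X}
    (hx : Curv2.IsNode k X x) :
    Module.finrank (ResidueField (X.presheaf.stalk x)) (CotangentSpace (X.presheaf.stalk x)) = 2 := by
  haveI := Groth.L21.RR.isNoetherian_of_proper (X := X) k
  obtain ⟨z, hz⟩ := Groth.L21.Nodal.bcFst_surjective (k := k) (X := X) k x
  have hodp := Groth.L21.Nodal.odpAt_of_isNode (k := k) k x hx z hz
  haveI : IsLocallyNoetherian (Curv2.bc k X k) := LocallyOfFiniteType.isLocallyNoetherian (Curv2.bcSnd k X k)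
  haveI : IsIso (Spec.map (CommRingCat.ofHom (algebraMap k k))) :=
    inferInstanceAs (IsIso (Spec.map (𝟙 (CommRingCat.of k))))
  haveI : IsIso (Curv2.bcFst k X k) := inferInstanceAs (IsIso (pullback.fst _ _))
  letI : (Curv2.bc k X k).Over (Spec (CommRingCat.of k)) := ⟨Curv2.bcSnd k X k⟩
  letI := Curv2.stalkAlgebra k (Curv2.bc k X k) z
  obtain ⟨ψ, -⟩ : Curv2.IsOrdDoublePt k ((Curv2.bc k X k).presheaf.stalk z) := hodp
  subst hz
  let φ : X.presheaf.stalk (Curv2.bcFst k X k z) ≃+* (Curv2.bc k X k).presheaf.stalk z :=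
    (asIso ((Curv2.bcFst k X k).stalkMap z)).commRingCatIsoToRingEquiv
  letI := φ.toRingHom.toAlgebra
  haveI : Module.Flat (X.presheaf.stalk (Curv2.bcFst k X k z)) ((Curv2.bc k X k).presheaf.stalk z) :=
    Flat.stalkMap (Curv2.bcFst k X k) z
  haveI : IsLocalHom (algebraMap (X.presheaf.stalk (Curv2.bcFst k X k z)) ((Curv2.bc k X k).presheaf.stalk z)) :=
    inferInstanceAs (IsLocalHom ((Curv2.bcFst k X k).stalkMap z).hom)
  obtain ⟨e, -⟩ := Groth.L21.Nodal.exists_completion_equiv
    (A := X.presheaf.stalk (Curv2.bcFst k X k z)) (B := (Curv2.bc k X k).presheaf.stalk z)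
    (le_antisymm (IsLocalRing.map_maximalIdeal_le _) fun b hb => by
      have : b = φ (φ.symm b) := (φ.apply_symm_apply b).symm
      rw [this]
      refine Ideal.mem_map_of_mem _ ?_
      rw [IsLocalRing.mem_maximalIdeal, mem_nonunits_iff] at hb ⊢
      exact fun h => hb (this ▸ h.map φ))
    fun b => ⟨φ.symm b, by
      rw [show algebraMap _ ((Curv2.bc k X k).presheaf.stalk z) (φ.symm b) = b from φ.apply_symm_apply b, sub_self]
      exact Ideal.zero_mem _⟩
  have hJ : Ideal.span {(MvPowerSeries.X 0 * MvPowerSeries.X 1 : MvPowerSeries (Fin 2) k)} =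
      Groth.L06.Multicross.J k 2 := by
    refine le_antisymm (Ideal.span_le.2 (Set.singleton_subset_iff.2
      (Ideal.subset_span ⟨0, 1, by decide, rfl⟩))) (Ideal.span_le.2 ?_)
    rintro _ ⟨i, j, hij, rfl⟩
    fin_cases i <;> fin_cases j <;> first | exact absurd rfl hij | skip
    · exact Ideal.mem_span_singleton_self _
    · rw [SetLike.mem_coe, mul_comm]; exact Ideal.mem_span_singleton_self _
  exact (Groth.L06.Multicross.numBranches_and_deltaInv (X.presheaf.stalk (Curv2.bcFst k X k z))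
    (Groth.L06.Multicross.ringKrullDim_stalk_eq_one k hdim hx.1)
    (Groth.L06.Multicross.isNagata_stalk' k (X := X) _) k 2
    (e.trans (ψ.trans (Ideal.quotEquivOfEq hJ)))).2.2.2

variable (h : Setting k X Y π U)

set_option maxHeartbeats 1600000 in
include h in
/-- The algebraic facts at a node. -/
theorem node_facts [IsAlgClosed k] [IsProper (X ↘ Spec (CommRingCat.of k))] {x : X} (hx : Curv2.IsNode k X x)
    {V : X.Opens} (hV : IsAffineOpen V) (hxV : x ∈ V) :
    letI := (π.app V).hom.toAlgebra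
    letI := X.presheaf.algebra_section_stalk ⟨x, hxV⟩
    (∀ r ∈ (hV.primeIdealOf ⟨x, hxV⟩).asIdeal, ∀ b : Γ(Y, π ⁻¹ᵁ V),
      ∃ s, s ∉ (hV.primeIdealOf ⟨x, hxV⟩).asIdeal ∧ ∃ c ∈ (hV.primeIdealOf ⟨x, hxV⟩).asIdeal,
        (s * r) • b = algebraMap Γ(X, V) Γ(Y, π ⁻¹ᵁ V) c) ∧
    Module.finrank (ResidueField (X.presheaf.stalk x))
      (ResidueField (X.presheaf.stalk x) ⊗[Γ(X, V)] Γ(Y, π ⁻¹ᵁ V)) = 2 := by
  haveI := h.finite; haveI := h.reduced; haveI := h.noetherian; haveI := h.iso
  letI algAB : Algebra Γ(X, V) Γ(Y, π ⁻¹ᵁ V) := (π.app V).hom.toAlgebra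
  haveI : Module.Finite Γ(X, V) Γ(Y, π ⁻¹ᵁ V) := π.finite_app V hV
  have hV' : IsAffineOpen (π ⁻¹ᵁ V) := hV.preimage π
  let p := (hV.primeIdealOf ⟨x, hxV⟩).asIdeal
  letI := X.presheaf.algebra_section_stalk ⟨x, hxV⟩
  haveI : IsLocalization.AtPrime (X.presheaf.stalk x) p := hV.isLocalization_stalk ⟨x, hxV⟩
  obtain ⟨f, hfU, hfR, hfB⟩ := Groth.L21.NormRed.exists_regular π h.hnorm h.hUd h.hUd' hV
  have hnorm : ∀ (Q : Ideal Γ(Y, π ⁻¹ᵁ V)) [Q.IsPrime], IsDomain (Localization.AtPrime Q) ∧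
      IsIntegrallyClosed (Localization.AtPrime Q) := fun Q _ => by
    have hy : hV'.fromSpec ⟨Q, inferInstance⟩ ∈ π ⁻¹ᵁ V := by
      show _ ∈ ((π ⁻¹ᵁ V : Y.Opens) : Set Y)
      rw [← hV'.range_fromSpec]; exact ⟨_, rfl⟩
    letI := TopCat.Presheaf.algebra_section_stalk Y.presheaf ⟨_, hy⟩
    haveI : IsLocalization Q.primeCompl (Y.presheaf.stalk (hV'.fromSpec ⟨Q, inferInstance⟩)) :=
      hV'.isLocalization_stalk' ⟨Q, inferInstance⟩ hy
    let e := (IsLocalization.algEquiv Q.primeCompl (Y.presheaf.stalk (hV'.fromSpec ⟨Q, inferInstance⟩))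
      (Localization.AtPrime Q)).toRingEquiv
    obtain ⟨h1, h2⟩ := h.hnorm (hV'.fromSpec ⟨Q, inferInstance⟩)
    exact ⟨e.symm.toMulEquiv.isDomain, IsIntegrallyClosed.of_equiv e⟩
  have hinj : Function.Injective (algebraMap Γ(X, V) Γ(Y, π ⁻¹ᵁ V)) :=
    Groth.L21.NormRed.app_injective π h.hUd V
  obtain ⟨ι, hι, hι1⟩ := Groth.L21.NormRed.exists_isLocalizedModule_integralClosure p (X.presheaf.stalk x) f
    hfR hfB hinj (Groth.L21.NormRed.exists_pow_mul_eq π hV f hfU hfB) hnorm
  haveI := hι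
  let ω := Algebra.linearMap (X.presheaf.stalk x)
    (integralClosure (X.presheaf.stalk x) (FractionRing (X.presheaf.stalk x)))
  have hω : ∀ a : Γ(X, V), ω (algebraMap Γ(X, V) (X.presheaf.stalk x) a) =
      ι (algebraMap Γ(X, V) Γ(Y, π ⁻¹ᵁ V) a) := fun a => by
    rw [Algebra.algebraMap_eq_smul_one a (A := Γ(Y, π ⁻¹ᵁ V)), map_smul, hι1, Algebra.linearMap_apply,
      ← algebraMap_smul (X.presheaf.stalk x) a (1 : integralClosure (X.presheaf.stalk x)
        (FractionRing (X.presheaf.stalk x))), ← Algebra.algebraMap_eq_smul_one]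
  have hωinj : Function.Injective ω := fun a b e =>
    IsFractionRing.injective (X.presheaf.stalk x) (FractionRing (X.presheaf.stalk x))
      (congrArg Subtype.val e)
  have hlen : Module.length (X.presheaf.stalk x)
      (↥(integralClosure (X.presheaf.stalk x) (FractionRing (X.presheaf.stalk x))) ⧸ LinearMap.range ω) = 1 :=
    Groth.L21.NormRed.deltaInv_of_isNode k h.hdim hx
  exact ⟨fun r hr b => exists_smul_eq p hinj ι ω hω hlen r hr b,
    finrank_residue_eq_two p hinj ι ω hω hωinj hlen⟩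

/-- The sections of a pushforward are a module over the sections upstairs. -/
abbrev pushModule (G : Y.Modules) (V : X.Opens) :
    Module Γ(Y, π ⁻¹ᵁ V) Γ((Scheme.Modules.pushforward π).obj G, V) :=
  inferInstanceAs (Module Γ(Y, π ⁻¹ᵁ V) Γ(G, π ⁻¹ᵁ V))

variable {F : X.Modules} {G : Y.Modules} (β : F ⟶ (Scheme.Modules.pushforward π).obj G)

/-- The image of `F` generates `π_*G` on affine opens. -/
def Generates : Prop := ∀ V : X.Opens, IsAffineOpen V →
  letI := pushModule (π := π) G V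
  Submodule.span Γ(Y, π ⁻¹ᵁ V) (Set.range (β.app V)) = ⊤

set_option maxHeartbeats 800000 in
include h in
theorem surjective_stalk_of_mem [Coh.IsQCoh G] (hgen : Generates β) {x : X} (hx : x ∈ U) :
    Function.Surjective ((Groth.L00.Stk.F X x).map β).hom := by
  haveI := h.finite; haveI := h.iso
  obtain ⟨V, hV, hxV, hVU⟩ := exists_isAffineOpen_mem_and_subset (x := x) (U := U) hx
  haveI := Groth.L07.BlowLib.isIso_app_of_le π (C := U) inferInstance V hVU
  letI := pushModule (π := π) G V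
  have hsurj : Function.Surjective (β.app V) := by
    intro z
    have hz : z ∈ Submodule.span Γ(Y, π ⁻¹ᵁ V) (Set.range (β.app V)) := (hgen V hV).symm ▸ Submodule.mem_top
    refine Submodule.closure_induction (p := fun z _ => ∃ s, β.app V s = z) ⟨0, map_zero _⟩
      (fun a b _ _ ⟨s, hs⟩ ⟨t, ht⟩ => ⟨s + t, by rw [map_add, hs, ht]⟩) ?_ hz
    rintro b _ ⟨s, rfl⟩
    obtain ⟨a, rfl⟩ := (ConcreteCategory.bijective_of_isIso (π.app V)).2 b
    exact ⟨a • s, β.app_smul a s⟩
  let P := (Scheme.Modules.pushforward π).obj G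
  letI := Groth.L20.ModStalk.stalkModule P hxV
  haveI := Groth.L20.ModStalk.isLocalizedModule_germ_push π G hV (hV.preimage π) hxV
  intro (z : P.presheaf.stalk x)
  obtain ⟨⟨y, t⟩, hyt⟩ := IsLocalizedModule.surj (hV.primeIdealOf ⟨x, hxV⟩).asIdeal.primeCompl
    (Groth.L20.ModStalk.germₗ P hxV) z
  obtain ⟨s, rfl⟩ := hsurj y
  letI := X.presheaf.algebra_section_stalk ⟨x, hxV⟩
  haveI := hV.isLocalization_stalk ⟨x, hxV⟩
  obtain ⟨v, hv⟩ := (IsLocalization.map_units (X.presheaf.stalk x) t).exists_left_inv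
  refine ⟨v • F.presheaf.germ V x hxV s, ?_⟩
  have h1 : ((Groth.L00.Stk.F X x).map β).hom (F.presheaf.germ V x hxV s) =
      (show P.presheaf.stalk x from (t : Γ(X, V)) • z) :=
    (Groth.L21.Mod.stalkF_map_germ β V x hxV s).trans hyt.symm
  rw [map_smul, h1]
  show v • (X.presheaf.germ V x hxV (t : Γ(X, V)) • z) = z
  rw [smul_smul]
  exact (congrArg (· • z) hv).trans (one_smul _ z)

set_option maxHeartbeats 1600000 in
include h in
/-- The length formula at a node. -/
theorem length_coker_node [IsAlgClosed k] [IsProper (X ↘ Spec (CommRingCat.of k))] [Coh.IsQCoh F] [Coh.IsQCoh G]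
    (hgen : Generates β) {x : X} (hx : Curv2.IsNode k X x)
    (hinj : Function.Injective ((Groth.L00.Stk.F X x).map β).hom)
    {r a : ℕ} (e : F.presheaf.stalk x ≃ₗ[X.presheaf.stalk x]
      ((Fin a → X.presheaf.stalk x) × (Fin (r - a) → maximalIdeal (X.presheaf.stalk x))))
    {V : X.Opens} (hV : IsAffineOpen V) (hxV : x ∈ V) :
    letI := X.presheaf.algebra_section_stalk ⟨x, hxV⟩
    ((a + (r - a) * 2 : ℕ) : ℕ∞) + Module.length (X.presheaf.stalk x) ((cokernel β).presheaf.stalk x) =
      Module.length (ResidueField (X.presheaf.stalk x))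
        (ResidueField (X.presheaf.stalk x) ⊗[Γ(X, V)] Γ((Scheme.Modules.pushforward π).obj G, V)) := by
  haveI := h.finite; haveI := h.reduced; haveI := h.noetherian
  letI := X.presheaf.algebra_section_stalk ⟨x, hxV⟩
  let p := (hV.primeIdealOf ⟨x, hxV⟩).asIdeal
  haveI : IsLocalization.AtPrime (X.presheaf.stalk x) p := hV.isLocalization_stalk ⟨x, hxV⟩
  letI algAB : Algebra Γ(X, V) Γ(Y, π ⁻¹ᵁ V) := (π.app V).hom.toAlgebra
  let P := (Scheme.Modules.pushforward π).obj G
  letI := pushModule (π := π) G V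
  haveI : IsScalarTower Γ(X, V) Γ(Y, π ⁻¹ᵁ V) Γ(P, V) := IsScalarTower.of_algebraMap_smul fun _ _ => rfl
  letI := Groth.L20.ModStalk.stalkModule P hxV
  letI := Groth.L20.ModStalk.stalkModule F hxV
  haveI : IsScalarTower Γ(X, V) (X.presheaf.stalk x) (P.presheaf.stalk x) :=
    IsScalarTower.of_algebraMap_smul fun _ _ => rfl
  haveI : IsScalarTower Γ(X, V) (X.presheaf.stalk x) (F.presheaf.stalk x) :=
    IsScalarTower.of_algebraMap_smul fun _ _ => rfl
  let g : Γ(P, V) →ₗ[Γ(X, V)] P.presheaf.stalk x := Groth.L20.ModStalk.germₗ P hxV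
  haveI : IsLocalizedModule p.primeCompl g :=
    Groth.L20.ModStalk.isLocalizedModule_germ_push π G hV (hV.preimage π) hxV
  let u : Γ(F, V) →ₗ[Γ(X, V)] Γ(P, V) :=
    { toFun := fun s => β.app V s
      map_add' := fun a b => map_add _ a b
      map_smul' := fun a s => β.app_smul a s }
  let ω : F.presheaf.stalk x →ₗ[X.presheaf.stalk x] P.presheaf.stalk x := ((Groth.L00.Stk.F X x).map β).hom
  have hω : ∀ s, ω (Groth.L20.ModStalk.germₗ F hxV s) = g (u s) := fun s =>
    Groth.L21.Mod.stalkF_map_germ β V x hxV s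
  have hle := smul_top_le_map p g (Groth.L20.ModStalk.germₗ F hxV) u ω (node_facts h hx hV hxV).1
    (hgen V hV) hω
  have h2 := length_coker_add ω hinj hle
  rw [length_quot_eq p g, length_quot_type (finrank_cotangent_node h.hdim hx) e] at h2
  haveI : PreservesColimit (parallelPair β 0) (Groth.L00.Stk.F X x) := inferInstance
  let i1 := (PreservesCokernel.iso (Groth.L00.Stk.F X x) β ≪≫
    ModuleCat.cokernelIsoRangeQuotient _).toLinearEquiv
  rw [← h2]
  exact congrArg _ i1.length_eq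

set_option maxHeartbeats 800000 in
include h in
/-- A map which is injective on stalks over the dense open is a monomorphism. -/
theorem mono_of_injective_stalk [Coh.IsQCoh F] (hF : TorSh.IsTorsionFree F)
    (hinj : ∀ x ∈ U, Function.Injective ((Groth.L00.Stk.F X x).map β).hom) : Mono β := by
  haveI := h.reduced; haveI := h.noetherian
  rw [Groth.L21.Mod.mono_iff_stalk_injective]
  intro x
  refine (injective_iff_map_eq_zero _).2 fun v hv => ?_
  obtain ⟨W, hxW, s, rfl⟩ := TopCat.Presheaf.exists_germ_eq F.presheaf v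
  rw [Groth.L21.Mod.stalkF_map_germ] at hv
  obtain ⟨W', hxW', i₁, i₂, hW⟩ := TopCat.Presheaf.germ_eq ((Scheme.Modules.pushforward π).obj G).presheaf x hxW hxW
    (β.app W s) 0 (hv.trans (map_zero _).symm)
  let t : Γ(F, W') := Groth.L18.Frame.rs F i₁.le s
  have ht : β.app W' t = 0 := by
    rw [Groth.L17.BC.PullSec.app_rs]
    exact hW.trans (map_zero _)
  have h0 : t = 0 := by
    refine eq_zero_of_dense F hF W' t U h.hUd ?_
    refine TopCat.Presheaf.section_ext ⟨F.presheaf, F.isSheaf⟩ (W' ⊓ U) _ 0 fun z hz => ?_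
    rw [map_zero]
    refine (Groth.L20.ModStalk.germ_rs F inf_le_left hz t).trans (hinj z hz.2 ?_)
    rw [map_zero]
    exact (Groth.L21.Mod.stalkF_map_germ β W' z hz.1 t).trans (by rw [ht, map_zero])
  calc F.presheaf.germ W x hxW s = F.presheaf.germ W' x hxW' t :=
        (Groth.L20.ModStalk.germ_rs F i₁.le hxW' s).symm
    _ = 0 := by rw [h0, map_zero]

/-- Surjectivity on a stalk kills the stalk of the cokernel. -/
theorem subsingleton_coker_stalk {A B : X.Modules} (φ : A ⟶ B) {x : X}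
    (hs : Function.Surjective ((Groth.L00.Stk.F X x).map φ).hom) :
    Subsingleton ((cokernel φ).presheaf.stalk x) := by
  haveI : PreservesColimit (parallelPair φ 0) (Groth.L00.Stk.F X x) := inferInstance
  let i1 := (PreservesCokernel.iso (Groth.L00.Stk.F X x) φ ≪≫
    ModuleCat.cokernelIsoRangeQuotient _).toLinearEquiv
  haveI : Subsingleton (_ ⧸ LinearMap.range ((Groth.L00.Stk.F X x).map φ).hom) :=
    Submodule.Quotient.subsingleton_iff.2 (LinearMap.range_eq_top.2 hs)
  exact i1.toEquiv.subsingleton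

end Groth.L21.TFNodal
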