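import Groth.Agent.L21.TFNodal.NodePush
import Groth.Agent.L21.NodeFrob.Local

/-!
At a node the fibre of the normalisation is reduced with two points.
-/

set_option autoImplicit false
set_option backward.isDefEq.respectTransparency false
set_option linter.style.haveILetI false
set_option maxSynthPendingDepth 3

universe u

open CategoryTheory CategoryTheory.Limits AlgebraicGeometry TopologicalSpace IsLocalRing
attribute [local instance] Curv2.resAlgebra

noncomputable section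

namespace Groth.L21.TFNodal

theorem rad_aux {A N : Type u} [CommRing A] [IsLocalRing A] [CommRing N] [Algebra A N] [Algebra.IsIntegral A N]
    (hlen : Module.length A (N ⧸ LinearMap.range (Algebra.linearMap A N)) = 1)
    (M₁ M₂ : Ideal N) [M₁.IsMaximal] [M₂.IsMaximal] (hne : M₁ ≠ M₂) {b : N} (h1 : b ∈ M₁) (h2 : b ∈ M₂) :
    ∃ a ∈ maximalIdeal A, algebraMap A N a = b := by
  have hcomap : ∀ M : Ideal N, M.IsMaximal → ∀ a, algebraMap A N a ∈ M ↔ a ∈ maximalIdeal A := fun M hM a => by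
    have := IsLocalRing.eq_maximalIdeal (Ideal.isMaximal_comap_of_isIntegral_of_isMaximal (R := A) M)
    rw [← this, Ideal.mem_comap]
  let W := LinearMap.range (Algebra.linearMap A N)
  have hsimp : IsSimpleModule A (N ⧸ W) := Module.length_eq_one_iff.1 hlen
  obtain ⟨n, hn1, hn2⟩ : ∃ n ∈ M₁, n ∉ M₂ := by
    by_contra hc
    push Not at hc
    exact hne (Ideal.IsMaximal.eq_of_le inferInstance (Ideal.IsMaximal.ne_top inferInstance) hc)
  have hnW : n ∉ W := by
    rintro ⟨a, rfl⟩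
    exact hn2 ((hcomap M₂ inferInstance a).2 ((hcomap M₁ inferInstance a).1 hn1))
  have hkill : ∀ c ∈ maximalIdeal A, c • n ∈ W := fun c hc => by
    have h := Submodule.smul_mem_smul (M := N ⧸ W) hc (Submodule.mem_top (x := W.mkQ n))
    rw [simple_smul_top hlen, Submodule.mem_bot, ← map_smul, Submodule.mkQ_apply,
      Submodule.Quotient.mk_eq_zero] at h
    exact h
  obtain ⟨c, hc⟩ : ∃ c : A, c • W.mkQ n = W.mkQ b := by
    have hne0 : W.mkQ n ≠ 0 := fun h => hnW ((Submodule.Quotient.mk_eq_zero _).1 h)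
    exact IsSimpleModule.toSpanSingleton_surjective A hne0 (W.mkQ b)
  obtain ⟨a, ha⟩ : b - c • n ∈ W := (Submodule.Quotient.mk_eq_zero _).1 (by
    rw [← Submodule.mkQ_apply, map_sub, map_smul, hc, sub_self])
  replace ha : algebraMap A N a = b - c • n := ha
  have ham : a ∈ maximalIdeal A := (hcomap M₁ inferInstance a).1 (by
    rw [ha]; exact sub_mem h1 (Submodule.smul_of_tower_mem _ c hn1))
  have hcm : c ∈ maximalIdeal A := by
    have hcn : algebraMap A N c * n ∈ M₂ := by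
      rw [← Algebra.smul_def, show c • n = b - algebraMap A N a from by rw [ha, sub_sub_cancel]]
      exact sub_mem h2 ((hcomap M₂ inferInstance a).2 ham)
    exact (hcomap M₂ inferInstance c).1 (((Ideal.IsMaximal.isPrime inferInstance).mem_or_mem hcn).resolve_right hn2)
  obtain ⟨d, hd⟩ := hkill c hcm
  replace hd : algebraMap A N d = c • n := hd
  refine ⟨a + d, (hcomap M₁ inferInstance _).1 ?_, ?_⟩ <;> rw [map_add, ha, hd, sub_add_cancel]
  exact h1


theorem exists_smul_mem_of_germ {B S : Type u} [CommRing B] [CommRing S] [IsLocalRing S] [Algebra B S]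
    (q : Ideal B) [q.IsPrime] [IsLocalization.AtPrime S q] {M P : Type u} [AddCommGroup M] [Module B M]
    [AddCommGroup P] [Module B P] [Module S P] [IsScalarTower B S P] (g : M →ₗ[B] P)
    [IsLocalizedModule q.primeCompl g] {e : M} (he : g e ∈ maximalIdeal S • (⊤ : Submodule S P)) :
    ∃ t ∉ q, t • e ∈ q • (⊤ : Submodule B M) := by
  obtain ⟨t, e', he', hte⟩ : ∃ t : q.primeCompl, ∃ e' ∈ (q • ⊤ : Submodule B M), (t : B) • g e = g e' := by
    refine Submodule.smul_induction_on he (fun a ha w _ => ?_) (fun w w' hw hw' => ?_)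
    · obtain ⟨⟨r, s⟩, hrs⟩ := IsLocalization.surj q.primeCompl a
      obtain ⟨⟨e₁, s₁⟩, hw₁⟩ := IsLocalizedModule.surj q.primeCompl g w
      have hr : r ∈ q := (IsLocalization.AtPrime.to_map_mem_maximal_iff S q r).1 (by
        rw [← hrs]; exact Ideal.mul_mem_right _ _ ha)
      refine ⟨s * s₁, r • e₁, Submodule.smul_mem_smul hr Submodule.mem_top, ?_⟩
      have hw₂ : (s₁ : B) • w = g e₁ := hw₁
      rw [Submonoid.coe_mul, mul_smul, smul_comm (s₁ : B) a, hw₂, map_smul,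
        ← algebraMap_smul S (s : B), smul_smul, mul_comm, hrs, algebraMap_smul]
    · obtain ⟨t, a, ha, hta⟩ := hw
      obtain ⟨t', a', ha', hta'⟩ := hw'
      refine ⟨t * t', (t' : B) • a + (t : B) • a',
        add_mem (Submodule.smul_mem _ _ ha) (Submodule.smul_mem _ _ ha'), ?_⟩
      rw [Submonoid.coe_mul, smul_add, mul_comm, mul_smul, hta, mul_comm, mul_smul, hta', map_add, map_smul,
        map_smul]
  obtain ⟨t', ht'⟩ := IsLocalizedModule.exists_of_eq (S := q.primeCompl) (f := g)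
    (x₁ := (t : B) • e) (x₂ := e') (by rw [map_smul]; exact hte)
  refine ⟨(t' : B) * t, fun hh => (Ideal.IsPrime.mem_or_mem inferInstance hh).elim t'.2 t.2, ?_⟩
  rw [mul_smul]
  exact ht' ▸ Submodule.smul_mem _ _ he'

theorem mem_smul_top_of_local {R B A : Type u} [CommRing R] [CommRing B] [CommRing A] [IsLocalRing A]
    [Algebra R A] [Algebra R B] [Algebra.IsIntegral R B] (p : Ideal R) [p.IsPrime] [IsLocalization.AtPrime A p]
    {M P : Type u} [AddCommGroup M] [Module R M] [Module B M] [IsScalarTower R B M] [AddCommGroup P] [Module R P]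
    [Module A P] [IsScalarTower R A P] (g : M →ₗ[R] P) (q₁ q₂ : Ideal B) (hq₁ : q₁.IsPrime) (hq₂ : q₂.IsPrime)
    (h₁ : q₁.comap (algebraMap R B) = p) (h₂ : q₂.comap (algebraMap R B) = p)
    (hrad : ∀ b, b ∈ q₁ → b ∈ q₂ → ∃ s, s ∉ p ∧ ∃ c ∈ p, s • b = algebraMap R B c) {e : M}
    (hloc : ∀ q : Ideal B, q.IsPrime → q.comap (algebraMap R B) = p → ∃ t ∉ q, t • e ∈ q • (⊤ : Submodule B M)) :
    g e ∈ maximalIdeal A • (⊤ : Submodule A P) := by
  let A' : Ideal B :=
    ((q₁ ⊓ q₂) • (⊤ : Submodule B M)).comap (LinearMap.toSpanSingleton _ _ e)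
  have hne : ¬ A'.comap (algebraMap R B) ≤ p := fun hle => by
    obtain ⟨q, hAq, hq, hqp⟩ := Ideal.exists_ideal_over_prime_of_isIntegral p A' hle
    have hsub : ∀ b, b ∈ q₁ → b ∈ q₂ → b ∈ q := fun b hb₁ hb₂ => by
      obtain ⟨s, hs, c, hc, hsb⟩ := hrad b hb₁ hb₂
      have : algebraMap R B s * b ∈ q := by
        rw [← Algebra.smul_def, hsb, ← Ideal.mem_comap, hqp]; exact hc
      refine (hq.mem_or_mem this).resolve_left fun hh => hs ?_
      show s ∈ p
      rw [← hqp]; exact hh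
    have hor : q₁ ≤ q ∨ q₂ ≤ q := hq.mul_le.1 fun b hb =>
      have hb' : b ∈ q₁ ⊓ q₂ := Ideal.mul_le_inf (I := q₁) (J := q₂) hb
      hsub b hb'.1 hb'.2
    have key : ∀ qa qb : Ideal B, qa.IsPrime → qb.IsPrime → qa.comap (algebraMap R B) = p →
        qb.comap (algebraMap R B) = p → qa ≤ q → qa ⊓ qb = q₁ ⊓ q₂ → False := by
      intro qa qb ha hb hap hbp hle' hinf
      have heq : qa = q := hle'.eq_of_not_lt fun hlt => (Ideal.IsIntegral.comap_lt_comap (R := R) hlt).ne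
        (hap.trans hqp.symm)
      obtain ⟨t, ht, hte⟩ := hloc qa ha hap
      obtain ⟨w, hw, hwq⟩ : ∃ w, w ∉ qa ∧ ∀ r ∈ qa, w * r ∈ qb := by
        by_cases hba : qb ≤ qa
        · have : qb = qa := hba.eq_of_not_lt fun hlt => (Ideal.IsIntegral.comap_lt_comap (R := R) hlt).ne
            (hbp.trans hap.symm)
          exact ⟨1, fun h1 => ha.ne_top ((Ideal.eq_top_iff_one _).2 h1), fun r hr => by rwa [this, one_mul]⟩
        · obtain ⟨w, hwb, hwa⟩ := SetLike.not_le_iff_exists.1 hba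
          exact ⟨w, hwa, fun r _ => Ideal.mul_mem_right _ _ hwb⟩
      have hmem : w * t ∈ A' := by
        show (w * t) • e ∈ (q₁ ⊓ q₂) • (⊤ : Submodule B M)
        rw [mul_smul, ← hinf]
        refine Submodule.smul_induction_on (p := fun z => w • z ∈ (qa ⊓ qb) • (⊤ : Submodule B M)) hte
          (fun r hr m _ => ?_) fun a b ha hb => ?_
        · rw [smul_smul]
          exact Submodule.smul_mem_smul ⟨Ideal.mul_mem_left _ _ hr, hwq r hr⟩ Submodule.mem_top
        · rw [smul_add]; exact add_mem ha hb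
      exact (ha.mem_or_mem (heq ▸ hAq hmem)).elim hw ht
    exact hor.elim (fun hle' => key q₁ q₂ hq₁ hq₂ h₁ h₂ hle' rfl)
      fun hle' => key q₂ q₁ hq₂ hq₁ h₂ h₁ hle' (inf_comm _ _)
  obtain ⟨s, hsA, hsp⟩ := SetLike.not_le_iff_exists.1 hne
  let T : Submodule A P := maximalIdeal A • ⊤
  have hunit : ∀ s' : R, s' ∉ p → ∀ m, g (s' • m) ∈ T → g m ∈ T := fun s' hs' m hm => by
    obtain ⟨w, hw⟩ := (IsLocalization.map_units A (⟨s', hs'⟩ : p.primeCompl)).exists_left_inv
    rw [map_smul, ← algebraMap_smul A s'] at hm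
    have := T.smul_mem w hm
    rwa [smul_smul, hw, one_smul] at this
  refine hunit s hsp e ?_
  have hmem : algebraMap R B s • e ∈ (q₁ ⊓ q₂) • (⊤ : Submodule B M) := hsA
  rw [← algebraMap_smul B s e]
  refine Submodule.smul_induction_on (p := fun z => g z ∈ T) hmem (fun r hr m _ => ?_) fun a b ha hb => by rw [map_add]; exact add_mem ha hb
  obtain ⟨s', hs', c, hc, hsr⟩ := hrad r hr.1 hr.2
  refine hunit s' hs' _ ?_
  rw [← smul_assoc, hsr, algebraMap_smul, map_smul, ← algebraMap_smul A c]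
  exact Submodule.smul_mem_smul ((IsLocalization.AtPrime.to_map_mem_maximal_iff _ p c).2 hc) Submodule.mem_top


variable {k : Type u} [Field k] [IsAlgClosed k] {X Y : Scheme.{u}} [X.Over (Spec (CommRingCat.of k))]
  [IsProper (X ↘ Spec (CommRingCat.of k))] {π : Y ⟶ X} {U : X.Opens} (h : Setting k X Y π U)

set_option maxHeartbeats 1600000 in
include h in
/-- Two primes lie over a node and their intersection is generated by the maximal ideal. -/
theorem node_rad {x : X} (hx : Curv2.IsNode k X x) {V : X.Opens} (hV : IsAffineOpen V) (hxV : x ∈ V) :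
    letI := (π.app V).hom.toAlgebra
    ∃ q₁ q₂ : Ideal Γ(Y, π ⁻¹ᵁ V), q₁.IsPrime ∧ q₂.IsPrime ∧
      q₁.comap (algebraMap Γ(X, V) Γ(Y, π ⁻¹ᵁ V)) = (hV.primeIdealOf ⟨x, hxV⟩).asIdeal ∧
      q₂.comap (algebraMap Γ(X, V) Γ(Y, π ⁻¹ᵁ V)) = (hV.primeIdealOf ⟨x, hxV⟩).asIdeal ∧
      ∀ b, b ∈ q₁ → b ∈ q₂ → ∃ s, s ∉ (hV.primeIdealOf ⟨x, hxV⟩).asIdeal ∧
        ∃ c ∈ (hV.primeIdealOf ⟨x, hxV⟩).asIdeal, s • b = algebraMap Γ(X, V) Γ(Y, π ⁻¹ᵁ V) c := by
  haveI := h.finite; haveI := h.reduced; haveI := h.noetherian; haveI := h.iso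
  letI algAB : Algebra Γ(X, V) Γ(Y, π ⁻¹ᵁ V) := (π.app V).hom.toAlgebra
  haveI : Module.Finite Γ(X, V) Γ(Y, π ⁻¹ᵁ V) := π.finite_app V hV
  have hV' : IsAffineOpen (π ⁻¹ᵁ V) := hV.preimage π
  let p := (hV.primeIdealOf ⟨x, hxV⟩).asIdeal
  letI := X.presheaf.algebra_section_stalk ⟨x, hxV⟩
  haveI : IsLocalization.AtPrime (X.presheaf.stalk x) p := hV.isLocalization_stalk ⟨x, hxV⟩
  obtain ⟨f, hfU, hfR, hfB⟩ := Groth.L21.NormRed.exists_regular π h.hnorm h.hUd h.hUd' hV
  have hnorm : ∀ (Q : Ideal Γ(Y, π ⁻¹ᵁ V)) [Q.IsPrime], IsDomain (Localization.AtPrime Q) ∧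
      IsIntegrallyClosed (Localization.AtPrime Q) := fun Q _ => by
    have hy : hV'.fromSpec ⟨Q, inferInstance⟩ ∈ π ⁻¹ᵁ V := by
      show _ ∈ ((π ⁻¹ᵁ V : Y.Opens) : Set Y)
      rw [← hV'.range_fromSpec]; exact ⟨_, rfl⟩
    letI := TopCat.Presheaf.algebra_section_stalk Y.presheaf ⟨_, hy⟩
    haveI : IsLocalization Q.primeCompl (Y.presheaf.stalk (hV'.fromSpec ⟨Q, inferInstance⟩)) :=
      hV'.isLocalization_stalk' ⟨Q, inferInstance⟩ hy
    let e := (IsLocalization.algEquiv Q.primeCompl (Y.presheaf.stalk (hV'.fromSpec ⟨Q, inferInstance⟩))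
      (Localization.AtPrime Q)).toRingEquiv
    obtain ⟨h1, h2⟩ := h.hnorm (hV'.fromSpec ⟨Q, inferInstance⟩)
    exact ⟨e.symm.toMulEquiv.isDomain, IsIntegrallyClosed.of_equiv e⟩
  have hinj : Function.Injective (algebraMap Γ(X, V) Γ(Y, π ⁻¹ᵁ V)) :=
    Groth.L21.NormRed.app_injective π h.hUd V
  have hgen := Groth.L21.NormRed.exists_pow_mul_eq π hV f hfU hfB
  obtain ⟨ι, hι, hι1⟩ := Groth.L21.NormRed.exists_isLocalizedModule_integralClosure p (X.presheaf.stalk x) f
    hfR hfB hinj hgen hnorm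
  haveI := hι
  let A := X.presheaf.stalk x
  let N := integralClosure A (FractionRing A)
  have hι' : ∀ r : Γ(X, V), ι (algebraMap _ _ r) = algebraMap A N (algebraMap Γ(X, V) A r) := fun r => by
    rw [Algebra.algebraMap_eq_smul_one r (A := Γ(Y, π ⁻¹ᵁ V)), map_smul, hι1, ← algebraMap_smul A r (1 : N),
      ← Algebra.algebraMap_eq_smul_one]
  have hjf : algebraMap Γ(X, V) A f ∈ nonZeroDivisors A :=
    IsLocalization.map_nonZeroDivisors_le p.primeCompl A ⟨f, hfR, rfl⟩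
  have hmul : ∀ b b', ι (b * b') = ι b * ι b' := fun b b' => by
    obtain ⟨n, r, hr⟩ := hgen b
    replace hr : algebraMap Γ(X, V) Γ(Y, π ⁻¹ᵁ V) f ^ n * b = algebraMap _ _ r := hr
    have e1 : f ^ n • (b * b') = r • b' := by
      rw [Algebra.smul_def, Algebra.smul_def, map_pow, ← mul_assoc, hr]
    have e2 : f ^ n • b = algebraMap _ _ r := by rw [Algebra.smul_def, map_pow, hr]
    have e3 : f ^ n • ι (b * b') = f ^ n • (ι b * ι b') := by
      rw [← map_smul ι, e1, map_smul, ← smul_mul_assoc, ← map_smul ι (f ^ n) b, e2, hι', ← algebraMap_smul A r (ι b'),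
        Algebra.smul_def]
    refine Subtype.ext ?_
    have hreg : IsUnit (algebraMap A (FractionRing A) (algebraMap Γ(X, V) A (f ^ n))) := by
      rw [map_pow]
      exact IsLocalization.map_units _ (⟨_, pow_mem hjf n⟩ : nonZeroDivisors A)
    refine hreg.mul_left_cancel ?_
    have e4 := congrArg (Subtype.val) e3
    rw [← algebraMap_smul A (f ^ n) (ι (b * b')), ← algebraMap_smul A (f ^ n) (ι b * ι b')] at e4
    simp only [SetLike.val_smul, Algebra.smul_def] at e4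
    exact e4
  let φ : Γ(Y, π ⁻¹ᵁ V) →+* N :=
    { toFun := ι
      map_one' := hι1
      map_mul' := hmul
      map_zero' := map_zero ι
      map_add' := map_add ι }
  have hlen : Module.length A (N ⧸ LinearMap.range (Algebra.linearMap A N)) = 1 :=
    Groth.L21.NormRed.deltaInv_of_isNode k h.hdim hx
  obtain ⟨M₁, M₂, hM₁, hM₂, hne⟩ :=
    Groth.L21.NodeFrob.two_maximal_of_numBranches A (Groth.L21.NodeFrob.numBranches_of_isNode k h.hdim hx)
  have hover : ∀ M : Ideal N, M.IsMaximal →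
      (M.comap φ).comap (algebraMap Γ(X, V) Γ(Y, π ⁻¹ᵁ V)) = p := fun M hM => by
    ext r
    have hm := IsLocalRing.eq_maximalIdeal (Ideal.isMaximal_comap_of_isIntegral_of_isMaximal (R := A) M)
    show ι (algebraMap _ _ r) ∈ M ↔ r ∈ p
    rw [hι', ← Ideal.mem_comap, hm]
    exact IsLocalization.AtPrime.to_map_mem_maximal_iff A p r
  refine ⟨M₁.comap φ, M₂.comap φ, Ideal.IsPrime.comap φ, Ideal.IsPrime.comap φ, hover M₁ hM₁, hover M₂ hM₂,
    fun b h1 h2 => ?_⟩
  obtain ⟨a, ha, hab⟩ := rad_aux hlen M₁ M₂ hne (b := ι b) h1 h2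
  obtain ⟨⟨c, t⟩, hct⟩ := IsLocalization.surj p.primeCompl a
  have hc : c ∈ p := (IsLocalization.AtPrime.to_map_mem_maximal_iff A p c).1 (by
    rw [← hct]; exact Ideal.mul_mem_right _ _ ha)
  have h3 : ι ((t : Γ(X, V)) • b) = ι (algebraMap _ _ c) := by
    rw [map_smul, hι', ← hct, map_mul, hab, ← algebraMap_smul A (t : Γ(X, V)) (ι b), Algebra.smul_def, mul_comm]
  obtain ⟨w, hw⟩ := IsLocalizedModule.exists_of_eq (S := p.primeCompl) h3
  refine ⟨(w : Γ(X, V)) * t, fun hh => (Ideal.IsPrime.mem_or_mem inferInstance hh).elim w.2 t.2,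
    (w : Γ(X, V)) * c, Ideal.mul_mem_left _ _ hc, ?_⟩
  rw [mul_smul, map_mul, ← Algebra.smul_def]
  exact hw

set_option maxHeartbeats 1600000 in
include h in
/-- `m_x` times the stalk of `π_*G` comes from `F`. -/
theorem smul_top_le_range {F : X.Modules} {G : Y.Modules} [Coh.IsQCoh F] [Coh.IsQCoh G]
    (β : F ⟶ (Scheme.Modules.pushforward π).obj G) (hgen : Generates β) {x : X} (hx : Curv2.IsNode k X x) :
    maximalIdeal (X.presheaf.stalk x) • (⊤ : Submodule (X.presheaf.stalk x) (((Scheme.Modules.pushforward π).obj G).presheaf.stalk x)) ≤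
      Submodule.map ((Groth.L00.Stk.F X x).map β).hom (maximalIdeal (X.presheaf.stalk x) • ⊤) := by
  haveI := h.finite; haveI := h.reduced; haveI := h.noetherian
  obtain ⟨V, hV, hxV, -⟩ := exists_isAffineOpen_mem_and_subset (TopologicalSpace.Opens.mem_top x)
  letI := X.presheaf.algebra_section_stalk ⟨x, hxV⟩
  let p := (hV.primeIdealOf ⟨x, hxV⟩).asIdeal
  haveI : IsLocalization.AtPrime (X.presheaf.stalk x) p := hV.isLocalization_stalk ⟨x, hxV⟩
  letI algAB : Algebra Γ(X, V) Γ(Y, π ⁻¹ᵁ V) := (π.app V).hom.toAlgebra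
  let P := (Scheme.Modules.pushforward π).obj G
  letI := pushModule (π := π) G V
  haveI : IsScalarTower Γ(X, V) Γ(Y, π ⁻¹ᵁ V) Γ(P, V) := IsScalarTower.of_algebraMap_smul fun _ _ => rfl
  letI := Groth.L20.ModStalk.stalkModule P hxV
  letI := Groth.L20.ModStalk.stalkModule F hxV
  haveI : IsScalarTower Γ(X, V) (X.presheaf.stalk x) (P.presheaf.stalk x) :=
    IsScalarTower.of_algebraMap_smul fun _ _ => rfl
  haveI : IsScalarTower Γ(X, V) (X.presheaf.stalk x) (F.presheaf.stalk x) :=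
    IsScalarTower.of_algebraMap_smul fun _ _ => rfl
  let g : Γ(P, V) →ₗ[Γ(X, V)] P.presheaf.stalk x := Groth.L20.ModStalk.germₗ P hxV
  haveI : IsLocalizedModule p.primeCompl g :=
    Groth.L20.ModStalk.isLocalizedModule_germ_push π G hV (hV.preimage π) hxV
  let u : Γ(F, V) →ₗ[Γ(X, V)] Γ(P, V) :=
    { toFun := fun s => β.app V s
      map_add' := fun a b => map_add _ a b
      map_smul' := fun a s => β.app_smul a s }
  exact smul_top_le_map p g (Groth.L20.ModStalk.germₗ F hxV) u ((Groth.L00.Stk.F X x).map β).hom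
    (node_facts h hx hV hxV).1 (hgen V hV) (fun s => Groth.L21.Mod.stalkF_map_germ β V x hxV s)

set_option maxHeartbeats 3200000 in
include h in
/-- A kernel inside `m_y` upstairs is inside `m_x` downstairs. -/
theorem ker_push_le {E B : Y.Modules} [Coh.IsQCoh E] (μ : E ⟶ B) {x : X} (hx : Curv2.IsNode k X x)
    (hker : ∀ y : Y, π y = x → LinearMap.ker ((Groth.L00.Stk.F Y y).map μ).hom ≤
      maximalIdeal (Y.presheaf.stalk y) • ⊤) :
    LinearMap.ker ((Groth.L00.Stk.F X x).map ((Scheme.Modules.pushforward π).map μ)).hom ≤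
      maximalIdeal (X.presheaf.stalk x) • ⊤ := by
  haveI := h.finite; haveI := h.noetherian
  intro v hv
  let P := (Scheme.Modules.pushforward π).obj E
  let P' := (Scheme.Modules.pushforward π).obj B
  let μ' := (Scheme.Modules.pushforward π).map μ
  obtain ⟨W, hxW, e₀, rfl⟩ := TopCat.Presheaf.exists_germ_eq P.presheaf v
  replace hv := (Groth.L21.Mod.stalkF_map_germ μ' W x hxW e₀).symm.trans (LinearMap.mem_ker.1 hv)
  obtain ⟨W', hxW', i₁, i₂, hW⟩ := TopCat.Presheaf.germ_eq P'.presheaf x hxW hxW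
    (μ'.app W e₀) 0 (hv.trans (map_zero _).symm)
  obtain ⟨V, hV, hxV, hVW⟩ := exists_isAffineOpen_mem_and_subset (x := x) (U := W') hxW'
  let e : Γ(P, V) := Groth.L18.Frame.rs P (hVW.trans i₁.le) e₀
  have he0 : μ.app (π ⁻¹ᵁ V) e = 0 := by
    have h0 : μ'.app V e = 0 := by
      refine (Groth.L17.BC.PullSec.app_rs μ' (hVW.trans i₁.le) e₀).trans ?_
      refine (Groth.L18.Frame.rs_rs P' i₁.le hVW (μ'.app W e₀)).symm.trans ?_
      exact (congrArg (fun t => Groth.L18.Frame.rs P' hVW t) (hW.trans (map_zero _))).trans (map_zero _)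
    exact h0
  rw [show P.presheaf.germ W x hxW e₀ = P.presheaf.germ V x hxV e from
    (Groth.L20.ModStalk.germ_rs P (hVW.trans i₁.le) hxV e₀).symm]
  letI algAB : Algebra Γ(X, V) Γ(Y, π ⁻¹ᵁ V) := (π.app V).hom.toAlgebra
  haveI : Module.Finite Γ(X, V) Γ(Y, π ⁻¹ᵁ V) := π.finite_app V hV
  letI := pushModule (π := π) E V
  haveI : IsScalarTower Γ(X, V) Γ(Y, π ⁻¹ᵁ V) Γ(P, V) := IsScalarTower.of_algebraMap_smul fun _ _ => rfl
  have hV' : IsAffineOpen (π ⁻¹ᵁ V) := hV.preimage π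
  let p := (hV.primeIdealOf ⟨x, hxV⟩).asIdeal
  -- locally at a prime over `p`
  have hloc : ∀ q : Ideal Γ(Y, π ⁻¹ᵁ V), q.IsPrime → q.comap (algebraMap Γ(X, V) _) = p →
      ∃ t ∉ q, t • e ∈ q • (⊤ : Submodule Γ(Y, π ⁻¹ᵁ V) Γ(P, V)) := fun q _ hq => by
    let y := hV'.fromSpec ⟨q, inferInstance⟩
    have hy : y ∈ π ⁻¹ᵁ V := hV'.opensRange_fromSpec.le ⟨⟨q, inferInstance⟩, rfl⟩
    have hqy : (hV'.primeIdealOf ⟨y, hy⟩).asIdeal = q := congrArg PrimeSpectrum.asIdeal
      (hV'.fromSpec.isOpenEmbedding.injective (hV'.fromSpec_primeIdealOf ⟨y, hy⟩))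
    have hyx : π y = x := by
      have h1 := hV'.comap_primeIdealOf_appLE V (hU := hV) (f := π) (V := π ⁻¹ᵁ V) le_rfl hy
      have h2 : hV.primeIdealOf ⟨π y, hy⟩ = hV.primeIdealOf ⟨x, hxV⟩ := by
        refine PrimeSpectrum.ext (h1.symm ▸ ?_)
        show Ideal.comap (π.appLE V (π ⁻¹ᵁ V) le_rfl).hom (hV'.primeIdealOf ⟨y, hy⟩).asIdeal = p
        rw [hqy, Scheme.Hom.appLE_eq_app]
        exact hq
      calc π y = hV.fromSpec (hV.primeIdealOf ⟨π y, hy⟩) := (hV.fromSpec_primeIdealOf ⟨π y, hy⟩).symm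
        _ = x := by rw [h2]; exact hV.fromSpec_primeIdealOf ⟨x, hxV⟩
    have hg : E.presheaf.germ (π ⁻¹ᵁ V) y hy e ∈
        maximalIdeal (Y.presheaf.stalk y) • (⊤ : Submodule (Y.presheaf.stalk y) (E.presheaf.stalk y)) :=
      hker y hyx (LinearMap.mem_ker.2 ((Groth.L21.Mod.stalkF_map_germ μ (π ⁻¹ᵁ V) y hy e).trans
        (by rw [he0, map_zero])))
    letI := Y.presheaf.algebra_section_stalk ⟨y, hy⟩
    haveI : IsLocalization.AtPrime (Y.presheaf.stalk y) (hV'.primeIdealOf ⟨y, hy⟩).asIdeal :=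
      hV'.isLocalization_stalk ⟨y, hy⟩
    letI := Groth.L20.ModStalk.stalkModule E hy
    haveI : IsLocalizedModule (hV'.primeIdealOf ⟨y, hy⟩).asIdeal.primeCompl (Groth.L20.ModStalk.germₗ E hy) :=
      Groth.L20.ModStalk.isLocalizedModule_germ E hV' hy
    haveI : IsScalarTower Γ(Y, π ⁻¹ᵁ V) (Y.presheaf.stalk y) (E.presheaf.stalk y) :=
      IsScalarTower.of_algebraMap_smul fun _ _ => rfl
    rw [← hqy]
    exact exists_smul_mem_of_germ (hV'.primeIdealOf ⟨y, hy⟩).asIdeal (Groth.L20.ModStalk.germₗ E hy) hg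
  obtain ⟨q₁, q₂, hq₁, hq₂, h₁, h₂, hrad⟩ := node_rad h hx hV hxV
  haveI : Algebra.IsIntegral Γ(X, V) Γ(Y, π ⁻¹ᵁ V) := Algebra.IsIntegral.of_finite _ _
  letI := X.presheaf.algebra_section_stalk ⟨x, hxV⟩
  haveI : IsLocalization.AtPrime (X.presheaf.stalk x) p := hV.isLocalization_stalk ⟨x, hxV⟩
  letI := Groth.L20.ModStalk.stalkModule P hxV
  haveI : IsScalarTower Γ(X, V) (X.presheaf.stalk x) (P.presheaf.stalk x) :=
    IsScalarTower.of_algebraMap_smul fun _ _ => rfl
  exact mem_smul_top_of_local p (Groth.L20.ModStalk.germₗ P hxV) q₁ q₂ hq₁ hq₂ h₁ h₂ hrad hloc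

end Groth.L21.TFNodal
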