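import Groth.Agent.L21.TFNodal.NodePush
import Groth.Agent.L29.DCoh.PCQCoh
import Mathlib.RingTheory.OrzechProperty
import Mathlib.LinearAlgebra.TensorProduct.RightExactness

/-!
The unit `F → π_*π^*F` and its reduction `F → π_*E₀` on the normalisation of a nodal curve.
-/

set_option autoImplicit false
set_option backward.isDefEq.respectTransparency false
set_option linter.style.haveILetI false
set_option maxSynthPendingDepth 3

universe u

open CategoryTheory CategoryTheory.Limits AlgebraicGeometry TopologicalSpace IsLocalRing TensorProduct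

noncomputable section

namespace Groth.L21.TFNodal

variable {k : Type u} [Field k] {X Y : Scheme.{u}} [X.Over (Spec (CommRingCat.of k))] {π : Y ⟶ X} {U : X.Opens}

theorem injective_stalk_of_app_injective {F P : X.Modules} [Coh.IsQCoh F] (β : F ⟶ P)
    {V : X.Opens} (hV : IsAffineOpen V) {x : X} (hxV : x ∈ V) (hinj : Function.Injective (β.app V))
    (hP : letI := Groth.L20.ModStalk.stalkModule P hxV
      IsLocalizedModule (hV.primeIdealOf ⟨x, hxV⟩).asIdeal.primeCompl (Groth.L20.ModStalk.germₗ P hxV)) :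
    Function.Injective ((Groth.L00.Stk.F X x).map β).hom := by
  letI := Groth.L20.ModStalk.stalkModule P hxV
  letI := Groth.L20.ModStalk.stalkModule F hxV
  letI := X.presheaf.algebra_section_stalk ⟨x, hxV⟩
  haveI := hV.isLocalization_stalk ⟨x, hxV⟩
  haveI := Groth.L20.ModStalk.isLocalizedModule_germ F hV hxV
  haveI := hP
  refine (injective_iff_map_eq_zero _).2 fun (v : F.presheaf.stalk x) hv => ?_
  obtain ⟨⟨s, t⟩, hst⟩ := IsLocalizedModule.surj (hV.primeIdealOf ⟨x, hxV⟩).asIdeal.primeCompl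
    (Groth.L20.ModStalk.germₗ F hxV) v
  have h1 : (Groth.L20.ModStalk.germₗ P hxV) (β.app V s) = 0 := by
    refine (Groth.L21.Mod.stalkF_map_germ β V x hxV s).symm.trans ?_
    show ((Groth.L00.Stk.F X x).map β).hom ((Groth.L20.ModStalk.germₗ F hxV) s) = 0
    rw [← hst]
    exact (((Groth.L00.Stk.F X x).map β).hom.map_smul (X.presheaf.germ V x hxV (t : Γ(X, V))) v).trans
      (by rw [hv, smul_zero])
  obtain ⟨t', ht'⟩ := (IsLocalizedModule.eq_zero_iff (hV.primeIdealOf ⟨x, hxV⟩).asIdeal.primeCompl _).1 h1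
  have h2 : (t' : Γ(X, V)) • s = 0 := by
    refine hinj ?_
    rw [map_zero]
    exact (β.app_smul (t' : Γ(X, V)) s).trans ht'
  have h3 : (Groth.L20.ModStalk.germₗ F hxV) s = 0 :=
    (IsLocalizedModule.eq_zero_iff (hV.primeIdealOf ⟨x, hxV⟩).asIdeal.primeCompl _).2 ⟨t', h2⟩
  obtain ⟨w, hw⟩ := (IsLocalization.map_units (X.presheaf.stalk x) t).exists_left_inv
  rw [← hst] at h3
  have h4 : w • (show F.presheaf.stalk x from (t : Γ(X, V)) • v) = 0 := (congrArg (w • ·) h3).trans (smul_zero w)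
  exact (one_smul _ v).symm.trans (((congrArg (· • v) hw).symm.trans (mul_smul w _ v)).trans h4)

theorem isTorsionFree_of_type {r : ℕ} {F : X.Modules} {a : X → ℕ}
    (hfree : ∀ x : X, ¬ Curv2.IsNode k X x →
      Nonempty (F.presheaf.stalk x ≃ₗ[X.presheaf.stalk x] (Fin r → X.presheaf.stalk x)))
    (htype : ∀ x : X, Curv2.IsNode k X x → a x ≤ r ∧
      Nonempty (F.presheaf.stalk x ≃ₗ[X.presheaf.stalk x]
        ((Fin (a x) → X.presheaf.stalk x) × (Fin (r - a x) → maximalIdeal (X.presheaf.stalk x))))) :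
    TorSh.IsTorsionFree F := by
  intro x
  refine ⟨fun c hc v w hvw => ?_⟩
  by_cases hx : Curv2.IsNode k X x
  · obtain ⟨e⟩ := (htype x hx).2
    have h := congrArg e hvw
    simp only [map_smul] at h
    exact e.injective (Prod.ext (funext fun i => hc.left (congrFun (congrArg Prod.fst h) i))
      (funext fun i => Subtype.ext (hc.left (congrArg Subtype.val (congrFun (congrArg Prod.snd h) i)))))
  · obtain ⟨e⟩ := hfree x hx
    have h := congrArg e hvw
    simp only [map_smul] at h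
    exact e.injective (funext fun i => hc.left (congrFun h i))

variable (π) in
set_option maxHeartbeats 800000 in
theorem exists_basis_nhd [IsFinite π] {E : Y.Modules} [Coh.IsQCoh E] {r : ℕ}
    (hE : FlatMod.IsFinLocFreeOfRank r E) {W : X.Opens} {x : X} (hx : x ∈ W) :
    ∃ (V : X.Opens), IsAffineOpen V ∧ x ∈ V ∧ V ≤ W ∧
      Nonempty (Γ(E, π ⁻¹ᵁ V) ≃ₗ[Γ(Y, π ⁻¹ᵁ V)] (Fin r → Γ(Y, π ⁻¹ᵁ V))) := by
  obtain ⟨V₀, hV₀, hxV₀, hV₀W⟩ := exists_isAffineOpen_mem_and_subset hx
  obtain ⟨U', hZU, hU'V, ⟨e⟩⟩ := Groth.L18.FreeFin.exists_free_nhd hE (π ⁻¹' {x})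
    (IsFinite.finite_preimage_singleton π x) (hV₀.preimage π)
    (fun y hy => show π y ∈ V₀ from (show π y = x from hy) ▸ hxV₀)
  obtain ⟨s, hs⟩ := Groth.L17.FinLocBases.exists_isBasis E e
  let W₁ : X.Opens := ⟨(π '' (U' : Set Y)ᶜ)ᶜ, (π.isClosedMap _ U'.2.isClosed_compl).isOpen_compl⟩
  have hxW₁ : x ∈ W₁ := fun ⟨y, hy, hyx⟩ => hy (hZU hyx)
  obtain ⟨V, hV, hxV, hVle⟩ := exists_isAffineOpen_mem_and_subset (x := x) (U := W₁ ⊓ V₀) ⟨hxW₁, hxV₀⟩
  have hle : π ⁻¹ᵁ V ≤ U'.ι ''ᵁ ⊤ := by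
    rw [Scheme.Hom.image_top_eq_opensRange, Scheme.Opens.opensRange_ι]
    intro y hy
    by_contra hyU
    exact (hVle hy).1 ⟨y, hyU, rfl⟩
  have hb := (Groth.L19.ProjBdl.isBasisOn_of_locBases hs).mono hle _ le_rfl
  refine ⟨V, hV, hxV, fun z hz => hV₀W (hVle hz).2, ⟨(LinearEquiv.ofBijective
    { toFun := fun c => Groth.L19.ProjBdl.lc E _ le_rfl c
      map_add' := fun c d => ?_
      map_smul' := fun t c => ?_ } hb).symm⟩⟩
  · simp only [Groth.L19.ProjBdl.lc, Pi.add_apply, add_smul, Finset.sum_add_distrib]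
  · simp only [Groth.L19.ProjBdl.lc, Pi.smul_apply, smul_eq_mul, Finset.smul_sum, mul_smul, RingHom.id_apply]

theorem isBaseChange_congr {R B M M'' : Type u} [CommRing R] [CommRing B] [AddCommGroup M] [Module R M]
    [AddCommGroup M''] [Module B M''] [mR : Module R M''] (φ ψ : R →+* B) (e : φ = ψ)
    (hm : ∀ (a : R) (z : M''), a • z = ψ a • z)
    (q : letI := Module.compHom M'' φ; M →ₗ[R] M'') (u : M →ₗ[R] M'')
    (hqu : ∀ m, (letI := Module.compHom M'' φ; q m) = u m)
    (h : letI := φ.toAlgebra; letI := Module.compHom M'' φ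
      haveI : IsScalarTower R B M'' := IsScalarTower.of_algebraMap_smul fun _ _ => rfl
      IsBaseChange B q) :
    letI := ψ.toAlgebra
    haveI : IsScalarTower R B M'' := IsScalarTower.of_algebraMap_smul fun a z => (hm a z).symm
    IsBaseChange B u := by
  subst e
  obtain rfl : mR = Module.compHom M'' φ := Module.ext' _ _ hm
  letI := Module.compHom M'' φ
  obtain rfl : q = u := LinearMap.ext hqu
  exact h

set_option maxHeartbeats 800000 in
theorem isBaseChange_unit [IsFinite π] (F : X.Modules) [Coh.IsQCoh F] {V : X.Opens} (hV : IsAffineOpen V) :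
    letI := (π.app V).hom.toAlgebra
    letI := pushModule (π := π) ((Scheme.Modules.pullback π).obj F) V
    ∃ u : Γ(F, V) →ₗ[Γ(X, V)] Γ((Scheme.Modules.pushforward π).obj ((Scheme.Modules.pullback π).obj F), V),
      (∀ s, u s = ((Scheme.Modules.pullbackPushforwardAdjunction π).unit.app F).app V s) ∧
      (haveI : IsScalarTower Γ(X, V) Γ(Y, π ⁻¹ᵁ V)
          Γ((Scheme.Modules.pushforward π).obj ((Scheme.Modules.pullback π).obj F), V) :=
        IsScalarTower.of_algebraMap_smul fun _ _ => rfl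
       IsBaseChange Γ(Y, π ⁻¹ᵁ V) u) := by
  letI := (π.app V).hom.toAlgebra
  letI := pushModule (π := π) ((Scheme.Modules.pullback π).obj F) V
  haveI : IsScalarTower Γ(X, V) Γ(Y, π ⁻¹ᵁ V)
      Γ((Scheme.Modules.pushforward π).obj ((Scheme.Modules.pullback π).obj F), V) :=
    IsScalarTower.of_algebraMap_smul fun _ _ => rfl
  let u : Γ(F, V) →ₗ[Γ(X, V)] Γ((Scheme.Modules.pushforward π).obj ((Scheme.Modules.pullback π).obj F), V) :=
    { toFun := fun s => ((Scheme.Modules.pullbackPushforwardAdjunction π).unit.app F).app V s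
      map_add' := fun a b => map_add _ a b
      map_smul' := fun a s => Scheme.Modules.Hom.app_smul _ a s }
  refine ⟨u, fun s => rfl, ?_⟩
  have h := Groth.L16.AffineBC.isBaseChange_pull π F hV (hV.preimage π) (le_rfl : π ⁻¹ᵁ V ≤ π ⁻¹ᵁ V)
  exact isBaseChange_congr (π.appLE V (π ⁻¹ᵁ V) le_rfl).hom (π.app V).hom (by rw [Scheme.Hom.app_eq_appLE])
    (fun a z => rfl) _ u (fun s => Groth.L18.Frame.rs_self _ _ _) h

theorem span_range_of_isBaseChange {R B M M'' : Type u} [CommRing R] [CommRing B] [Algebra R B]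
    [AddCommGroup M] [Module R M] [AddCommGroup M''] [Module R M''] [Module B M''] [IsScalarTower R B M'']
    (u : M →ₗ[R] M'') (hu : IsBaseChange B u) : Submodule.span B (Set.range u) = ⊤ := by
  refine eq_top_iff.2 fun z _ => ?_
  obtain ⟨t, rfl⟩ := hu.equiv.surjective z
  clear * -
  induction t with
  | zero => rw [map_zero]; exact zero_mem _
  | tmul b m =>
    rw [IsBaseChange.equiv_tmul]
    exact Submodule.smul_mem _ _ (Submodule.subset_span ⟨m, rfl⟩)
  | add a b ha hb => rw [map_add]; exact add_mem ha hb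

set_option maxHeartbeats 1000000 in
theorem generates_unit [IsFinite π] (F : X.Modules) [Coh.IsQCoh F] :
    Generates ((Scheme.Modules.pullbackPushforwardAdjunction π).unit.app F) := by
  intro V hV
  letI := (π.app V).hom.toAlgebra
  letI := pushModule (π := π) ((Scheme.Modules.pullback π).obj F) V
  haveI : IsScalarTower Γ(X, V) Γ(Y, π ⁻¹ᵁ V)
      Γ((Scheme.Modules.pushforward π).obj ((Scheme.Modules.pullback π).obj F), V) :=
    IsScalarTower.of_algebraMap_smul fun _ _ => rfl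
  obtain ⟨u, hu, hbc⟩ := isBaseChange_unit (π := π) F hV
  exact (congrArg (Submodule.span Γ(Y, π ⁻¹ᵁ V)) (congrArg Set.range (funext fun s => (hu s).symm))).trans
    (span_range_of_isBaseChange u hbc)

set_option maxHeartbeats 1000000 in
theorem generates_comp [IsFinite π] {F : X.Modules} [Coh.IsQCoh F] {E₀ : Y.Modules} [Coh.IsQCoh E₀]
    (p : (Scheme.Modules.pullback π).obj F ⟶ E₀) [Epi p] :
    Generates ((Scheme.Modules.pullbackPushforwardAdjunction π).unit.app F ≫
      (Scheme.Modules.pushforward π).map p) := by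
  intro V hV
  haveI : Coh.IsQCoh ((Scheme.Modules.pullback π).obj F) := Groth.L16.AffineBC.isQCoh_pullback π F
  letI := pushModule (π := π) E₀ V
  letI := pushModule (π := π) ((Scheme.Modules.pullback π).obj F) V
  let P : Γ((Scheme.Modules.pullback π).obj F, π ⁻¹ᵁ V) →ₗ[Γ(Y, π ⁻¹ᵁ V)] Γ(E₀, π ⁻¹ᵁ V) :=
    { toFun := fun s => p.app (π ⁻¹ᵁ V) s
      map_add' := fun a b => map_add _ a b
      map_smul' := fun a s => p.app_smul a s }
  let η : Γ(F, V) → Γ((Scheme.Modules.pullback π).obj F, π ⁻¹ᵁ V) :=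
    fun s => ((Scheme.Modules.pullbackPushforwardAdjunction π).unit.app F).app V s
  have h1 : Submodule.map P (Submodule.span Γ(Y, π ⁻¹ᵁ V) (Set.range η)) = ⊤ := by
    rw [show Submodule.span Γ(Y, π ⁻¹ᵁ V) (Set.range η) = ⊤ from generates_unit F V hV,
      Submodule.map_top, LinearMap.range_eq_top]
    exact Groth.L16.AffineBC.surjective_app_of_epi p (hV.preimage π)
  rw [Submodule.map_span, ← Set.range_comp] at h1
  exact h1

variable (h : Setting k X Y π U)

set_option maxHeartbeats 1000000 in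
include h in
theorem injective_stalk_unit {F' : X.Modules} [Coh.IsQCoh ((Scheme.Modules.pullback π).obj F')] [Coh.IsQCoh F'] {x : X} (hx : x ∈ U) :
    Function.Injective
      ((Groth.L00.Stk.F X x).map ((Scheme.Modules.pullbackPushforwardAdjunction π).unit.app F')).hom := by
  haveI := h.finite; haveI := h.iso
  obtain ⟨V, hV, hxV, hVU⟩ := exists_isAffineOpen_mem_and_subset (x := x) (U := U) hx
  haveI := Groth.L07.BlowLib.isIso_app_of_le π (C := U) inferInstance V hVU
  haveI : Coh.IsQCoh ((𝟭 X.Modules).obj F') := inferInstanceAs (Coh.IsQCoh F')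
  refine injective_stalk_of_app_injective _ hV hxV ?_
    (Groth.L20.ModStalk.isLocalizedModule_germ_push π _ hV (hV.preimage π) hxV)
  letI := (π.app V).hom.toAlgebra
  letI := pushModule (π := π) ((Scheme.Modules.pullback π).obj F') V
  haveI : IsScalarTower Γ(X, V) Γ(Y, π ⁻¹ᵁ V)
      Γ((Scheme.Modules.pushforward π).obj ((Scheme.Modules.pullback π).obj F'), V) :=
    IsScalarTower.of_algebraMap_smul fun _ _ => rfl
  obtain ⟨u, hu, hbc⟩ := isBaseChange_unit (π := π) F' hV
  let c : Γ(Y, π ⁻¹ᵁ V) ≃ₗ[Γ(X, V)] Γ(X, V) := (LinearEquiv.ofBijective (Algebra.linearMap Γ(X, V) Γ(Y, π ⁻¹ᵁ V))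
    (ConcreteCategory.bijective_of_isIso (π.app V))).symm
  have hmk : ∀ s : Γ(F', V), u s = hbc.equiv ((1 : Γ(Y, π ⁻¹ᵁ V)) ⊗ₜ s) := fun s => by
    rw [IsBaseChange.equiv_tmul, one_smul]
  intro s t hst
  have hst' : u s = u t := (hu s).trans (hst.trans (hu t).symm)
  rw [hmk, hmk] at hst'
  have h2 := congrArg (TensorProduct.lid Γ(X, V) Γ(F', V) ∘ TensorProduct.congr c (LinearEquiv.refl _ _))
    (hbc.equiv.injective hst')
  have hc1 : c 1 = 1 := by
    rw [LinearEquiv.symm_apply_eq]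
    exact ((π.app V).hom.map_one).symm
  simp only [Function.comp_apply, TensorProduct.congr_tmul, LinearEquiv.refl_apply, TensorProduct.lid_tmul, hc1,
    one_smul] at h2
  exact h2

variable {F : X.Modules} {G : Y.Modules} (β : F ⟶ (Scheme.Modules.pushforward π).obj G)

set_option maxHeartbeats 1600000 in
include h in
theorem injective_stalk_of_free [Coh.IsQCoh G] (hgen : Generates β) {r : ℕ}
    (hG : FlatMod.IsFinLocFreeOfRank r G) {x : X} (hx : x ∈ U)
    (e : F.presheaf.stalk x ≃ₗ[X.presheaf.stalk x] (Fin r → X.presheaf.stalk x)) :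
    Function.Injective ((Groth.L00.Stk.F X x).map β).hom := by
  haveI := h.finite; haveI := h.iso
  obtain ⟨V, hV, hxV, hVU, ⟨b⟩⟩ := exists_basis_nhd π hG (W := U) hx
  haveI := Groth.L07.BlowLib.isIso_app_of_le π (C := U) inferInstance V hVU
  let P := (Scheme.Modules.pushforward π).obj G
  letI := (π.app V).hom.toAlgebra
  letI := X.presheaf.algebra_section_stalk ⟨x, hxV⟩
  haveI := hV.isLocalization_stalk ⟨x, hxV⟩
  letI := pushModule (π := π) G V
  haveI : IsScalarTower Γ(X, V) Γ(Y, π ⁻¹ᵁ V) Γ(P, V) := IsScalarTower.of_algebraMap_smul fun _ _ => rfl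
  letI := Groth.L20.ModStalk.stalkModule P hxV
  haveI : IsScalarTower Γ(X, V) (X.presheaf.stalk x) (P.presheaf.stalk x) :=
    IsScalarTower.of_algebraMap_smul fun _ _ => rfl
  haveI := Groth.L20.ModStalk.isLocalizedModule_germ_push π G hV (hV.preimage π) hxV
  let c : Γ(Y, π ⁻¹ᵁ V) ≃ₗ[Γ(X, V)] Γ(X, V) := (LinearEquiv.ofBijective (Algebra.linearMap Γ(X, V) Γ(Y, π ⁻¹ᵁ V))
    (ConcreteCategory.bijective_of_isIso (π.app V))).symm
  let b' : Γ(P, V) ≃ₗ[Γ(X, V)] (Fin r → Γ(X, V)) :=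
    (show Γ(P, V) ≃ₗ[Γ(Y, π ⁻¹ᵁ V)] (Fin r → Γ(Y, π ⁻¹ᵁ V)) from b).restrictScalars Γ(X, V) ≪≫ₗ
      LinearEquiv.piCongrRight fun _ => c
  let eP : P.presheaf.stalk x ≃ₗ[X.presheaf.stalk x] (Fin r → X.presheaf.stalk x) :=
    (IsLocalizedModule.isBaseChange (hV.primeIdealOf ⟨x, hxV⟩).asIdeal.primeCompl (X.presheaf.stalk x)
      (Groth.L20.ModStalk.germₗ P hxV)).equiv.symm ≪≫ₗ
      AlgebraTensorModule.congr (LinearEquiv.refl _ (X.presheaf.stalk x)) b' ≪≫ₗ
      TensorProduct.piScalarRight Γ(X, V) (X.presheaf.stalk x) (X.presheaf.stalk x) (Fin r)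
  let ω : F.presheaf.stalk x →ₗ[X.presheaf.stalk x] P.presheaf.stalk x := ((Groth.L00.Stk.F X x).map β).hom
  have hbij : Function.Injective (eP.toLinearMap ∘ₗ ω ∘ₗ e.symm.toLinearMap) :=
    OrzechProperty.injective_of_surjective_endomorphism _
      (eP.surjective.comp ((surjective_stalk_of_mem h β hgen hx).comp e.symm.surjective))
  intro v w hvw
  apply e.injective
  refine hbij ?_
  show eP (ω (e.symm (e v))) = eP (ω (e.symm (e w)))
  rw [e.symm_apply_apply, e.symm_apply_apply]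
  exact congrArg eP hvw

set_option maxHeartbeats 1000000 in
include h in
theorem length_fibre_free [IsAlgClosed k] [IsProper (X ↘ Spec (CommRingCat.of k))] {r : ℕ} {x : X}
    (hx : Curv2.IsNode k X x) {V : X.Opens} (hV : IsAffineOpen V) (hxV : x ∈ V)
    (b : Γ(G, π ⁻¹ᵁ V) ≃ₗ[Γ(Y, π ⁻¹ᵁ V)] (Fin r → Γ(Y, π ⁻¹ᵁ V))) :
    letI := X.presheaf.algebra_section_stalk ⟨x, hxV⟩
    Module.length (ResidueField (X.presheaf.stalk x))
      (ResidueField (X.presheaf.stalk x) ⊗[Γ(X, V)] Γ((Scheme.Modules.pushforward π).obj G, V)) =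
        ((r * 2 : ℕ) : ℕ∞) := by
  haveI := h.finite
  let P := (Scheme.Modules.pushforward π).obj G
  letI := (π.app V).hom.toAlgebra
  letI := X.presheaf.algebra_section_stalk ⟨x, hxV⟩
  letI := pushModule (π := π) G V
  haveI : IsScalarTower Γ(X, V) Γ(Y, π ⁻¹ᵁ V) Γ(P, V) := IsScalarTower.of_algebraMap_smul fun _ _ => rfl
  haveI : Module.Finite Γ(X, V) Γ(Y, π ⁻¹ᵁ V) := π.finite_app V hV
  let κ := ResidueField (X.presheaf.stalk x)
  let e : κ ⊗[Γ(X, V)] Γ(P, V) ≃ₗ[κ] (Fin r → κ ⊗[Γ(X, V)] Γ(Y, π ⁻¹ᵁ V)) :=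
    AlgebraTensorModule.congr (LinearEquiv.refl κ κ)
      ((show Γ(P, V) ≃ₗ[Γ(Y, π ⁻¹ᵁ V)] (Fin r → Γ(Y, π ⁻¹ᵁ V)) from b).restrictScalars Γ(X, V)) ≪≫ₗ
      TensorProduct.piRight Γ(X, V) κ κ (fun _ : Fin r => Γ(Y, π ⁻¹ᵁ V))
  rw [e.length_eq, Module.length_pi, ENat.card_eq_coe_fintype_card, Fintype.card_fin, Module.length_eq_finrank,
    (node_facts h hx hV hxV).2, Nat.cast_mul]

set_option maxHeartbeats 1000000 in
include h in
theorem length_fibre_pullback [IsAlgClosed k] [IsProper (X ↘ Spec (CommRingCat.of k))] [Coh.IsQCoh F]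
    (hF : Coh.IsCoh F) {x : X} (hx : Curv2.IsNode k X x) {r a : ℕ}
    (e : F.presheaf.stalk x ≃ₗ[X.presheaf.stalk x]
      ((Fin a → X.presheaf.stalk x) × (Fin (r - a) → maximalIdeal (X.presheaf.stalk x))))
    {V : X.Opens} (hV : IsAffineOpen V) (hxV : x ∈ V) :
    letI := X.presheaf.algebra_section_stalk ⟨x, hxV⟩
    Module.length (ResidueField (X.presheaf.stalk x))
      (ResidueField (X.presheaf.stalk x) ⊗[Γ(X, V)]
        Γ((Scheme.Modules.pushforward π).obj ((Scheme.Modules.pullback π).obj F), V)) =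
        ((2 * (a + (r - a) * 2) : ℕ) : ℕ∞) := by
  haveI := h.finite; haveI := h.noetherian; haveI := h.reduced
  let P := (Scheme.Modules.pushforward π).obj ((Scheme.Modules.pullback π).obj F)
  letI := (π.app V).hom.toAlgebra
  letI := X.presheaf.algebra_section_stalk ⟨x, hxV⟩
  haveI := hV.isLocalization_stalk ⟨x, hxV⟩
  letI := pushModule (π := π) ((Scheme.Modules.pullback π).obj F) V
  haveI : IsScalarTower Γ(X, V) Γ(Y, π ⁻¹ᵁ V) Γ(P, V) := IsScalarTower.of_algebraMap_smul fun _ _ => rfl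
  haveI : Module.Finite Γ(X, V) Γ(Y, π ⁻¹ᵁ V) := π.finite_app V hV
  haveI := Groth.L20.ModStalk.finite_sections F hF hV
  obtain ⟨u, -, hbc⟩ := isBaseChange_unit (π := π) F hV
  letI := Groth.L20.ModStalk.stalkModule F hxV
  haveI : IsScalarTower Γ(X, V) (X.presheaf.stalk x) (F.presheaf.stalk x) :=
    IsScalarTower.of_algebraMap_smul fun _ _ => rfl
  haveI := Groth.L20.ModStalk.isLocalizedModule_germ F hV hxV
  have h1 := length_quot_eq (A := X.presheaf.stalk x) (hV.primeIdealOf ⟨x, hxV⟩).asIdeal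
    (Groth.L20.ModStalk.germₗ F hxV)
  rw [length_quot_type (finrank_cotangent_node h.hdim hx) e, Module.length_eq_finrank] at h1
  rw [length_residue_baseChange (A := X.presheaf.stalk x) u hbc, (node_facts h hx hV hxV).2]
  exact_mod_cast congrArg (fun n : ℕ∞ => 2 * n) h1.symm

end Groth.L21.TFNodal
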