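import Groth.Agent.L21.TFNodal.Suite
import Groth.Agent.L22.CurveDeg.ZeroDim
import Groth.Agent.S18770

/-!
Factorisation through `F → π_*E₀` on the normalisation of a nodal curve.
-/

set_option autoImplicit false
set_option backward.isDefEq.respectTransparency false
set_option linter.style.haveILetI false
set_option maxSynthPendingDepth 3

universe u

open CategoryTheory CategoryTheory.Limits AlgebraicGeometry TopologicalSpace IsLocalRing

noncomputable section

namespace Groth.L21.TFNodal

theorem isTorsionFree_of_rank {Y : Scheme.{u}} {E : Y.Modules} {r : ℕ} (hE : FlatMod.IsFinLocFreeOfRank r E) :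
    TorSh.IsTorsionFree E := by
  intro y
  obtain ⟨e'⟩ := Groth.L22.CurveDeg.nonempty_stalk_equiv hE y
  let e := e'.symm
  refine ⟨fun c hc v w hvw => ?_⟩
  have h := congrArg e (show c • v = c • w from hvw)
  simp only [map_smul] at h
  exact e.injective (funext fun i => hc.left (congrFun h i))

theorem isQCoh_of_rank {Y : Scheme.{u}} {E : Y.Modules} {r : ℕ} (hE : FlatMod.IsFinLocFreeOfRank r E) :
    Coh.IsQCoh E :=
  Groth.L29.DC.PCQCoh.isQCoh_of_isFinLocFree (fun y => let ⟨W, hy, e⟩ := hE y; ⟨W, r, hy, e⟩)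

/-- A map out of a torsion-free module which is injective on stalks over a dense open is mono. -/
theorem mono_of_injective_on_dense {Y : Scheme.{u}} [IsLocallyNoetherian Y] [AlgebraicGeometry.IsReduced Y]
    {A B : Y.Modules} [Coh.IsQCoh A] (hA : TorSh.IsTorsionFree A) (φ : A ⟶ B) (D : Y.Opens)
    (hD : Dense (D : Set Y)) (hinj : ∀ y ∈ D, Function.Injective ((Groth.L00.Stk.F Y y).map φ).hom) : Mono φ := by
  rw [Groth.L21.Mod.mono_iff_stalk_injective]
  intro x
  refine (injective_iff_map_eq_zero _).2 fun v hv => ?_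
  obtain ⟨W, hxW, s, rfl⟩ := TopCat.Presheaf.exists_germ_eq A.presheaf v
  rw [Groth.L21.Mod.stalkF_map_germ] at hv
  obtain ⟨W', hxW', i₁, i₂, hW⟩ := TopCat.Presheaf.germ_eq B.presheaf x hxW hxW
    (φ.app W s) 0 (hv.trans (map_zero _).symm)
  let t : Γ(A, W') := Groth.L18.Frame.rs A i₁.le s
  have ht : φ.app W' t = 0 := by
    rw [Groth.L17.BC.PullSec.app_rs]
    exact hW.trans (map_zero _)
  have h0 : t = 0 := by
    refine eq_zero_of_dense A hA W' t D hD ?_
    refine TopCat.Presheaf.section_ext ⟨A.presheaf, A.isSheaf⟩ (W' ⊓ D) _ 0 fun z hz => ?_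
    rw [map_zero]
    refine (Groth.L20.ModStalk.germ_rs A inf_le_left hz t).trans (hinj z hz.2 ?_)
    rw [map_zero]
    exact (Groth.L21.Mod.stalkF_map_germ φ W' z hz.1 t).trans (by rw [ht, map_zero])
  calc A.presheaf.germ W x hxW s = A.presheaf.germ W' x hxW' t :=
        (Groth.L20.ModStalk.germ_rs A i₁.le hxW' s).symm
    _ = 0 := by rw [h0, map_zero]

/-- A map into a torsion-free module which vanishes on stalks over a dense open is zero. -/
theorem eq_zero_of_stalk_dense {Y : Scheme.{u}} [IsLocallyNoetherian Y] [AlgebraicGeometry.IsReduced Y]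
    {A B : Y.Modules} [Coh.IsQCoh B] (hB : TorSh.IsTorsionFree B) (φ : A ⟶ B) (D : Y.Opens)
    (hD : Dense (D : Set Y)) (h0 : ∀ y ∈ D, ∀ v, ((Groth.L00.Stk.F Y y).map φ).hom v = 0) : φ = 0 := by
  refine Scheme.Modules.hom_ext _ _ fun W => ?_
  ext s
  refine eq_zero_of_dense B hB W _ D hD ?_
  refine TopCat.Presheaf.section_ext ⟨B.presheaf, B.isSheaf⟩ (W ⊓ D) _ 0 fun z hz => ?_
  rw [map_zero]
  exact (Groth.L20.ModStalk.germ_rs B inf_le_left hz _).trans
    ((Groth.L21.Mod.stalkF_map_germ φ W z hz.1 s).symm.trans (h0 z hz.2 _))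

variable {k : Type u} [Field k] {X Y : Scheme.{u}} [X.Over (Spec (CommRingCat.of k))] {π : Y ⟶ X} {U : X.Opens}
  (h : Setting k X Y π U)

set_option maxHeartbeats 800000 in
include h in
/-- If `β = φ ≫ π_*q` is mono and `φ` generates, then `q` is injective over the dense open. -/
theorem injective_stalk_of_mem_preimage {F : X.Modules} {A B : Y.Modules} [Coh.IsQCoh A] [Coh.IsQCoh B]
    (φ : F ⟶ (Scheme.Modules.pushforward π).obj A) (hgen : Generates φ) (q : A ⟶ B)
    [Mono (φ ≫ (Scheme.Modules.pushforward π).map q)] {y : Y} (hy : π y ∈ U) :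
    Function.Injective ((Groth.L00.Stk.F Y y).map q).hom := by
  haveI := h.finite; haveI := h.iso
  obtain ⟨V, hV, hxV, hVU⟩ := exists_isAffineOpen_mem_and_subset (x := π y) (U := U) hy
  haveI := Groth.L07.BlowLib.isIso_app_of_le π (C := U) inferInstance V hVU
  refine injective_stalk_of_app_injective q (hV.preimage π) (show y ∈ π ⁻¹ᵁ V from hxV) ?_
    (Groth.L20.ModStalk.isLocalizedModule_germ B (hV.preimage π) _)
  letI := pushModule (π := π) A V
  have hsurj : Function.Surjective (φ.app V) := by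
    intro z
    have hz : z ∈ Submodule.span Γ(Y, π ⁻¹ᵁ V) (Set.range (φ.app V)) := (hgen V hV).symm ▸ Submodule.mem_top
    refine Submodule.closure_induction (p := fun z _ => ∃ s, φ.app V s = z) ⟨0, map_zero _⟩
      (fun a b _ _ ⟨s, hs⟩ ⟨t, ht⟩ => ⟨s + t, by rw [map_add, hs, ht]⟩) ?_ hz
    rintro b _ ⟨s, rfl⟩
    obtain ⟨a, rfl⟩ := (ConcreteCategory.bijective_of_isIso (π.app V)).2 b
    exact ⟨a • s, φ.app_smul a s⟩
  have hm : Function.Injective ((φ ≫ (Scheme.Modules.pushforward π).map q).app V) := by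
    intro s t hst
    refine TopCat.Presheaf.section_ext ⟨F.presheaf, F.isSheaf⟩ V s t fun z hz => ?_
    refine (Groth.L21.Mod.mono_iff_stalk_injective _).1 ‹_› z ?_
    rw [Groth.L21.Mod.stalkF_map_germ, Groth.L21.Mod.stalkF_map_germ, hst]
  intro z w hzw
  obtain ⟨s, rfl⟩ := hsurj z
  obtain ⟨t, rfl⟩ := hsurj w
  exact congrArg (φ.app V) (hm hzw)

theorem length_quot_comp {A N P Q : Type u} [CommRing A] [AddCommGroup N] [Module A N] [AddCommGroup P]
    [Module A P] [AddCommGroup Q] [Module A Q] (f : N →ₗ[A] P) (g : P →ₗ[A] Q) (hg : Function.Injective g) :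
    Module.length A (Q ⧸ LinearMap.range (g ∘ₗ f)) =
      Module.length A (P ⧸ LinearMap.range f) + Module.length A (Q ⧸ LinearMap.range g) := by
  have hr : LinearMap.range (g ∘ₗ f) = Submodule.map g (LinearMap.range f) := LinearMap.range_comp f g
  let f₁ : (P ⧸ LinearMap.range f) →ₗ[A] Q ⧸ LinearMap.range (g ∘ₗ f) :=
    Submodule.mapQ _ _ g (Submodule.map_le_iff_le_comap.1 hr.ge)
  let f₂ : (Q ⧸ LinearMap.range (g ∘ₗ f)) →ₗ[A] Q ⧸ LinearMap.range g :=
    Submodule.factor (LinearMap.range_comp_le_range f g)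
  refine Module.length_eq_add_of_exact f₁ f₂ ?_ (Submodule.factor_surjective _) ?_
  · refine (injective_iff_map_eq_zero _).2 fun x hx => ?_
    induction x using Submodule.Quotient.induction_on with
    | H n =>
      rw [Submodule.mapQ_apply, Submodule.Quotient.mk_eq_zero, hr] at hx
      obtain ⟨n', hn', e⟩ := hx
      exact (Submodule.Quotient.mk_eq_zero _).2 (hg e ▸ hn')
  · rw [LinearMap.exact_iff, Submodule.range_mapQ, Submodule.ker_mapQ]
    rw [Submodule.comap_id]

theorem length_coker_stalk {A B : X.Modules} (φ : A ⟶ B) (x : X) :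
    Module.length (X.presheaf.stalk x) ((cokernel φ).presheaf.stalk x) =
      Module.length (X.presheaf.stalk x) (_ ⧸ LinearMap.range ((Groth.L00.Stk.F X x).map φ).hom) := by
  haveI : PreservesColimit (parallelPair φ 0) (Groth.L00.Stk.F X x) := inferInstance
  exact (PreservesCokernel.iso (Groth.L00.Stk.F X x) φ ≪≫
    ModuleCat.cokernelIsoRangeQuotient _).toLinearEquiv.length_eq

/-- Lengths of cokernels add along a composite with a mono. -/
theorem length_coker_comp {A B C : X.Modules} (φ : A ⟶ B) (μ : B ⟶ C) [Mono μ] (x : X) :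
    Module.length (X.presheaf.stalk x) ((cokernel (φ ≫ μ)).presheaf.stalk x) =
      Module.length (X.presheaf.stalk x) ((cokernel φ).presheaf.stalk x) +
        Module.length (X.presheaf.stalk x) ((cokernel μ).presheaf.stalk x) := by
  rw [length_coker_stalk, length_coker_stalk, length_coker_stalk,
    ← length_quot_comp _ _ (show Function.Injective ((Groth.L00.Stk.F X x).map μ).hom from
      fun a b hab => (Groth.L21.Mod.mono_iff_stalk_injective μ).1 ‹_› x hab),
    show ((Groth.L00.Stk.F X x).map μ).hom ∘ₗ ((Groth.L00.Stk.F X x).map φ).hom =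
      ((Groth.L00.Stk.F X x).map (φ ≫ μ)).hom by rw [Functor.map_comp, ModuleCat.hom_comp]]

end Groth.L21.TFNodal
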