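import Groth.Agent.L21.TFNodal.Lattice
import Groth.Agent.L21.TFNodal.Factor
import Groth.Agent.L21.Disc.SuppLength
import Groth.Agent.L21.Bundle.Sub
import Groth.Agent.L21.RR.Coh
import Groth.Agent.L07.AssTensor
import Groth.Agent.L16.Existence.Lemmas
import Groth.Agent.L22.CurveDeg.ZeroDim
import Groth.Agent.L15.CohFlat

/-!
Modifications of a module inside another one at finitely many closed points.
-/

set_option autoImplicit false
set_option backward.isDefEq.respectTransparency false
set_option backward.isDefEq.respectTransparency.types false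
set_option linter.style.haveILetI false

universe u

open CategoryTheory CategoryTheory.Limits AlgebraicGeometry TopologicalSpace IsLocalRing
attribute [local instance] Curv2.resAlgebra

noncomputable section

namespace Groth.L21.TFNodal.Modif

open Groth.L21.Bundle (sm)

theorem exists_colength {A M : Type u} [CommRing A] [AddCommGroup M] [Module A M] (l : ℕ)
    (hl : (l : ℕ∞) ≤ Module.length A M) (hfin : Module.length A M ≠ ⊤) :
    ∃ P : Submodule A M, Module.length A (M ⧸ P) = l := by
  induction l with
  | zero =>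
    exact ⟨⊤, by
      haveI : Subsingleton (M ⧸ (⊤ : Submodule A M)) := Submodule.Quotient.subsingleton_iff.2 rfl
      rw [Module.length_eq_zero, Nat.cast_zero]⟩
  | succ l ih =>
    obtain ⟨P, hP⟩ := ih (le_trans (by exact_mod_cast Nat.le_succ l) hl)
    by_cases hne : Nontrivial P
    swap
    · haveI : Subsingleton P := not_nontrivial_iff_subsingleton.1 hne
      have h := Module.length_eq_add_of_exact P.subtype P.mkQ P.injective_subtype P.mkQ_surjective
        (LinearMap.exact_subtype_mkQ P)
      rw [hP, Module.length_eq_zero (R := A) (M := P), zero_add] at h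
      rw [h] at hl
      exact absurd (by exact_mod_cast hl : l + 1 ≤ l) (by omega)
    obtain ⟨m, hm⟩ : ∃ m : Submodule A P, IsSimpleModule A (P ⧸ m) := by
      haveI := (isFiniteLength_iff_isNoetherian_isArtinian.1 (Module.length_ne_top_iff.1 hfin)).1
      obtain ⟨m, hm, -⟩ := (eq_top_or_exists_le_coatom (⊥ : Submodule A P)).resolve_left bot_ne_top
      exact ⟨m, isSimpleModule_iff_isCoatom.2 hm⟩
    refine ⟨m.map P.subtype, ?_⟩
    have h := Groth.L21.TFNodal.length_quot_comp m.subtype P.subtype P.injective_subtype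
    rw [Submodule.range_subtype, Submodule.range_subtype, hP, Module.length_eq_one_iff.2 hm,
      LinearMap.range_comp, Submodule.range_subtype] at h
    rw [h, Nat.cast_succ, add_comm]

theorem exists_weights {α : Type*} (s : Finset α) (c : α → ℕ) {N : ℕ} (hN : N ≤ ∑ y ∈ s, c y) :
    ∃ l : α → ℕ, (∀ y ∈ s, l y ≤ c y) ∧ ∑ y ∈ s, l y = N := by
  classical
  induction s using Finset.induction_on generalizing N with
  | empty => exact ⟨0, fun _ _ => Nat.zero_le _, by simp only [Finset.sum_empty] at hN ⊢; omega⟩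
  | @insert y t hy ih =>
    rw [Finset.sum_insert hy] at hN
    obtain ⟨l, hl, hsum⟩ := ih (N := N - min N (c y)) (by omega)
    refine ⟨Function.update l y (min N (c y)), fun z hz => ?_, ?_⟩
    · rcases Finset.mem_insert.1 hz with rfl | hz
      · rw [Function.update_self]; exact min_le_right _ _
      · rw [Function.update_of_ne (fun e : z = y => hy (e ▸ hz))]; exact hl z hz
    · rw [Finset.sum_insert hy, Function.update_self,
        Finset.sum_congr rfl fun z hz => Function.update_of_ne (fun e : z = y => hy (e ▸ hz)) _ _, hsum]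
      omega

variable {X : Scheme.{u}}

theorem lift_of_range {A B C : X.Modules} (i : A ⟶ C) (j : B ⟶ C) [Mono j]
    (h : ∀ y, LinearMap.range (sm i y) ≤ LinearMap.range (sm j y)) : ∃ l : A ⟶ B, l ≫ j = i := by
  have h0 : i ≫ cokernel.π j = 0 := Groth.L21.Mod.hom_ext_stalk fun y => by
    ext v
    obtain ⟨w, hw⟩ := h y (LinearMap.mem_range_self (sm i y) v)
    have hz : (Groth.L00.Stk.F X y).map j ≫ (Groth.L00.Stk.F X y).map (cokernel.π j) = 0 := by
      rw [← Functor.map_comp, cokernel.condition, Functor.map_zero]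
    rw [Functor.map_comp, Functor.map_zero]
    show sm (cokernel.π j) y (sm i y v) = 0
    rw [← hw]
    exact congr($hz w)
  exact ⟨Abelian.monoLift j i h0, Abelian.monoLift_comp j i h0⟩

theorem exists_between [IsLocallyNoetherian X] {A B : X.Modules} (i : A ⟶ B) [Mono i] (hA : Coh.IsCoh A)
    (hB : Coh.IsCoh B) (S : Finset X) (hS : ∀ y ∈ S, IsClosed ({y} : Set X))
    (hoff : ∀ y ∉ S, Function.Surjective (sm i y)) (l : X → ℕ)
    (hl : ∀ y ∈ S, (l y : ℕ∞) ≤ Module.length (X.presheaf.stalk y) ((cokernel i).presheaf.stalk y))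
    (hfin : ∀ y ∈ S, Module.length (X.presheaf.stalk y) ((cokernel i).presheaf.stalk y) ≠ ⊤) :
    ∃ (E : X.Modules) (a : A ⟶ E) (b : E ⟶ B), Coh.IsCoh E ∧ Mono b ∧ a ≫ b = i ∧
      (∀ y ∈ S, Module.length (X.presheaf.stalk y) ((cokernel b).presheaf.stalk y) = l y) ∧
      ∀ y ∉ S, Function.Surjective (sm b y) := by
  classical
  haveI : Coh.IsQCoh B := hB.1
  have hex : ∀ y, y ∈ S → ∃ P : Submodule (X.presheaf.stalk y) (B.presheaf.stalk y),
      LinearMap.range (sm i y) ≤ P ∧ Module.length (X.presheaf.stalk y) (_ ⧸ P) = l y := fun y hy => by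
    have h1 := hl y hy
    rw [Groth.L21.TFNodal.length_coker_stalk] at h1
    have h2 := hfin y hy
    rw [Groth.L21.TFNodal.length_coker_stalk] at h2
    obtain ⟨P', hP'⟩ := exists_colength (l y) h1 h2
    let q := P'.mkQ ∘ₗ (LinearMap.range (sm i y)).mkQ
    refine ⟨LinearMap.ker q, fun v hv => ?_, ?_⟩
    · show q v = 0
      show P'.mkQ ((LinearMap.range (sm i y)).mkQ v) = 0
      erw [show (LinearMap.range (sm i y)).mkQ v = 0 from (Submodule.Quotient.mk_eq_zero _).2 hv, map_zero]
    · rw [(q.quotKerEquivOfSurjective (P'.mkQ_surjective.comp (Submodule.mkQ_surjective _))).length_eq]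
      exact hP'
  choose P hPi hPl using hex
  let D : Groth.L00.SubExtend.StalkSub B := fun y => if hy : y ∈ S then P y hy else ⊤
  have hle : ∀ y, LinearMap.range (sm i y) ≤ D y := fun y => by
    by_cases hy : y ∈ S
    · simp only [D, dif_pos hy]; exact hPi y hy
    · simp only [D, dif_neg hy]; exact le_top
  have hgood : Groth.L00.SubExtend.Good B ⊤ D := fun z _ => by
    have hcl : IsClosed ((S.erase z : Finset X) : Set X) := by
      rw [← Set.biUnion_of_singleton ((S.erase z : Finset X) : Set X)]
      exact Set.Finite.isClosed_biUnion (Finset.finite_toSet _) fun y hy => hS y (Finset.mem_of_mem_erase hy)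
    let O : X.Opens := ⟨((S.erase z : Finset X) : Set X)ᶜ, hcl.isOpen_compl⟩
    have hzO : z ∈ O := fun h => (Finset.mem_erase.1 h).1 rfl
    haveI : Module.Finite (X.presheaf.stalk z) (B.presheaf.stalk z) := Groth.L06.SupportStalk.finite_stalk B hB z
    obtain ⟨m, w, hw⟩ := Submodule.fg_iff_exists_fin_generating_family.1 (IsNoetherian.noetherian (D z))
    have hsec : ∀ q, ∃ (W : X.Opens) (hzW : z ∈ W) (s : Γ(B, W)), B.presheaf.germ W z hzW s = w q := fun q =>
      TopCat.Presheaf.exists_germ_eq B.presheaf (w q)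
    choose W hzW s hs using hsec
    obtain ⟨V, hV, hzV, hVO⟩ := exists_isAffineOpen_mem_and_subset (x := z) (U := O ⊓ Finset.univ.inf W)
      ⟨hzO, by
        show z ∈ ((Finset.univ.inf W : X.Opens) : Set X)
        rw [TopologicalSpace.Opens.coe_finset_inf]
        simp [hzW]⟩
    obtain ⟨n, t, ht⟩ := Groth.L21.TFNodal.Lat.exists_generators A hV hA
    have hVW : ∀ q, V ≤ W q := fun q => (show V ≤ O ⊓ Finset.univ.inf W from hVO).trans (inf_le_right.trans (Finset.inf_le (Finset.mem_univ q)))
    refine ⟨V, hV, hzV, le_top, m + n,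
      Fin.append (fun q => Groth.L18.Frame.rs B (hVW q) (s q)) (fun q => i.app V (t q)), fun y hy => ?_⟩
    have hrange : LinearMap.range (sm i y) =
        Submodule.span _ (Set.range fun q => B.presheaf.germ V y hy (i.app V (t q))) := by
      rw [LinearMap.range_eq_map, ← ht y hy, Groth.L00.SubExtend.gspan, Submodule.map_span, ← Set.range_comp]
      exact congrArg _ (congrArg Set.range (funext fun q => Groth.L21.Mod.stalkF_map_germ i V y hy (t q)))
    have hsub : LinearMap.range (sm i y) ≤ Groth.L00.SubExtend.gspan B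
        (Fin.append (fun q => Groth.L18.Frame.rs B (hVW q) (s q)) (fun q => i.app V (t q))) y hy := by
      rw [hrange]
      refine Submodule.span_mono ?_
      rintro _ ⟨q, rfl⟩
      exact ⟨Fin.natAdd m q, by simp⟩
    by_cases hyz : y = z
    · subst hyz
      have hgw : ∀ q, B.presheaf.germ V y hy (Groth.L18.Frame.rs B (hVW q) (s q)) = w q := fun q => by
        rw [Groth.L20.ModStalk.germ_rs]; exact hs q
      refine le_antisymm ?_ (Submodule.span_le.2 ?_)
      · rw [← hw]
        refine Submodule.span_mono ?_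
        rintro _ ⟨q, rfl⟩
        exact ⟨Fin.castAdd n q, by simp [hgw]⟩
      · rintro _ ⟨q, rfl⟩
        induction q using Fin.addCases with
        | left q => simp only [Fin.append_left, hgw]; rw [← hw]; exact Submodule.subset_span ⟨q, rfl⟩
        | right q =>
          simp only [Fin.append_right]
          exact hle y (hrange ▸ Submodule.subset_span ⟨q, rfl⟩)
    · have hyS : y ∉ S := fun h => (hVO hy).1 (Finset.mem_erase.2 ⟨hyz, h⟩)
      have htop : LinearMap.range (sm i y) = ⊤ := LinearMap.range_eq_top.2 (hoff y hyS)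
      simp only [D, dif_neg hyS]
      exact (top_unique (htop ▸ hsub)).symm
  obtain ⟨hq, hft⟩ := Groth.L00.SubExtend.isQCoh_isFT_sub B D hgood
  let E := Groth.L00.SubExtend.sub B D
  let b := Groth.L00.SubExtend.subι B D
  have hr : ∀ y, LinearMap.range (sm b y) = D y := fun y => by
    refine le_antisymm ?_ ?_
    · rintro _ ⟨v, rfl⟩
      obtain ⟨O, hy, e, rfl⟩ := TopCat.Presheaf.exists_germ_eq E.presheaf v
      rw [show sm b y _ = _ from Groth.L21.Mod.stalkF_map_germ b O y hy e, Groth.L00.SubExtend.subι_app]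
      exact (show Groth.L00.SubExtend.secs B D O from e).2 y hy
    · obtain ⟨V, hV, hy, -, n, t, ht⟩ := hgood y trivial
      rw [ht y hy]
      refine Submodule.span_le.2 ?_
      rintro _ ⟨q, rfl⟩
      refine ⟨E.presheaf.germ V y hy (show Groth.L00.SubExtend.secs B D V from
        ⟨t q, fun z hz => by rw [ht z hz]; exact Submodule.subset_span ⟨q, rfl⟩⟩), ?_⟩
      exact Groth.L21.Mod.stalkF_map_germ b V y hy _
  obtain ⟨a, ha⟩ := lift_of_range i b fun y => (hle y).trans (hr y).ge
  refine ⟨E, a, b, ⟨hq, hft⟩, inferInstance, ha, fun y hy => ?_, fun y hy => ?_⟩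
  · have hD : D y = P y hy := by simp only [D, dif_pos hy]
    exact (Groth.L21.TFNodal.length_coker_stalk b y).trans
      ((Submodule.quotEquivOfEq _ _ ((hr y).trans hD)).length_eq.trans (hPl y hy))
  · rw [← LinearMap.range_eq_top, hr y]
    simp only [D, dif_neg hy]

/-- A coherent submodule, equal on a dense open to a bundle, of a smooth curve is a bundle. -/
theorem rank_of_mono [IsLocallyNoetherian X] (hdom : ∀ y : X, IsDomain (X.presheaf.stalk y))
    (hpir : ∀ y : X, IsPrincipalIdealRing (X.presheaf.stalk y)) {r : ℕ} {I E : X.Modules} (φ : I ⟶ E) [Mono φ]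
    (hI : Coh.IsCoh I) (hE : FlatMod.IsFinLocFreeOfRank r E) (D : X.Opens) (hD : Dense (D : Set X))
    (hs : ∀ y ∈ D, Function.Surjective (sm φ y)) : FlatMod.IsFinLocFreeOfRank r I := by
  have hflat : FlatMod.IsFlat I := fun x => by
    haveI := hdom x
    haveI := hpir x
    obtain ⟨θ⟩ := Groth.L22.CurveDeg.nonempty_stalk_equiv hE x
    haveI := Groth.L06.SupportStalk.finite_stalk I hI x
    let ψ := θ.symm.toLinearMap.comp (sm φ x)
    have hψ : Function.Injective ψ := θ.symm.injective.comp (Groth.L21.Bundle.injective_sm φ x)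
    haveI : Module.IsTorsionFree (X.presheaf.stalk x) (I.presheaf.stalk x) :=
      hψ.moduleIsTorsionFree ψ (fun a m => map_smul ψ a m)
    haveI : Module.Free (X.presheaf.stalk x) (I.presheaf.stalk x) := Module.free_of_finite_type_torsion_free'
    exact inferInstanceAs (Module.Flat (X.presheaf.stalk x) (I.presheaf.stalk x))
  intro y
  obtain ⟨W, n, hyW, ⟨e⟩⟩ := Groth.L15.CohFlat.isFinLocFree_of_isCoh_isFlat I hI hflat y
  obtain ⟨z, hzW, hzD⟩ := hD.inter_open_nonempty (W : Set X) W.2 ⟨y, hyW⟩
  haveI := hdom z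
  obtain ⟨s, hsb⟩ := Groth.L17.FinLocBases.exists_isBasis I e
  have hU : W.ι ''ᵁ ⊤ = W := (Scheme.Hom.image_top_eq_opensRange W.ι).trans W.opensRange_ι
  let e1 : (Fin n → X.presheaf.stalk z) ≃ₗ[X.presheaf.stalk z] I.presheaf.stalk z := LinearEquiv.ofBijective
    (Fintype.linearCombination (X.presheaf.stalk z)
      fun j => Groth.L00.StalkTensor.germ (Groth.L00.Tensor.pre I) z (hU.symm ▸ hzW) (s j))
    (Groth.L17.PullBasis.bijective_stalk I s hsb z (hU.symm ▸ hzW))
  obtain ⟨θ⟩ := Groth.L22.CurveDeg.nonempty_stalk_equiv hE z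
  have := ((e1.trans (LinearEquiv.ofBijective (sm φ z) ⟨Groth.L21.Bundle.injective_sm φ z, hs z hzD⟩)).trans
    θ.symm).finrank_eq
  rw [Module.finrank_fin_fun, Module.finrank_fin_fun] at this
  subst this
  exact ⟨W, hyW, ⟨e⟩⟩

/-- Direct images along affine morphisms keep epimorphisms of quasi-coherent modules. -/
theorem epi_push {Y : Scheme.{u}} (g : Y ⟶ X) [IsAffineHom g] {F H : Y.Modules} [Coh.IsQCoh F] [Coh.IsQCoh H]
    (q : F ⟶ H) [Epi q] : Epi ((Scheme.Modules.pushforward g).map q) :=
  ⟨fun u v h => Groth.L16.AffineBC.hom_ext_affine _ _ fun U hU m => by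
    obtain ⟨y, rfl⟩ := Groth.L16.AffineBC.surjective_app_of_epi q (hU.preimage g) m
    exact ConcreteCategory.congr_hom (congrArg (fun t => Scheme.Modules.Hom.app t U) h) y⟩

section Euler

variable (k : Type u) [Field k] [IsAlgClosed k] [X.Over (Spec (CommRingCat.of k))]
  [IsProper (X ↘ Spec (CommRingCat.of k))]

/-- Lengths at closed points add up to the difference of Euler characteristics. -/
theorem euler_mono (hd : topologicalKrullDim X ≤ 1) {A B : X.Modules} (i : A ⟶ B) [Mono i] (hA : Coh.IsCoh A)
    (hB : Coh.IsCoh B) (S : Finset X) (hS : ∀ y ∈ S, IsClosed ({y} : Set X))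
    (hoff : ∀ y ∉ S, Subsingleton ((cokernel i).presheaf.stalk y)) :
    (∀ y, Module.length (X.presheaf.stalk y) ((cokernel i).presheaf.stalk y) ≠ ⊤) ∧
      Curv2.euler k X B = Curv2.euler k X A +
        ∑ y ∈ S, ((Module.length (X.presheaf.stalk y) ((cokernel i).presheaf.stalk y)).toNat : ℤ) := by
  haveI := Groth.L21.RR.isNoetherian_of_proper (X := X) k
  have hC := (Groth.L16.CohKernel.isCoh_kernel_cokernel hA hB i).2
  refine ⟨fun y => Module.length_ne_top_iff.2 (Groth.L07.AssTensor.isFiniteLength_stalk _ hC y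
    fun x' hx' hsp => ?_), ?_⟩
  · have hx'S : x' ∈ S := by
      by_contra hne
      haveI := hoff x' hne
      have h0 : Curv2.IsAssPoint (cokernel i) x' := hx'
      have h1 : IsLocalRing.maximalIdeal (X.presheaf.stalk x') ∈
          associatedPrimes (X.presheaf.stalk x') ((cokernel i).presheaf.stalk x') := h0
      rw [associatedPrimes.eq_empty_of_subsingleton] at h1
      exact h1
    have := hsp.mem_closed (hS x' hx'S) rfl
    exact this.symm
  have key := Groth.L21.RR.euler_add k hd (S := ShortComplex.mk i (cokernel.π i) (cokernel.condition i))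
    { exact := ShortComplex.exact_cokernel i } hA hB hC
  dsimp only at key
  rw [key, Groth.L21.RR.euler_eq_h0_of_suppClosed k (fun x hx => hoff x fun hxS => hx (hS x hxS)),
    Groth.L21.Disc.h0_eq_sum_length k hC S hS hoff, Nat.cast_sum]
  refine congrArg _ (Finset.sum_congr rfl fun y hy => ?_)
  haveI := Groth.L21.Disc.finite_residueField_of_isClosed k (hS y hy)
  have hbij : Function.Bijective (algebraMap k (X.residueField y)) := IsAlgClosed.algebraMap_bijective_of_isIntegral
  rw [← (LinearEquiv.ofBijective (Algebra.linearMap k (X.residueField y)) hbij).finrank_eq, Module.finrank_self,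
    mul_one]

end Euler

end Groth.L21.TFNodal.Modif
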