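import Groth.Agent.L15.TFCurve.Quot
import Groth.Agent.L00.SubExtendMain
import Groth.Agent.L21.Bundle.Sub
import Groth.Agent.L21.RedCurve.Basic
import Groth.Agent.L21.Mod.Stalks
import Groth.Agent.L20.ModStalk
import Groth.Agent.L06.SupportStalk

/-!
Coherent submodules of the constant sheaf at the generic point of a curve with prescribed lattices at finitely
many points.
-/

set_option autoImplicit false
set_option backward.isDefEq.respectTransparency false
set_option backward.isDefEq.respectTransparency.types false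
set_option linter.style.haveILetI false
universe u

open CategoryTheory CategoryTheory.Limits AlgebraicGeometry TopologicalSpace

noncomputable section

namespace Groth.L21.TFNodal.Lat

open Groth.L18.Frame (rs ro)
open Groth.L20.ModStalk (germ_rs germ_smul)
open Groth.L00.SubExtend (StalkSub gspan Good sub subι)
open Groth.L00.Sky (sky toHom)
open Groth.L15.TFCurve (toSky stalkSpecializes_smul)

/-- A closed subset of a Noetherian sober space all of whose points are closed is finite. -/
theorem finite_of_closed_points {T : Type u} [TopologicalSpace T] [NoetherianSpace T] [QuasiSober T]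
    {Z : Set T} (hZ : IsClosed Z) (h : ∀ z ∈ Z, IsClosed ({z} : Set T)) : Z.Finite := by
  haveI : QuasiSober Z := hZ.isClosedEmbedding_subtypeVal.quasiSober
  have hfin := NoetherianSpace.finite_irreducibleComponents (α := Z)
  refine Set.finite_coe_iff.1 ?_
  refine Set.finite_univ_iff.1 ((hfin.biUnion (t := fun C : Set Z => C) fun C hC => ?_).subset
    (fun z _ => Set.mem_biUnion (irreducibleComponent_mem_irreducibleComponents z) mem_irreducibleComponent))
  obtain ⟨η, hη⟩ := QuasiSober.sober hC.1 (isClosed_of_mem_irreducibleComponents C hC)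
  refine (Set.finite_singleton η).subset fun z hz => ?_
  have hcl : IsClosed ({η} : Set Z) := by
    have := (h η.1 η.2).preimage (continuous_subtype_val : Continuous (Subtype.val : Z → T))
    rwa [show (Subtype.val : Z → T) ⁻¹' {η.1} = {η} from Set.ext fun a => by simp [Subtype.ext_iff]] at this
  rw [← hη.def, hcl.closure_eq] at hz
  exact hz

variable {X : Scheme.{u}} [IsIntegral X]

local notation "η₀" => genericPoint X

theorem specializes_gen (x : X) : genericPoint X ⤳ x := (genericPoint_spec X).specializes trivial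

theorem gen_mem {V : X.Opens} {x : X} (hx : x ∈ V) : genericPoint X ∈ V := (specializes_gen x).mem_open V.2 hx

variable (F : X.Modules)

/-- The constant sheaf of generic values of `F`. -/
abbrev gsky : X.Modules := sky (genericPoint X) ((Groth.L00.Stk.F X (genericPoint X)).obj F)

/-- A generic value as a section. -/
def cst (V : X.Opens) (v : F.presheaf.stalk (genericPoint X)) : Γ(gsky F, V) := fun _ => v

/-- A generic value as a germ. -/
def gy (y : X) (v : F.presheaf.stalk (genericPoint X)) : (gsky F).presheaf.stalk y :=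
  (gsky F).presheaf.germ ⊤ y trivial (cst F ⊤ v)

theorem germ_cst {V : X.Opens} {y : X} (hy : y ∈ V) (v : F.presheaf.stalk (genericPoint X)) :
    (gsky F).presheaf.germ V y hy (cst F V v) = gy F y v :=
  germ_rs (gsky F) (le_top : V ≤ ⊤) hy (cst F ⊤ v)

theorem gy_injective (y : X) : Function.Injective (gy F y) := fun v w h => by
  obtain ⟨W, hyW, i₁, i₂, hW⟩ := TopCat.Presheaf.germ_eq (gsky F).presheaf y (show y ∈ (⊤ : X.Opens) from trivial) (show y ∈ (⊤ : X.Opens) from trivial) _ _ h
  exact congrFun hW ⟨gen_mem hyW⟩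

theorem gy_surjective (y : X) : Function.Surjective (gy F y) := fun w => by
  obtain ⟨V, hy, s, rfl⟩ := TopCat.Presheaf.exists_germ_eq (gsky F).presheaf w
  refine ⟨s ⟨gen_mem hy⟩, ?_⟩
  rw [← germ_cst F hy]
  congr 1

theorem gy_add (y : X) (v w : F.presheaf.stalk (genericPoint X)) : gy F y (v + w) = gy F y v + gy F y w := by
  rw [gy, gy, gy, ← map_add]
  rfl

theorem gy_zero (y : X) : gy F y 0 = 0 := by
  rw [gy]
  exact map_zero _

theorem gy_smul (y : X) (r : X.presheaf.stalk y) (v : F.presheaf.stalk (genericPoint X)) :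
    r • gy F y v = gy F y ((X.presheaf.stalkSpecializes (specializes_gen y) r : X.presheaf.stalk (genericPoint X)) • v) := by
  obtain ⟨V, hy, a, rfl⟩ := TopCat.Presheaf.exists_germ_eq X.presheaf r
  rw [← germ_cst F hy, ← germ_cst F hy, ← germ_smul, TopCat.Presheaf.germ_stalkSpecializes_apply]
  congr 1

theorem gy_sum {ι : Type*} (y : X) (s : Finset ι) (f : ι → F.presheaf.stalk (genericPoint X)) :
    gy F y (∑ i ∈ s, f i) = ∑ i ∈ s, gy F y (f i) :=
  map_sum (AddMonoidHom.mk' (gy F y) (gy_add F y)) f s

/-- The inclusion into the constant sheaf. -/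
abbrev toG : F ⟶ gsky F := toSky F (genericPoint X)

/-- The stalk of the inclusion, linear. -/
abbrev ι₀ (y : X) : F.presheaf.stalk y →ₗ[X.presheaf.stalk y] (gsky F).presheaf.stalk y :=
  Groth.L21.Bundle.sm (toG F) y

theorem ι₀_apply (y : X) (m : F.presheaf.stalk y) :
    ι₀ F y m = gy F y (F.presheaf.stalkSpecializes (specializes_gen y) m) := by
  obtain ⟨V, hy, s, rfl⟩ := TopCat.Presheaf.exists_germ_eq F.presheaf m
  refine (Groth.L21.Mod.stalkF_map_germ (toG F) V y hy s).trans ?_
  rw [TopCat.Presheaf.germ_stalkSpecializes_apply, ← germ_cst F hy]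
  congr 1

theorem germ_ne_zero {V : X.Opens} {r : Γ(X, V)} (hr : r ≠ 0) {y : X} (hy : y ∈ V) :
    X.presheaf.germ V y hy r ≠ 0 :=
  fun h => hr (germ_injective_of_isIntegral X y hy (h.trans (map_zero _).symm))

theorem ι₀_injective [Coh.IsQCoh F] (htF : TorSh.IsTorsionFree F) (y : X) : Function.Injective (ι₀ F y) := by
  refine (injective_iff_map_eq_zero _).2 fun m hm => ?_
  rw [ι₀_apply, ← gy_zero F y] at hm
  have hm' := gy_injective F y hm
  obtain ⟨_, ⟨V, hV, rfl⟩, hyV, -⟩ :=
    X.isBasis_affineOpens.exists_subset_of_mem_open (Set.mem_univ y) isOpen_univ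
  letI := Groth.L20.ModStalk.stalkModule F hyV
  haveI := Groth.L20.ModStalk.isLocalizedModule_germ F hV hyV
  obtain ⟨⟨s, r⟩, hsr⟩ := IsLocalizedModule.surj (hV.primeIdealOf ⟨y, hyV⟩).asIdeal.primeCompl
    (Groth.L20.ModStalk.germₗ F hyV) m
  have hr0 : (r : Γ(X, V)) ≠ 0 := fun h => r.2 (by rw [h]; exact zero_mem _)
  have e : X.presheaf.germ V y hyV (r : Γ(X, V)) • m = F.presheaf.germ V y hyV s := hsr
  haveI := htF y
  have hs0 : F.presheaf.germ V (genericPoint X) (gen_mem hyV) s = 0 := by
    have h1 := congrArg (F.presheaf.stalkSpecializes (specializes_gen y)) e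
    rw [stalkSpecializes_smul, hm', smul_zero, TopCat.Presheaf.germ_stalkSpecializes_apply] at h1
    exact h1.symm
  letI := Groth.L20.ModStalk.stalkModule F (gen_mem hyV)
  haveI := Groth.L20.ModStalk.isLocalizedModule_germ F hV (gen_mem hyV)
  obtain ⟨c, hc⟩ := (IsLocalizedModule.eq_zero_iff (hV.primeIdealOf ⟨_, gen_mem hyV⟩).asIdeal.primeCompl
    (Groth.L20.ModStalk.germₗ F (gen_mem hyV))).1 hs0
  have hc0 : (c : Γ(X, V)) ≠ 0 := fun h => c.2 (by rw [h]; exact zero_mem _)
  have h2 : X.presheaf.germ V y hyV (c : Γ(X, V)) • F.presheaf.germ V y hyV s = 0 := by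
    rw [← germ_smul]
    exact (congrArg (F.presheaf.germ V y hyV) hc).trans (map_zero _)
  rw [← e, smul_smul] at h2
  exact (smul_eq_zero.1 h2).resolve_left (mul_ne_zero (germ_ne_zero hc0 hyV) (germ_ne_zero hr0 hyV))

/-- An element of the function field is regular on a nonempty open. -/
theorem exists_regular (f : X.presheaf.stalk (genericPoint X)) :
    ∃ U : X.Opens, genericPoint X ∈ U ∧
      ∀ y ∈ U, ∃ r : X.presheaf.stalk y, X.presheaf.stalkSpecializes (specializes_gen y) r = f := by
  obtain ⟨U, hη, a, rfl⟩ := TopCat.Presheaf.exists_germ_eq X.presheaf f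
  exact ⟨U, hη, fun y hy => ⟨X.presheaf.germ U y hy a, TopCat.Presheaf.germ_stalkSpecializes_apply _ _ _ _⟩⟩

theorem exists_regular_finset {ι : Type} [Finite ι] (f : ι → X.presheaf.stalk (genericPoint X)) :
    ∃ U : X.Opens, genericPoint X ∈ U ∧
      ∀ i, ∀ y ∈ U, ∃ r : X.presheaf.stalk y, X.presheaf.stalkSpecializes (specializes_gen y) r = f i := by
  classical
  cases nonempty_fintype ι
  choose U hU hU' using fun i => exists_regular (f i)
  refine ⟨Finset.univ.inf U, ?_, fun i y hy => hU' i y ((Finset.inf_le (Finset.mem_univ i) : Finset.univ.inf U ≤ U i) hy)⟩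
  show genericPoint X ∈ ((Finset.univ.inf U : X.Opens) : Set X)
  rw [Opens.coe_finset_inf, Finset.inf_set_eq_iInter]
  exact Set.mem_iInter₂.2 fun i _ => hU i

omit [IsIntegral X] in
/-- Generators of sections give generators of stalks. -/
theorem exists_generators {V : X.Opens} (hV : IsAffineOpen V) (hF : Coh.IsCoh F) :
    ∃ (m : ℕ) (t : Fin m → Γ(F, V)), ∀ (y : X) (hy : y ∈ V), gspan F t y hy = ⊤ := by
  haveI := hF.1
  haveI := Groth.L20.ModStalk.finite_sections F hF hV
  obtain ⟨m, t, ht⟩ := Module.Finite.exists_fin (R := Γ(X, V)) (M := Γ(F, V))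
  refine ⟨m, t, fun y hy => eq_top_iff.2 fun v _ => ?_⟩
  letI := Groth.L20.ModStalk.stalkModule F hy
  haveI := Groth.L20.ModStalk.isLocalizedModule_germ F hV hy
  obtain ⟨⟨s, r⟩, hsr⟩ := IsLocalizedModule.surj (hV.primeIdealOf ⟨y, hy⟩).asIdeal.primeCompl
    (Groth.L20.ModStalk.germₗ F hy) v
  letI := X.presheaf.algebra_section_stalk ⟨y, hy⟩
  haveI := hV.isLocalization_stalk ⟨y, hy⟩
  have hu : IsUnit (X.presheaf.germ V y hy (r : Γ(X, V))) := IsLocalization.map_units (X.presheaf.stalk y) r
  refine (Submodule.smul_mem_iff_of_isUnit _ hu).1 ?_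
  rw [show X.presheaf.germ V y hy (r : Γ(X, V)) • v = F.presheaf.germ V y hy s from hsr]
  exact Groth.L00.SubExtend.germ_mem_gspan F t y hy (ht ▸ Submodule.mem_top)

/-- Regular coefficients make a combination lie in the span of the germs. -/
theorem gy_mem_span {m : ℕ} (y : X) (c : Fin m → X.presheaf.stalk (genericPoint X))
    (hc : ∀ q, ∃ r : X.presheaf.stalk y, X.presheaf.stalkSpecializes (specializes_gen y) r = c q)
    (u : Fin m → F.presheaf.stalk (genericPoint X)) :
    gy F y (∑ q, c q • u q) ∈ Submodule.span (X.presheaf.stalk y) (Set.range fun q => gy F y (u q)) := by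
  rw [gy_sum]
  refine Submodule.sum_mem _ fun q _ => ?_
  obtain ⟨r, hr⟩ := hc q
  rw [← hr, ← gy_smul]
  exact Submodule.smul_mem _ r (Submodule.subset_span ⟨q, rfl⟩)

/-- The inclusion has the generators as germs. -/
theorem range_ι₀ {V : X.Opens} {m : ℕ} (t : Fin m → Γ(F, V)) (y : X) (hy : y ∈ V) (ht : gspan F t y hy = ⊤) :
    LinearMap.range (ι₀ F y) = Submodule.span (X.presheaf.stalk y)
      (Set.range fun q => gy F y (F.presheaf.germ V (genericPoint X) (gen_mem hy) (t q))) := by
  rw [LinearMap.range_eq_map, ← ht, gspan, Submodule.map_span, ← Set.range_comp]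
  refine congrArg _ (congrArg Set.range (funext fun q => ?_))
  show ι₀ F y (F.presheaf.germ V y hy (t q)) = _
  rw [ι₀_apply, TopCat.Presheaf.germ_stalkSpecializes_apply]

variable {n : ℕ}

/-- A basis of generic values spans the stalks of `F` near the generic point. -/
theorem exists_agree (hF : Coh.IsCoh F) (b : Fin n → F.presheaf.stalk (genericPoint X))
    (hb : Submodule.span (X.presheaf.stalk (genericPoint X)) (Set.range b) = ⊤) :
    ∃ U : X.Opens, genericPoint X ∈ U ∧ ∀ y ∈ U,
      LinearMap.range (ι₀ F y) = Submodule.span (X.presheaf.stalk y) (Set.range fun i => gy F y (b i)) := by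
  haveI := hF.1
  obtain ⟨_, ⟨V, hV, rfl⟩, hηV, -⟩ :=
    X.isBasis_affineOpens.exists_subset_of_mem_open (Set.mem_univ (genericPoint X)) isOpen_univ
  obtain ⟨m, t, ht⟩ := exists_generators F hV hF
  have hspan : Submodule.span (X.presheaf.stalk (genericPoint X))
      (Set.range fun q => F.presheaf.germ V (genericPoint X) hηV (t q)) = ⊤ := ht _ hηV
  choose a ha using fun q => (Submodule.mem_span_range_iff_exists_fun (X.presheaf.stalk (genericPoint X))).1
    (hb.ge (Submodule.mem_top : F.presheaf.germ V (genericPoint X) hηV (t q) ∈ ⊤))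
  choose e he using fun i => (Submodule.mem_span_range_iff_exists_fun (X.presheaf.stalk (genericPoint X))).1
    (hspan.ge (Submodule.mem_top : b i ∈ ⊤))
  obtain ⟨U, hηU, hU⟩ := exists_regular_finset (Sum.elim (fun q : Fin m × Fin n => a q.1 q.2)
    (fun q : Fin n × Fin m => e q.1 q.2))
  refine ⟨U ⊓ V, ⟨hηU, hηV⟩, fun y hy => ?_⟩
  rw [range_ι₀ F t y hy.2 (ht y hy.2)]
  refine le_antisymm (Submodule.span_le.2 ?_) (Submodule.span_le.2 ?_)
  · rintro _ ⟨q, rfl⟩
    show gy F y _ ∈ _
    rw [← ha q]
    exact gy_mem_span F y _ (fun i => hU (Sum.inl (q, i)) y hy.1) _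
  · rintro _ ⟨i, rfl⟩
    show gy F y _ ∈ _
    rw [← he i]
    exact gy_mem_span F y _ (fun q => hU (Sum.inr (i, q)) y hy.1) _

/-- The stalk data: the given lattice on `S`, the stalk of `F` elsewhere. -/
def stalkData (S : Set X) (b : X → Fin n → F.presheaf.stalk (genericPoint X)) : StalkSub (gsky F) :=
  fun y => by
    classical exact if y ∈ S then Submodule.span (X.presheaf.stalk y) (Set.range fun i => gy F y (b y i))
      else LinearMap.range (ι₀ F y)

theorem stalkData_of_mem {S : Set X} (b : X → Fin n → F.presheaf.stalk (genericPoint X)) {y : X} (hy : y ∈ S) :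
    stalkData F S b y = Submodule.span (X.presheaf.stalk y) (Set.range fun i => gy F y (b y i)) := by
  classical exact if_pos hy

theorem stalkData_of_notMem {S : Set X} (b : X → Fin n → F.presheaf.stalk (genericPoint X)) {y : X} (hy : y ∉ S) :
    stalkData F S b y = LinearMap.range (ι₀ F y) := by
  classical exact if_neg hy

theorem gspan_cst {V : X.Opens} {m : ℕ} (u : Fin m → F.presheaf.stalk (genericPoint X)) (y : X) (hy : y ∈ V) :
    gspan (gsky F) (fun q => cst F V (u q)) y hy =
      Submodule.span (X.presheaf.stalk y) (Set.range fun q => gy F y (u q)) := by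
  refine congrArg (Submodule.span _) (congrArg Set.range (funext fun q => ?_))
  exact germ_cst F hy (u q)

/-- A coherent submodule of the constant sheaf with the given lattices. -/
theorem exists_lattice [IsNoetherian X] (hd : topologicalKrullDim X ≤ 1) (hF : Coh.IsCoh F)
    {S : Set X} (hS : S.Finite) (hScl : ∀ s ∈ S, IsClosed ({s} : Set X))
    (b : X → Fin n → F.presheaf.stalk (genericPoint X))
    (hb : ∀ s ∈ S, Submodule.span (X.presheaf.stalk (genericPoint X)) (Set.range (b s)) = ⊤) :
    ∃ (E : X.Modules) (i : E ⟶ gsky F), Mono i ∧ Coh.IsCoh E ∧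
      ∀ y, LinearMap.range (Groth.L21.Bundle.sm i y) = stalkData F S b y := by
  classical
  haveI := hF.1
  haveI : Coh.IsQCoh (gsky F) := Groth.L15.TFCurve.isQCoh_sky_genericPoint
    (by rw [genericPoints, Set.mem_setOf_eq]; simp [irreducibleComponents_eq_singleton, (genericPoint_spec X).def]) _
  have hgood : Good (gsky F) ⊤ (stalkData F S b) := fun x _ => by
    by_cases hx : x ∈ S
    · obtain ⟨U, hηU, hU⟩ := exists_agree F hF (b x) (hb x hx)
      have hfin : ((U : Set X)ᶜ ∪ S \ {x} : Set X).Finite := by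
        refine Set.Finite.union (finite_of_closed_points U.2.isClosed_compl fun z hz => ?_) (hS.subset Set.diff_subset)
        by_contra hzc
        have := Groth.L21.RedCurve.maximal_of_not_isClosed hd hzc (genericPoint X) (specializes_gen z)
        exact hz (this ▸ hηU)
      have hBcl : IsClosed (((U : Set X)ᶜ ∪ S \ {x}) \ {x}) := by
        rw [← Set.biUnion_of_singleton (((U : Set X)ᶜ ∪ S \ {x}) \ {x})]
        refine hfin.diff.isClosed_biUnion fun z hz => ?_
        rcases hz.1 with hzU | hzS
        · by_contra hzc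
          have := Groth.L21.RedCurve.maximal_of_not_isClosed hd hzc (genericPoint X) (specializes_gen z)
          exact hzU (this ▸ hηU)
        · exact hScl z hzS.1
      obtain ⟨_, ⟨V, hV, rfl⟩, hxV, hVle⟩ := X.isBasis_affineOpens.exists_subset_of_mem_open
        (show x ∈ (((U : Set X)ᶜ ∪ S \ {x}) \ {x})ᶜ from fun h => h.2 rfl) hBcl.isOpen_compl
      refine ⟨V, hV, hxV, le_top, n, fun i => cst F V (b x i), fun y hy => ?_⟩
      rw [gspan_cst]
      by_cases hyx : y = x
      · subst hyx
        exact stalkData_of_mem F b hx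
      · have hyU : y ∈ U := by
          by_contra h
          exact hVle hy ⟨Or.inl h, hyx⟩
        rw [stalkData_of_notMem F b fun h => hVle hy ⟨Or.inr ⟨h, hyx⟩, hyx⟩]
        exact hU y hyU
    · have hScl' : IsClosed S := by
        rw [← Set.biUnion_of_singleton S]
        exact hS.isClosed_biUnion hScl
      obtain ⟨_, ⟨V, hV, rfl⟩, hxV, hVle⟩ := X.isBasis_affineOpens.exists_subset_of_mem_open
        (show x ∈ Sᶜ from hx) hScl'.isOpen_compl
      obtain ⟨m, t, ht⟩ := exists_generators F hV hF
      refine ⟨V, hV, hxV, le_top, m, fun q => cst F V (F.presheaf.germ V (genericPoint X) (gen_mem hxV) (t q)),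
        fun y hy => ?_⟩
      rw [gspan_cst, stalkData_of_notMem F b (hVle hy), range_ι₀ F t y hy (ht y hy)]
  obtain ⟨hq, hft⟩ := Groth.L00.SubExtend.isQCoh_isFT_sub (gsky F) _ hgood
  refine ⟨sub (gsky F) (stalkData F S b), subι (gsky F) _, inferInstance, ⟨hq, hft⟩, fun y => le_antisymm ?_ ?_⟩
  · rintro _ ⟨v, rfl⟩
    obtain ⟨W, hy, s, rfl⟩ := TopCat.Presheaf.exists_germ_eq (sub (gsky F) (stalkData F S b)).presheaf v
    rw [show Groth.L21.Bundle.sm (subι (gsky F) (stalkData F S b)) y _ = _ from
      Groth.L21.Mod.stalkF_map_germ (subι (gsky F) (stalkData F S b)) W y hy s, Groth.L00.SubExtend.subι_app]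
    exact (show Groth.L00.SubExtend.secs (gsky F) (stalkData F S b) W from s).2 y hy
  · obtain ⟨V, hV, hy, -, m, t, ht⟩ := hgood y trivial
    rw [ht y hy]
    refine Submodule.span_le.2 ?_
    rintro _ ⟨q, rfl⟩
    refine ⟨(sub (gsky F) (stalkData F S b)).presheaf.germ V y hy
      (show Groth.L00.SubExtend.secs (gsky F) (stalkData F S b) V from
        ⟨t q, fun z hz => by rw [ht z hz]; exact Submodule.subset_span ⟨q, rfl⟩⟩), ?_⟩
    exact Groth.L21.Mod.stalkF_map_germ (subι (gsky F) (stalkData F S b)) V y hy _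

end Groth.L21.TFNodal.Lat
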