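import Groth.Agent.L15.Ref.Stalk
import Groth.Agent.L15.Ref.Reflexive
import Groth.Agent.L20.QfCurve
import Groth.Agent.L20.ModStalk
import Groth.Agent.S6295
import Groth.Prelude.Def_CurvBase
import Groth.Prelude.Def_TorSh
import Mathlib.RingTheory.Ideal.AssociatedPrime.Basic
import Mathlib.RingTheory.RootsOfUnity.AlgebraicallyClosed
import Mathlib.RingTheory.RootsOfUnity.PrimitiveRoots

/-!
Torsion-free modules and duals on reduced schemes; powers of functionals at field points.
-/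

set_option autoImplicit false
set_option backward.isDefEq.respectTransparency false
set_option linter.style.haveILetI false
universe u

open CategoryTheory AlgebraicGeometry IsLocalRing

noncomputable section

namespace Groth.L21.TFNodal

theorem exists_nonZeroDivisor_of_not_le_minimal {R : Type u} [CommRing R] [IsReduced R] [IsNoetherianRing R]
    (J : Ideal R) (h : ∀ p ∈ minimalPrimes R, ¬ J ≤ p) : ∃ r ∈ J, r ∈ nonZeroDivisors R := by
  by_contra hcon
  push Not at hcon
  have hsub : (J : Set R) ⊆ ⋃ p ∈ ((minimalPrimes.finite_of_isNoetherianRing R).toFinset : Set (Ideal R)), (p : Set R) := by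
    intro r hr
    obtain ⟨p, hp, hrp⟩ := ((Groth.Agent.S6295.result R).2.2 r).1 (hcon r hr)
    exact Set.mem_biUnion (by simpa using hp) hrp
  obtain ⟨p, hp, hle⟩ := (Ideal.subset_union_prime (f := fun p => p) ⊥ ⊥ (fun p hp _ _ => ((Set.Finite.mem_toFinset _).1 hp).isPrime)).1 hsub
  exact h p ((Set.Finite.mem_toFinset _).1 hp) hle

variable {X : Scheme.{u}}

/-- The point of a minimal prime of an affine chart has a field as local ring. -/
theorem isField_stalk_fromSpec [AlgebraicGeometry.IsReduced X] {V : X.Opens} (hV : IsAffineOpen V)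
    (p : PrimeSpectrum Γ(X, V)) (hp : p.asIdeal ∈ minimalPrimes Γ(X, V)) :
    IsField (X.presheaf.stalk (hV.fromSpec p)) := by
  have hy : hV.fromSpec p ∈ V := hV.range_fromSpec.subset ⟨p, rfl⟩
  have hq : hV.primeIdealOf ⟨_, hy⟩ = p :=
    hV.fromSpec.isOpenEmbedding.injective (hV.fromSpec_primeIdealOf ⟨_, hy⟩)
  letI := X.presheaf.algebra_section_stalk (⟨_, hy⟩ : V)
  haveI : IsLocalization.AtPrime (X.presheaf.stalk (hV.fromSpec p)) p.asIdeal := by
    have := hV.isLocalization_stalk ⟨_, hy⟩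
    rwa [hq] at this
  exact MulEquiv.isField ((Groth.Agent.S6295.result Γ(X, V)).1 p hp)
    (IsLocalization.algEquiv p.asIdeal.primeCompl (X.presheaf.stalk (hV.fromSpec p))
      (Localization.AtPrime p.asIdeal)).toMulEquiv

/-- A section of a torsion-free module with vanishing germ at `x` vanishes, if all components meet `x`. -/
theorem germ_injective [IsLocallyNoetherian X] [AlgebraicGeometry.IsReduced X] (F : X.Modules) [Coh.IsQCoh F]
    (htF : TorSh.IsTorsionFree F) (x : X) (U : X.Opens) (hxU : x ∈ U)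
    (hU : ∀ y : X, y ∈ U → IsField (X.presheaf.stalk y) → x ∈ closure ({y} : Set X)) :
    Function.Injective (F.presheaf.germ U x hxU) := by
  refine (injective_iff_map_eq_zero _).2 fun (s : Γ(F, U)) hs => ?_
  refine TopCat.Presheaf.section_ext ⟨F.presheaf, F.isSheaf⟩ U s 0 fun z hz => ?_
  rw [map_zero]
  obtain ⟨V, hV, hzV, hVU⟩ := exists_isAffineOpen_mem_and_subset (x := z) (U := U) hz
  haveI : IsNoetherianRing Γ(X, V) := IsLocallyNoetherian.component_noetherian ⟨V, hV⟩
  let a : Γ(F, V) := Groth.L18.Frame.rs F hVU s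
  let J : Ideal Γ(X, V) := LinearMap.ker (LinearMap.toSpanSingleton Γ(X, V) Γ(F, V) a)
  have hJ : ∀ p ∈ minimalPrimes Γ(X, V), ¬ J ≤ p := by
    intro p hp hle
    let q : PrimeSpectrum Γ(X, V) := ⟨p, hp.isPrime⟩
    have hyV : hV.fromSpec q ∈ V := hV.range_fromSpec.subset ⟨q, rfl⟩
    have hyx : hV.fromSpec q ⤳ x :=
      specializes_iff_mem_closure.2 (hU _ (hVU hyV) (isField_stalk_fromSpec hV q hp))
    have hqq : hV.primeIdealOf ⟨_, hyV⟩ = q :=
      hV.fromSpec.isOpenEmbedding.injective (hV.fromSpec_primeIdealOf ⟨_, hyV⟩)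
    letI := Groth.L20.ModStalk.stalkModule F hyV
    haveI := Groth.L20.ModStalk.isLocalizedModule_germ F hV hyV
    have h0 : F.presheaf.germ V (hV.fromSpec q) hyV a = 0 := by
      rw [Groth.L20.ModStalk.germ_rs, ← TopCat.Presheaf.germ_stalkSpecializes_apply F.presheaf (hy := hxU) hyx]
      exact (congrArg _ hs).trans (map_zero _)
    obtain ⟨⟨r, hr⟩, hra⟩ := (IsLocalizedModule.eq_zero_iff (hV.primeIdealOf ⟨_, hyV⟩).asIdeal.primeCompl
      (Groth.L20.ModStalk.germₗ F hyV)).1 h0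
    exact hr ((congrArg PrimeSpectrum.asIdeal hqq).ge (hle (show r ∈ J from hra)))
  obtain ⟨r, hrJ, hr⟩ := exists_nonZeroDivisor_of_not_le_minimal J hJ
  letI := X.presheaf.algebra_section_stalk (⟨z, hzV⟩ : V)
  haveI := hV.isLocalization_stalk ⟨z, hzV⟩
  have hreg : algebraMap Γ(X, V) (X.presheaf.stalk z) r ∈ nonZeroDivisors (X.presheaf.stalk z) :=
    IsLocalization.map_nonZeroDivisors_le (hV.primeIdealOf ⟨z, hzV⟩).asIdeal.primeCompl _ ⟨r, hr, rfl⟩
  haveI := htF z
  refine (isRegular_iff_mem_nonZeroDivisors.2 hreg).isSMulRegular ?_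
  dsimp only
  rw [smul_zero]
  erw [← Groth.L20.ModStalk.germ_rs F hVU hzV s]
  refine (Groth.L20.ModStalk.germ_smul F hzV r a).symm.trans ?_
  exact (congrArg (F.presheaf.germ V z hzV) (show r • a = 0 from hrJ)).trans (map_zero _)

/-- A closed point which is not open is not associated to a dual. -/
theorem not_isAssPoint_dual [IsLocallyNoetherian X] [AlgebraicGeometry.IsReduced X] {F : X.Modules}
    (hF : Coh.IsCoh F) (x : X) (hx : IsClosed ({x} : Set X)) (hpure : ¬ IsOpen ({x} : Set X)) :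
    ¬ Curv2.IsAssPoint (RefHull.dual F) x := by
  intro hass
  haveI := Groth.L15.Ref.isQCoh_structureModule (X := X)
  have hmin : ∀ p ∈ minimalPrimes (X.presheaf.stalk x), ¬ maximalIdeal (X.presheaf.stalk x) ≤ p := by
    intro p hp hle
    refine hpure (Groth.L20.QfCurve.isOpen_singleton hx fun y hy => ?_)
    obtain ⟨q, rfl⟩ : y ∈ Set.range (X.fromSpecStalk x) := X.range_fromSpecStalk ▸ hy
    have hqm : q = closedPoint (X.presheaf.stalk x) := by
      apply PrimeSpectrum.ext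
      exact le_antisymm (le_maximalIdeal q.2.ne_top)
        (hle.trans (hp.2 ⟨q.2, bot_le⟩ ((le_maximalIdeal q.2.ne_top).trans hle)))
    rw [hqm]
    exact Scheme.fromSpecStalk_closedPoint
  obtain ⟨r, hrm, hr⟩ := exists_nonZeroDivisor_of_not_le_minimal (maximalIdeal (X.presheaf.stalk x)) hmin
  have h1 : r ∈ ⋃ p ∈ associatedPrimes (X.presheaf.stalk x) ((RefHull.dual F).presheaf.stalk x),
      (p : Set (X.presheaf.stalk x)) := Set.mem_biUnion hass hrm
  rw [biUnion_associatedPrimes_eq_zero_divisors] at h1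
  obtain ⟨v, hv, hrv⟩ := h1
  let E : (RefHull.dual F).presheaf.stalk x ≃ₗ[X.presheaf.stalk x]
      Module.Dual (X.presheaf.stalk x) (F.presheaf.stalk x) :=
    (LinearEquiv.ofBijective (RefHull.evalStalk F (Coh.structureModule X) x)
      (Groth.L15.Ref.evalStalk_bijective F (Coh.structureModule X) hF x)).trans (Groth.L15.Ref.dualE F x)
  refine hv (E.map_eq_zero_iff.1 (LinearMap.ext fun m => ?_))
  have h2 := LinearMap.congr_fun ((E.map_smul r v).symm.trans (by rw [hrv, map_zero])) m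
  exact hr.1 _ h2

/-- Functionals with equal products of values differ by a root of unity at a field point. -/
theorem exists_rootOfUnity (k : Type u) [Field k] [IsAlgClosed k] [CharZero k]
    [X.Over (Spec (CommRingCat.of k))] (F : X.Modules) (τ τ' : F ⟶ Coh.structureModule X) (d : ℕ) (hd : 1 ≤ d)
    (hS : ∀ (U : X.Opens) (a : Fin d → Γ(F, U)),
      (∏ i, (τ.app U (a i) : Γ(X, U)) : Γ(X, U)) = (∏ i, (τ'.app U (a i) : Γ(X, U)) : Γ(X, U)))
    (η : X) (hη : IsField (X.presheaf.stalk η)) :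
    ∃ ξ : k, ξ ^ d = 1 ∧ ∀ (U : X.Opens) (hU : η ∈ U) (a : Γ(F, U)),
      (X.presheaf.germ U η hU (τ'.app U a : Γ(X, U)) : X.presheaf.stalk η) =
        Curv2.stalkMap k X η ξ * X.presheaf.germ U η hU (τ.app U a : Γ(X, U)) := by
  classical
  let t : ∀ (σ : F ⟶ Coh.structureModule X) (U : X.Opens) (_ : η ∈ U), Γ(F, U) → X.presheaf.stalk η :=
    fun σ U hU a => X.presheaf.germ U η hU (σ.app U a : Γ(X, U))
  haveI := hη.isDomain
  have hpow : ∀ (U : X.Opens) (hU : η ∈ U) (a : Γ(F, U)), t τ U hU a ^ d = t τ' U hU a ^ d := by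
    intro U hU a
    have h := congrArg (X.presheaf.germ U η hU).hom (hS U fun _ => a)
    rw [map_prod, map_prod, Finset.prod_const, Finset.prod_const, Finset.card_univ, Fintype.card_fin] at h
    exact h
  by_cases hz : ∀ (U : X.Opens) (hU : η ∈ U) (a : Γ(F, U)), t τ U hU a = 0
  · refine ⟨1, one_pow d, fun U hU a => ?_⟩
    rw [map_one, one_mul]
    have h := hpow U hU a
    rw [hz U hU a, zero_pow (by omega)] at h
    show t τ' U hU a = t τ U hU a
    rw [hz U hU a]
    exact eq_zero_of_pow_eq_zero h.symm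
  push Not at hz
  obtain ⟨U₀, hU₀, a₀, h₀⟩ := hz
  obtain ⟨i₀, hi₀⟩ := hη.mul_inv_cancel h₀
  set u := t τ U₀ hU₀ a₀ with hu_def
  set u' := t τ' U₀ hU₀ a₀ with hu'_def
  have hud : u ^ d = u' ^ d := hpow U₀ hU₀ a₀
  haveI : NeZero d := ⟨by omega⟩
  haveI : NeZero (d : k) := ⟨Nat.cast_ne_zero.2 (by omega)⟩
  obtain ⟨ζ, hζ⟩ := HasEnoughRootsOfUnity.exists_primitiveRoot k d
  have hζ' : IsPrimitiveRoot (Curv2.stalkMap k X η ζ) d := hζ.map_of_injective (Curv2.stalkMap k X η).injective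
  have hξ : (u' * i₀) ^ d = 1 := by rw [mul_pow, ← hud, ← mul_pow, hi₀, one_pow]
  obtain ⟨j, -, hj⟩ := hζ'.eq_pow_of_pow_eq_one hξ
  refine ⟨ζ ^ j, by rw [← pow_mul, mul_comm, pow_mul, hζ.pow_eq_one, one_pow], fun U hU a => ?_⟩
  show t τ' U hU a = _ * t τ U hU a
  rw [map_pow, hj]
  have hW : η ∈ U ⊓ U₀ := ⟨hU, hU₀⟩
  have hrs : ∀ (σ : F ⟶ Coh.structureModule X) (U' : X.Opens) (hU' : η ∈ U') (hle : U ⊓ U₀ ≤ U') (b : Γ(F, U')),
      t σ (U ⊓ U₀) hW (Groth.L18.Frame.rs F hle b) = t σ U' hU' b := by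
    intro σ U' hU' hle b
    refine Eq.trans ?_ (TopCat.Presheaf.germ_res_apply X.presheaf (homOfLE hle) η hW (σ.app U' b : Γ(X, U')))
    exact congrArg (X.presheaf.germ (U ⊓ U₀) η hW) (PresheafOfModules.naturality_apply σ.val (homOfLE hle).op b)
  let c : Fin d → Γ(F, U ⊓ U₀) := fun i =>
    if i = ⟨0, by omega⟩ then Groth.L18.Frame.rs F inf_le_left a else Groth.L18.Frame.rs F inf_le_right a₀
  have h := congrArg (X.presheaf.germ (U ⊓ U₀) η hW).hom (hS (U ⊓ U₀) c)
  rw [map_prod, map_prod] at h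
  have hprod : ∀ σ : F ⟶ Coh.structureModule X,
      ∏ i, (X.presheaf.germ (U ⊓ U₀) η hW).hom (σ.app (U ⊓ U₀) (c i)) = t σ U hU a * t σ U₀ hU₀ a₀ ^ (d - 1) := by
    intro σ
    rw [← Finset.mul_prod_erase _ _ (Finset.mem_univ (⟨0, by omega⟩ : Fin d))]
    refine congrArg₂ (· * ·) ?_ ?_
    · simp only [c, if_pos]
      exact hrs σ U hU inf_le_left a
    · rw [Finset.prod_eq_pow_card (b := t σ U₀ hU₀ a₀) fun i hi => ?_, Finset.card_erase_of_mem (Finset.mem_univ _),
        Finset.card_univ, Fintype.card_fin]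
      simp only [c, if_neg (Finset.ne_of_mem_erase hi)]
      exact hrs σ U₀ hU₀ inf_le_right a₀
  have e : t τ U hU a * u ^ (d - 1) = t τ' U hU a * u' ^ (d - 1) :=
    ((hprod τ).symm.trans h).trans (hprod τ')
  have hne : u' ^ (d - 1) ≠ 0 := pow_ne_zero _ fun h' => by
    rw [h', zero_pow (by omega : d ≠ 0)] at hud
    exact h₀ (eq_zero_of_pow_eq_zero hud)
  refine mul_right_cancel₀ hne (e.symm.trans ?_)
  calc t τ U hU a * u ^ (d - 1) = t τ U hU a * (u ^ (d - 1) * (u * i₀)) := by rw [hi₀, mul_one]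
    _ = t τ U hU a * (u ^ d * i₀) := by
        rw [show d = (d - 1) + 1 by omega, pow_succ]; simp only [Nat.add_sub_cancel]; ring
    _ = u' * i₀ * t τ U hU a * u' ^ (d - 1) := by
        rw [hud, show d = (d - 1) + 1 by omega, pow_succ]; simp only [Nat.add_sub_cancel]; ring

end Groth.L21.TFNodal
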