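import Groth.Agent.L21.TFNodal.Suite
import Groth.Agent.L21.NormRed.RatTree
import Groth.Agent.L07.RatSection
import Groth.Agent.L18.ExtendCodimOne
import Groth.Agent.L07.Count.Unibranch
import Groth.Agent.L19.NormalSections
import Groth.Agent.L21.RR.BirationalGenus

/-!
The normalisation of a nodal curve is an isomorphism away from the nodes, and is a curve.
-/

set_option autoImplicit false
set_option backward.isDefEq.respectTransparency false
set_option linter.style.haveILetI false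
universe u

open CategoryTheory CategoryTheory.Limits AlgebraicGeometry TopologicalSpace

noncomputable section

namespace Groth.L21.TFNodal

variable {X Y : Scheme.{u}}

/-- An integral neighbourhood as an irreducible open set. -/
theorem exists_preirreducible_nhd [IsLocallyNoetherian X] (x : X) [IsDomain (X.presheaf.stalk x)] :
    ∃ V : X.Opens, x ∈ V ∧ IsAffineOpen V ∧ IsPreirreducible (V : Set X) := by
  obtain ⟨V, hxV, hV, hint⟩ := Groth.L07.RatSection.exists_integral_nhd x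
  haveI := hint
  have h := (PreirreducibleSpace.isPreirreducible_univ (X := (V : Scheme.{u}))).image V.ι
    V.ι.continuous.continuousOn
  rw [Set.image_univ] at h
  exact ⟨V, hxV, hV, by rwa [← Scheme.Hom.coe_opensRange, Scheme.Opens.opensRange_ι] at h⟩

/-- A function on a reduced scheme vanishing on a nonempty part of an irreducible open vanishes on it. -/
theorem eq_zero_of_preirreducible [IsReduced X] {W : X.Opens} (hW : IsPreirreducible (W : Set X)) {W' : X.Opens}
    (h : W' ≤ W) (hne : (W' : Set X).Nonempty) (a : Γ(X, W)) (ha : Groth.L18.Frame.ro h a = 0) : a = 0 := by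
  rw [← basicOpen_eq_bot_iff]
  by_contra hb
  obtain ⟨z, hz⟩ : (X.basicOpen a : Set X).Nonempty := by
    rw [Set.nonempty_iff_ne_empty]
    exact fun h0 => hb (Opens.ext (h0.trans Opens.coe_bot.symm))
  obtain ⟨w, hwW, hw1, hw2⟩ := hW _ _ (X.basicOpen a).2 W'.2 ⟨z, X.basicOpen_le a hz, hz⟩
    (hne.imp fun w hw => ⟨h hw, hw⟩)
  have h1 : X.basicOpen (Groth.L18.Frame.ro h a) = W' ⊓ X.basicOpen a := Scheme.basicOpen_res _ _ _
  rw [ha, Scheme.basicOpen_zero] at h1
  exact h1.symm.le ⟨hw2, hw1⟩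

/-- A finite morphism, an isomorphism over a dense open, onto a normal scheme is an isomorphism. -/
theorem isIso_restrict_of_normal [IsReduced X] [IsLocallyNoetherian X] (π : Y ⟶ X) [IsFinite π] [IsReduced Y]
    {U : X.Opens} (hU : Dense (U : Set X)) (hU' : Dense ((π ⁻¹ᵁ U : Y.Opens) : Set Y)) [IsIso (π ∣_ U)]
    {W : X.Opens}
    (hW : ∀ x ∈ W, IsDomain (X.presheaf.stalk x) ∧ IsIntegrallyClosed (X.presheaf.stalk x)) :
    IsIso (π ∣_ W) := by
  suffices h : MorphismProperty.isomorphisms Scheme.{u} (π ∣_ W) from h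
  refine IsZariskiLocalAtTarget.of_forall_exists_morphismRestrict fun w => ?_
  haveI : IsDomain (X.presheaf.stalk (W.ι w)) := (hW _ w.2).1
  obtain ⟨V₁, hxV₁, -, hV₁⟩ := exists_preirreducible_nhd (W.ι w)
  obtain ⟨V, hV, hxV, hVle⟩ := exists_isAffineOpen_mem_and_subset
    (show W.ι w ∈ V₁ ⊓ W from ⟨hxV₁, w.2⟩)
  have hVW : V ≤ W := fun z hz => (hVle hz).2
  have hVirr : IsPreirreducible (V : Set X) := fun u v hu hv hu' hv' => by
    obtain ⟨x, -, ⟨h1, h2⟩, h3, -⟩ := hV₁ (u ∩ V) (v ∩ V) (hu.inter V.2) (hv.inter V.2)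
      (hu'.imp fun x hx => ⟨(hVle hx.1).1, hx.2, hx.1⟩) (hv'.imp fun x hx => ⟨(hVle hx.1).1, hx.2, hx.1⟩)
    exact ⟨x, h2, h1, h3⟩
  refine ⟨W.ι ⁻¹ᵁ V, hxV, ?_⟩
  rw [(MorphismProperty.arrow_mk_iso_iff (MorphismProperty.isomorphisms Scheme.{u})
    (morphismRestrictRestrict π W (W.ι ⁻¹ᵁ V)))]
  rw [Scheme.Hom.image_preimage_eq_opensRange_inf, Scheme.Opens.opensRange_ι, inf_eq_right.2 hVW]
  show IsIso (π ∣_ V)
  rw [isIso_morphismRestrict_iff_isIso_app _ hV, ConcreteCategory.isIso_iff_bijective]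
  refine ⟨Groth.L21.RR.app_injective_of_isIso_over_dense π hU V, fun b => ?_⟩
  -- the scheme `V` is integral and normal
  haveI : IsIntegral (V : Scheme.{u}) := by
    haveI : PreirreducibleSpace (V : Scheme.{u}) :=
      Subtype.preirreducibleSpace hVirr
    haveI : Nonempty (V : Scheme.{u}) := ⟨⟨_, hxV⟩⟩
    haveI : IrreducibleSpace (V : Scheme.{u}) := ⟨inferInstance⟩
    exact isIntegral_of_irreducibleSpace_of_isReduced _
  haveI : IsDomain Γ(X, V) := by
    haveI : Nonempty (V : Scheme.{u}) := ⟨⟨_, hxV⟩⟩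
    exact (V.topIso.commRingCatIsoToRingEquiv.symm).toMulEquiv.isDomain _
  haveI : IsIntegrallyClosed Γ(X, V) := by
    haveI : Nonempty (⊤ : (V : Scheme.{u}).Opens) := ⟨⟨⟨_, hxV⟩, trivial⟩⟩
    haveI : IsIntegrallyClosed Γ((V : Scheme.{u}), ⊤) :=
      Groth.L19.NormalSec.isIntegrallyClosed_sections (fun u => by
        haveI := (hW _ (hVW u.2)).2
        exact IsIntegrallyClosed.of_equiv (V.stalkIso u).commRingCatIsoToRingEquiv.symm) ⊤
    exact IsIntegrallyClosed.of_equiv V.topIso.commRingCatIsoToRingEquiv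
  obtain ⟨z, hzU, hzV⟩ := hU.inter_open_nonempty _ V.2 ⟨_, hxV⟩ |>.imp fun z hz => (⟨hz.2, hz.1⟩ : z ∈ U ∧ z ∈ V)
  obtain ⟨g, hgle, hzg⟩ := hV.exists_basicOpen_le (V := U) ⟨z, hzU⟩ hzV
  have hg : g ≠ 0 := by
    rintro rfl
    rw [Scheme.basicOpen_zero] at hzg
    exact hzg
  -- `g` is a nonzerodivisor upstairs
  have hnzd : ∀ c : Γ(Y, π ⁻¹ᵁ V), π.app V g * c = 0 → c = 0 := by
    intro c hc
    rw [← basicOpen_eq_bot_iff]
    by_contra hb
    obtain ⟨y, hy⟩ : (Y.basicOpen c : Set Y).Nonempty := by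
      rw [Set.nonempty_iff_ne_empty]
      exact fun h0 => hb (Opens.ext (h0.trans Opens.coe_bot.symm))
    obtain ⟨y', hy', hy'U⟩ := hU'.inter_open_nonempty _ (Y.basicOpen c).2 ⟨y, hy⟩
    have hy'V : π y' ∈ V := Y.basicOpen_le c hy'
    let O : Y.Opens := Y.basicOpen c ⊓ π ⁻¹ᵁ U
    -- the image of `O` in `U` is open and meets the dense `D(g)`
    let O' : (U : Scheme.{u}).Opens := (π ∣_ U).opensFunctor.obj ((π ⁻¹ᵁ U).ι ⁻¹ᵁ Y.basicOpen c)
    have hO' : ∀ t : (U : Scheme.{u}), t ∈ O' → ∃ q : Y, q ∈ Y.basicOpen c ∧ π q = U.ι t := by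
      rintro t ⟨q, hq, rfl⟩
      exact ⟨(π ⁻¹ᵁ U).ι q, hq, (congr($(morphismRestrict_ι π U) q)).symm⟩
    have hne : ((U.ι ''ᵁ O' : X.Opens) : Set X).Nonempty :=
      ⟨_, (π ∣_ U) ⟨y', hy'U⟩, ⟨⟨y', hy'U⟩, hy', rfl⟩, rfl⟩
    have hsub : ((U.ι ''ᵁ O' : X.Opens) : Set X) ⊆ V := by
      rintro _ ⟨t, ht, rfl⟩
      obtain ⟨q, hq, hqt⟩ := hO' t ht
      show U.ι t ∈ (V : Set X)
      rw [← hqt]
      exact Y.basicOpen_le c hq
    obtain ⟨t, -, htg, htO⟩ := hVirr _ _ (X.basicOpen g).2 (U.ι ''ᵁ O').2 ⟨z, hzV, hzg⟩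
      (hne.imp fun t ht => ⟨hsub ht, ht⟩)
    obtain ⟨t₀, ht₀, rfl⟩ := htO
    obtain ⟨q, hq, hqt⟩ := hO' t₀ ht₀
    have hqg : q ∈ Y.basicOpen (π.app V g) := by
      rw [← Scheme.preimage_basicOpen]
      show π q ∈ X.basicOpen g
      rw [hqt]; exact htg
    have h2 := Y.basicOpen_mul (π.app V g) c
    rw [hc, Scheme.basicOpen_zero] at h2
    exact h2.symm.le ⟨hqg, hq⟩
  -- a denominator
  letI := (π.app V).hom.toAlgebra
  haveI : Algebra.IsIntegral Γ(X, V) Γ(Y, π ⁻¹ᵁ V) :=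
    algebraMap_isIntegral_iff.mp (IsIntegralHom.isIntegral_app π V hV)
  haveI := Groth.L07.BlowLib.isIso_app_of_le π (C := U) inferInstance (X.basicOpen g) hgle
  obtain ⟨a', ha'⟩ := (ConcreteCategory.bijective_of_isIso (π.app (X.basicOpen g))).2
    (Groth.L18.Frame.ro (π.preimage_mono (X.basicOpen_le g)) b)
  haveI := hV.isLocalization_basicOpen g
  obtain ⟨⟨a, ⟨s, m, rfl⟩⟩, ha⟩ := IsLocalization.surj (Submonoid.powers g) a'
  letI := (Y.presheaf.map (homOfLE (π.preimage_mono (X.basicOpen_le g))).op).hom.toAlgebra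
  haveI : IsLocalization.Away (π.app V g) Γ(Y, π ⁻¹ᵁ X.basicOpen g) :=
    (hV.preimage π).isLocalization_of_eq_basicOpen (π.app V g) _ (Scheme.preimage_basicOpen π g)
  have hgb : π.app V g ^ m * b = π.app V a := by
    obtain ⟨⟨_, j, rfl⟩, hj⟩ := IsLocalization.exists_of_eq (M := Submonoid.powers (π.app V g))
      (S := Γ(Y, π ⁻¹ᵁ X.basicOpen g)) (x := π.app V g ^ m * b) (y := π.app V a) (by
        have hnat : ∀ e : Γ(X, V), Groth.L18.Frame.ro (π.preimage_mono (X.basicOpen_le g)) (π.app V e) =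
            π.app (X.basicOpen g) (algebraMap Γ(X, V) Γ(X, X.basicOpen g) e) := fun e =>
          (ConcreteCategory.congr_hom (π.naturality (homOfLE (X.basicOpen_le g)).op) e).symm
        show Groth.L18.Frame.ro _ (π.app V g ^ m * b) = Groth.L18.Frame.ro _ (π.app V a)
        rw [hnat a, show algebraMap Γ(X, V) Γ(X, X.basicOpen g) a = a' * algebraMap Γ(X, V) _ (g ^ m) from ha.symm,
          map_mul (π.app (X.basicOpen g)).hom, ← hnat (g ^ m)]
        rw [show Groth.L18.Frame.ro (π.preimage_mono (X.basicOpen_le g)) (π.app V g ^ m * b) =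
          Groth.L18.Frame.ro (π.preimage_mono (X.basicOpen_le g)) (π.app V g ^ m) *
            Groth.L18.Frame.ro (π.preimage_mono (X.basicOpen_le g)) b from map_mul _ _ _, ← ha', map_pow]
        exact mul_comm _ _)
    have key : ∀ (n : ℕ) (d : Γ(Y, π ⁻¹ᵁ V)), π.app V g ^ n * d = 0 → d = 0 := fun n => by
      induction n with
      | zero => intro d hd; simpa using hd
      | succ n ih => intro d hd; exact hnzd d (ih _ (by rw [← mul_assoc, ← pow_succ]; exact hd))
    exact sub_eq_zero.1 (key j _ (by rw [mul_sub, sub_eq_zero]; exact hj))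
  -- `a / g^m` is integral, hence in the ring
  have hint : IsIntegral Γ(X, V) (algebraMap Γ(X, V) (FractionRing Γ(X, V)) a /
      algebraMap Γ(X, V) (FractionRing Γ(X, V)) g ^ m) := by
    obtain ⟨P, hP, hPb⟩ := Algebra.IsIntegral.isIntegral (R := Γ(X, V)) b
    have h1 : Polynomial.eval a (Polynomial.scaleRoots P (g ^ m)) = 0 :=
      Groth.L21.RR.app_injective_of_isIso_over_dense π hU V (by
        have h2 := Polynomial.scaleRoots_eval₂_eq_zero (π.app V).hom (s := g ^ m) hPb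
        rw [map_pow, hgb] at h2
        rw [← Polynomial.eval₂_id, Polynomial.hom_eval₂, RingHom.comp_id, map_zero]
        exact h2)
    refine ⟨P, hP, ?_⟩
    have hgm : algebraMap Γ(X, V) (FractionRing Γ(X, V)) g ^ m ≠ 0 :=
      pow_ne_zero m fun h => hg (IsFractionRing.injective Γ(X, V) (FractionRing Γ(X, V)) (h.trans (map_zero _).symm))
    have h3 := congrArg (algebraMap Γ(X, V) (FractionRing Γ(X, V))) h1
    rw [← Polynomial.eval₂_id, Polynomial.hom_eval₂, map_zero, RingHom.comp_id] at h3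
    rw [← mul_div_cancel₀ (algebraMap Γ(X, V) (FractionRing Γ(X, V)) a) hgm, ← map_pow,
      Polynomial.scaleRoots_eval₂_mul] at h3
    have h4 := (mul_eq_zero.1 h3).resolve_left (pow_ne_zero _ (by rw [map_pow]; exact hgm))
    rwa [map_pow] at h4
  obtain ⟨b', hb'⟩ := IsIntegrallyClosed.isIntegral_iff.1 hint
  have hba : g ^ m * b' = a := IsFractionRing.injective Γ(X, V) (FractionRing Γ(X, V)) (by
    rw [map_mul, map_pow, hb']
    exact mul_div_cancel₀ _ (pow_ne_zero m fun h => hg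
      (IsFractionRing.injective Γ(X, V) (FractionRing Γ(X, V)) (h.trans (map_zero _).symm))))
  refine ⟨b', ?_⟩
  have key : ∀ (n : ℕ) (d : Γ(Y, π ⁻¹ᵁ V)), π.app V g ^ n * d = 0 → d = 0 := fun n => by
    induction n with
    | zero => intro d hd; simpa using hd
    | succ n ih => intro d hd; exact hnzd d (ih _ (by rw [← mul_assoc, ← pow_succ]; exact hd))
  refine sub_eq_zero.1 (key m _ ?_)
  rw [mul_sub, hgb, sub_eq_zero, ← hba, map_mul, map_pow]

/-- Specialisation chains have length at most one upstairs. -/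
theorem spec_cases (π : Y ⟶ X) [IsFinite π] (hd : topologicalKrullDim X ≤ 1) (a b c : Y) (hab : a ⤳ b)
    (hbc : b ⤳ c) : a = b ∨ b = c := by
  rcases Groth.L21.RR.Top.spec_of_dim_le_one (X := X.toTopCat) hd _ _ _ (hab.map π.continuous)
    (hbc.map π.continuous) with e | e
  · exact Or.inl (Groth.L07.Count.eq_of_specializes_qf π hab e)
  · exact Or.inr (Groth.L07.Count.eq_of_specializes_qf π hbc e)

theorem isField_stalk_of_nonclosed [IsReduced Y]
    (h : ∀ a b c : Y, a ⤳ b → b ⤳ c → a = b ∨ b = c) {y : Y} (hy : ¬ IsClosed ({y} : Set Y)) :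
    IsField (Y.presheaf.stalk y) := by
  refine isField_stalk_of_closure_mem_irreducibleComponents Y y ?_
  obtain ⟨Z, hZ, hyZ⟩ := exists_mem_irreducibleComponents_subset_of_isIrreducible _
    (isIrreducible_singleton (x := y))
  obtain ⟨η, hη⟩ := QuasiSober.sober hZ.1 (isClosed_of_mem_irreducibleComponents Z hZ)
  obtain ⟨w, hw, hne⟩ : ∃ w, y ⤳ w ∧ y ≠ w := by
    by_contra hh
    push Not at hh
    exact hy (isClosed_of_closure_subset fun w hw => (hh w (specializes_iff_mem_closure.2 hw)).symm)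
  rcases h η y w (hη.specializes (hyZ rfl)) hw with e | e
  · rw [← e, hη.def]; exact hZ
  · exact absurd e hne

end Groth.L21.TFNodal
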