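import Groth.Agent.L21.TFNodal.Basic
import Groth.Agent.L21.TFNodal.NormIso
import Groth.Agent.L10.RelCan.TensorDual
import Groth.Agent.L18.VanBundle
import Groth.Agent.L15.TFCurve.Gen
import Groth.Agent.L15.TFCurve.Modif
import Groth.Agent.L22.EnrSev.H0
import Groth.Agent.L11.Lemma179.Ass
import Groth.Agent.L08.Cube.Inverse
import Groth.Agent.L15.Ref.ExtDiv
import Mathlib.LinearAlgebra.Dual.Lemmas

/-!
Torsion-free coherent modules on a reduced curve embed in sums of twists.
-/

set_option autoImplicit false
set_option linter.style.haveILetI false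
set_option linter.unusedSectionVars false
set_option maxSynthPendingDepth 4
set_option backward.isDefEq.respectTransparency false
set_option backward.isDefEq.respectTransparency.types false
universe u

open CategoryTheory CategoryTheory.Limits AlgebraicGeometry

noncomputable section

namespace Groth.L21.TFNodal

/-- Combinations with coefficients in an infinite field are independent in finitely many spaces at once. -/
theorem exists_combination {k : Type*} [Field k] [Infinite k] {ι : Type*} [Finite ι] {K : ι → Type*}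
    [∀ i, Field (K i)] (α : ∀ i, k →+* K i) {D : ι → Type*} [∀ i, AddCommGroup (D i)] [∀ i, Module (K i) (D i)]
    {N r : ℕ} (f : ∀ i, Fin N → D i) (hspan : ∀ i, Submodule.span (K i) (Set.range (f i)) = ⊤)
    (hrank : ∀ i, Module.finrank (K i) (D i) = r) :
    ∃ c : Fin r → Fin N → k, ∀ i, LinearIndependent (K i) fun a => ∑ j, α i (c a j) • f i j := by
  suffices ∀ n, n ≤ r → ∃ c : Fin n → Fin N → k,
      ∀ i, LinearIndependent (K i) fun a => ∑ j, α i (c a j) • f i j from this r le_rfl
  intro n
  induction n with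
  | zero => exact fun _ => ⟨Fin.elim0, fun i => linearIndependent_empty_type⟩
  | succ n ih =>
    intro hn
    obtain ⟨c, hc⟩ := ih (Nat.le_of_succ_le hn)
    let S : ∀ i, Submodule (K i) (D i) := fun i =>
      Submodule.span (K i) (Set.range fun a => ∑ j, α i (c a j) • f i j)
    let bad : ι → Submodule k (Fin N → k) := fun i =>
      { carrier := {w : Fin N → k | (∑ j, α i (w j) • f i j) ∈ S i}
        add_mem' := fun {a b} (ha : (∑ j, α i (a j) • f i j) ∈ S i) (hb : (∑ j, α i (b j) • f i j) ∈ S i) =>
          show (∑ j, α i (a j + b j) • f i j) ∈ S i by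
            simp only [map_add, add_smul, Finset.sum_add_distrib]
            exact add_mem ha hb
        zero_mem' := show (∑ j, α i (0 : k) • f i j) ∈ S i by simp
        smul_mem' := fun s a (ha : (∑ j, α i (a j) • f i j) ∈ S i) =>
          show (∑ j, α i (s * a j) • f i j) ∈ S i by
            simp only [map_mul, mul_smul, ← Finset.smul_sum]
            exact Submodule.smul_mem _ _ ha }
    have hbad : ∀ i, bad i ≠ ⊤ := fun i h => by
      have h1 : (⊤ : Submodule (K i) (D i)) ≤
          Submodule.span (K i) (Set.range fun a => ∑ j, α i (c a j) • f i j) := by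
        rw [← hspan i, Submodule.span_le]
        rintro _ ⟨j, rfl⟩
        have hj : (Pi.single j 1 : Fin N → k) ∈ bad i := h ▸ Submodule.mem_top
        have hj' : ∑ l, α i ((Pi.single j 1 : Fin N → k) l) • f i l ∈
            Submodule.span (K i) (Set.range fun a => ∑ j, α i (c a j) • f i j) := hj
        rwa [Finset.sum_eq_single j (fun l _ hl => by rw [Pi.single_eq_of_ne hl, map_zero, zero_smul])
          (fun hh => absurd (Finset.mem_univ j) hh), Pi.single_eq_same, map_one, one_smul] at hj'
      have h2 := finrank_range_le_card (R := K i) fun a => ∑ j, α i (c a j) • f i j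
      rw [Set.finrank, top_le_iff.1 h1, finrank_top, hrank, Fintype.card_fin] at h2
      omega
    obtain ⟨w, hw⟩ := Submodule.exists_forall_notMem_of_forall_ne_top bad hbad
    refine ⟨Fin.cons w c, fun i => ?_⟩
    have e : (fun a : Fin (n + 1) => ∑ j, α i ((Fin.cons w c : Fin (n + 1) → Fin N → k) a j) • f i j) =
        Fin.cons (∑ j, α i (w j) • f i j) (fun a => ∑ j, α i (c a j) • f i j) := by
      funext a
      refine Fin.cases ?_ (fun a => ?_) a <;> simp
    rw [e, linearIndependent_finCons]
    exact ⟨hc i, hw i⟩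

open Groth.L10.RelCan (stk homE dualStalk homE_dualMap dualStalk_bidual)
open Groth.L21.RR (st)

variable {X : Scheme.{u}}

theorem stk_comp_apply {A B C : X.Modules} (f : A ⟶ B) (g : B ⟶ C) (x : X) (v : A.presheaf.stalk x) :
    stk (f ≫ g) x v = stk g x (stk f x v) := by
  show ((Groth.L00.Stk.F X x).map (f ≫ g)).hom v = _
  rw [Functor.map_comp]
  rfl

theorem stk_id_apply {A : X.Modules} (x : X) (v : A.presheaf.stalk x) : stk (𝟙 A) x v = v := by
  show ((Groth.L00.Stk.F X x).map (𝟙 A)).hom v = _
  rw [CategoryTheory.Functor.map_id]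
  rfl

theorem stk_sum_apply {A B : X.Modules} {ι : Type*} (s : Finset ι) (f : ι → (A ⟶ B)) (x : X)
    (v : A.presheaf.stalk x) : stk (∑ i ∈ s, f i) x v = ∑ i ∈ s, stk (f i) x v := by
  show ((Groth.L00.Stk.F X x).map (∑ i ∈ s, f i)).hom v = _
  rw [Functor.map_sum, ModuleCat.hom_sum, LinearMap.sum_apply]
  rfl

theorem stk_surjective {A B : X.Modules} (p : A ⟶ B) [Epi p] (x : X) :
    Function.Surjective (stk p x) :=
  Groth.L15.TFCurve.stalk_surjective p x

/-- A coherent module, free at the field points, maps to a twist, jointly injectively at the field points. -/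
theorem exists_maps [IsNoetherian X] {L : X.Modules} (hL : CohB1.IsAmple L) {F : X.Modules} (hF : Coh.IsCoh F) :
    ∃ (m N : ℕ) (φ : Fin N → (F ⟶ CohB1.tensorPow L m)), ∀ η : X, IsField (X.presheaf.stalk η) →
      ∀ v : F.presheaf.stalk η, (∀ j, stk (φ j) η v = 0) → v = 0 := by
  haveI : Coh.IsQCoh (Coh.structureModule X) := (Groth.L16.CohClosedPush.isCoh_structure (X := X)).1
  obtain ⟨L', hL', ⟨e⟩⟩ := Groth.L08.Cube.exists_inverse hL.1
  have hD := Groth.L15.Ref.isCoh_dual hF
  obtain ⟨a, N, p, hp⟩ := Groth.L18.LefTwists.exists_epi_negPow hL e hD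
  obtain ⟨g⟩ := Groth.L18.VanBundle.nonempty_free_tensor (CohB1.tensorPow L' a) N
  let M := CohB1.tensorPow L' a
  have hM : PicF.IsInvertible M := Groth.L18.Ample.isInvertible_tensorPow hL' a
  have hMc : Coh.IsCoh M := Groth.L16.ProperFinite.isCoh_of_isInvertible hM
  obtain ⟨ed⟩ := Groth.L18.NegVanish.nonempty_dual_invertible
    (Groth.L00.Tensor.tensorComm M (CohB1.tensorPow L a) ≪≫ Groth.L16.NegPow.powInvIso e a)
    (Groth.L20.ResDescent.isFinLocFree_of_isInvertible hM)
  let pj : Fin N → (M ⟶ RefHull.dual F) := fun j => Sigma.ι (fun _ : Fin N => M) j ≫ g.inv ≫ p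
  refine ⟨a, N, fun j => RefHull.bidualMap F ≫ RefFun.dualMap (pj j) ≫ ed.hom, fun η hη v hv => ?_⟩
  let b := stk (RefHull.bidualMap F) η v
  have h1 : ∀ (j : Fin N) (w : M.presheaf.stalk η), homE hD η b (stk (pj j) η w) = 0 := fun j w => by
    have h0 : stk (RefFun.dualMap (pj j)) η b = 0 := by
      have hh := hv j
      rw [stk_comp_apply, stk_comp_apply] at hh
      have := congrArg (stk ed.inv η) hh
      rwa [← stk_comp_apply, ed.hom_inv_id, stk_id_apply, map_zero] at this
    have hh2 := LinearMap.congr_fun (homE_dualMap hMc hD (pj j) η b) w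
    rw [h0, map_zero, LinearMap.zero_apply] at hh2
    exact hh2.symm
  have h2 : homE hD η b = 0 := LinearMap.ext fun θ => by
    haveI : Epi (g.inv ≫ p) := inferInstance
    obtain ⟨u, rfl⟩ := stk_surjective (g.inv ≫ p) η θ
    let c := biproduct.isoCoproduct fun _ : Fin N => M
    have hid : 𝟙 (∐ fun _ : Fin N => M) =
        ∑ j, (c.inv ≫ biproduct.π _ j) ≫ Sigma.ι (fun _ : Fin N => M) j := by
      have h3 : c.inv ≫ (∑ j, biproduct.π (fun _ : Fin N => M) j ≫ biproduct.ι (fun _ : Fin N => M) j) ≫ c.hom = 𝟙 _ := by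
        rw [biproduct.total, Category.id_comp, Iso.inv_hom_id]
      rw [← h3, Preadditive.sum_comp, Preadditive.comp_sum]
      exact Finset.sum_congr rfl fun j _ => by simp [c]
    rw [show u = stk (𝟙 _) η u from (stk_id_apply η u).symm, hid, stk_sum_apply, map_sum, map_sum,
      LinearMap.zero_apply]
    refine Finset.sum_eq_zero fun j _ => ?_
    rw [stk_comp_apply (c.inv ≫ biproduct.π _ j), ← stk_comp_apply (Sigma.ι _ j)]
    exact h1 j _
  have h4 : dualStalk hD η b = 0 := LinearMap.ext fun θ => by
    show (Groth.L15.Ref.strE η).symm (homE hD η b θ) = 0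
    rw [h2, LinearMap.zero_apply, map_zero]
  letI := hη.toField
  by_contra hne
  obtain ⟨f, hf⟩ := Submodule.exists_dual_map_eq_bot_of_notMem
    (p := (⊥ : Submodule (X.presheaf.stalk η) (F.presheaf.stalk η))) (by simpa using hne) inferInstance
  have h5 := LinearMap.congr_fun ((dualStalk_bidual hF η v).symm.trans h4) ((dualStalk hF η).symm f)
  refine hf.1 ?_
  have h6 : f v = (dualStalk hF η) ((dualStalk hF η).symm f) v :=
    (LinearMap.congr_fun ((dualStalk hF η).apply_symm_apply f) v).symm
  exact h6.trans h5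

end Groth.L21.TFNodal
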