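import Groth.Agent.L22.PicGlue.Extension
import Groth.Agent.L21.Mod.Glue
import Groth.Agent.L21.Mod.Stalks
import Groth.Agent.L16.HomSh.Adjunction
import Groth.Agent.L15.Ref.FreeLocus

/-!
A module locally isomorphic to an ideal, which is trivial off its cosupport, is the ideal tensored with an
invertible module.
-/

set_option autoImplicit false
set_option linter.style.haveILetI false
set_option backward.isDefEq.respectTransparency false
set_option backward.isDefEq.respectTransparency.types false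
universe u

open CategoryTheory AlgebraicGeometry TopologicalSpace Opposite
open Groth.L21.Extend (IsGen GenOn rO rs rs_rs rs_smul rs_self rO_rO)
open Groth.L16.HomSh (Sec ev ev_rs ev_smul ev_smulSec homMod evalMod secEquiv evalMod_tens tensorMap_tens resSec)
open Groth.L00.Tensor (tensorMap)
open Groth.L18.GenLoc (tens)
open Groth.L15.Ref (tst tst_germ τE exists_rep)
open Groth.L22.PicGlue

noncomputable section

namespace Groth.L21.TFNodal.Glue

variable {X : Scheme.{u}} {I L : X.Modules} (ι : I ⟶ Coh.structureModule X)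

/-- The map to functions on sections. -/
def fn {W : X.Opens} (z : Γ(I, W)) : Γ(X, W) := ι.app W z

theorem fn_add {W : X.Opens} (a b : Γ(I, W)) : fn ι (a + b) = fn ι a + fn ι b := map_add (ι.app W).hom a b

theorem fn_smul {W : X.Opens} (r : Γ(X, W)) (a : Γ(I, W)) : fn ι (r • a) = r * fn ι a := ι.app_smul r a

theorem fn_rs {W W' : X.Opens} (h : W' ≤ W) (a : Γ(I, W)) : fn ι (rs I h a) = rO X h (fn ι a) :=
  Groth.L16.HomSh.hom_app_rs ι h a

/-- Multiples of a section. -/
def mulFam {O : X.Opens} (e : Γ(L, O)) : Sec I L O :=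
  ⟨fun W => AddMonoidHom.mk' (fun z => fn ι z • rs L W.2 e) fun a b => by rw [fn_add, add_smul],
    fun W W' h h' z => by
      show rs L h' (fn ι z • rs L h e) = fn ι (rs I h' z) • rs L (h'.trans h) e
      rw [rs_smul, rs_rs, fn_rs],
    fun W h a z => by
      show fn ι (a • z) • rs L h e = a • fn ι z • rs L h e
      rw [fn_smul, mul_smul]⟩

theorem ev_mulFam {O : X.Opens} (e : Γ(L, O)) {W : X.Opens} (h : W ≤ O) (z : Γ(I, W)) :
    ev (mulFam ι e) h z = fn ι z • rs L h e := rfl

variable {U : X.Opens} (hι : ∀ W ≤ U, Function.Bijective (ι.app W))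

include hι in
theorem bijective_fn {W : X.Opens} (h : W ≤ U) : Function.Bijective (fn ι : Γ(I, W) → Γ(X, W)) := hι W h

/-- The section mapping to one. -/
def unitSec {W : X.Opens} (h : W ≤ U) : Γ(I, W) := ((bijective_fn ι hι h).2 1).choose

theorem fn_unitSec {W : X.Opens} (h : W ≤ U) : fn ι (unitSec ι hι h) = 1 :=
  ((bijective_fn ι hι h).2 1).choose_spec

variable {κ : Type u} (V : κ → X.Opens) (φ : ∀ s, Sec I L (V s))

/-- The generators near the cosupport. -/
def genAt (s : κ) : Γ(L, V s ⊓ U) := ev (φ s) inf_le_left (unitSec ι hι inf_le_right)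

theorem ev_eq_fn_smul (s : κ) {W : X.Opens} (h : W ≤ V s) (hU : W ≤ U) (z : Γ(I, W)) :
    ev (φ s) h z = fn ι z • rs L (le_inf h hU) (genAt ι hι V φ s) := by
  have h1 : z = fn ι z • rs I (le_inf h hU) (unitSec ι hι (inf_le_right : V s ⊓ U ≤ U)) :=
    (bijective_fn ι hι hU).1 (by rw [fn_smul, fn_rs, fn_unitSec, show rO X _ (1 : Γ(X, V s ⊓ U)) = 1 from map_one _,
      mul_one])
  conv_lhs => rw [h1, ev_smul]
  congr 1
  exact (ev_rs (φ s) inf_le_left (le_inf h hU) _).symm

variable (hφ : ∀ s (W : X.Opens) (h : W ≤ V s), Function.Bijective (ev (φ s) h))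

include hφ in
theorem isGen_genAt (s : κ) : IsGen L (V s ⊓ U) (genAt ι hι V φ s) := fun W h => by
  have h2 := (hφ s W (h.trans inf_le_left)).comp
    (Equiv.ofBijective _ (bijective_fn ι hι (h.trans inf_le_right))).symm.bijective
  refine (congrArg Function.Bijective (funext fun a => ?_)).mp h2
  rw [Function.comp_apply, ev_eq_fn_smul ι hι V φ s (h.trans inf_le_left) (h.trans inf_le_right)]
  congr 1
  exact (Equiv.ofBijective _ (bijective_fn ι hι (h.trans inf_le_right))).apply_symm_apply a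

variable (hgen : GenOn L U) (hinter : ∀ s t, s ≠ t → V s ⊓ V t ≤ U) (hcov : ∀ x, x ∉ U → ∃ s, x ∈ V s)

/-- The gluing data of the invertible factor. -/
@[reducible] def data : ExtInput U L where
  κ := κ
  N := V
  e := genAt ι hι V φ
  isGen := isGen_genAt ι hι V φ hφ
  inter := hinter
  cover := hcov

/-- The local maps from the ideal. -/
def fam : ∀ i, Sec I L (allN hgen (data ι hι V φ hφ hinter hcov) i)
  | Sum.inl y => mulFam ι (hgen y.1 y.2).choose_spec.choose_spec.choose_spec.choose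
  | Sum.inr s => φ s

theorem ev_fam (i : U ⊕ κ) {W : X.Opens} (h : W ≤ allN hgen (data ι hι V φ hφ hinter hcov) i) (hU : W ≤ U)
    (z : Γ(I, W)) :
    ev (fam ι hι V φ hφ hgen hinter hcov i) h z =
      fn ι z • rs L (le_inf h hU) (allE hgen (data ι hι V φ hφ hinter hcov) i) := by
  rcases i with y | s
  · show fn ι z • rs L h _ = fn ι z • rs L _ (rs L _ _)
    rw [rs_rs]
  · exact ev_eq_fn_smul ι hι V φ s h hU z

include hι hφ in
theorem bijective_ev_fam (i : U ⊕ κ) {W : X.Opens}
    (h : W ≤ allN hgen (data ι hι V φ hφ hinter hcov) i) :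
    Function.Bijective (ev (fam ι hι V φ hφ hgen hinter hcov i) h) := by
  rcases i with y | s
  · exact (((hgen y.1 y.2).choose_spec.choose_spec.choose_spec.choose_spec) W h).comp
      (bijective_fn ι hι (h.trans (allN_le hgen (data ι hι V φ hφ hinter hcov) y)))
  · exact hφ s W h

theorem fam_trans (i j : U ⊕ κ) {W : X.Opens} (hi : W ≤ allN hgen (data ι hι V φ hφ hinter hcov) i)
    (hj : W ≤ allN hgen (data ι hι V φ hφ hinter hcov) j) (z : Γ(I, W)) :
    ev (fam ι hι V φ hφ hgen hinter hcov j) hj z =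
      rO X (le_inf hi hj) (trans hgen (data ι hι V φ hφ hinter hcov) i j) •
        ev (fam ι hι V φ hφ hgen hinter hcov i) hi z := by
  by_cases hij : i = j
  · subst hij
    rw [trans_self, rO_one, one_smul]
  · have hU : W ≤ U := (le_inf hi hj).trans (inter_le hgen (data ι hι V φ hφ hinter hcov) i j hij)
    rw [ev_fam ι hι V φ hφ hgen hinter hcov i hi hU, ev_fam ι hι V φ hφ hgen hinter hcov j hj hU,
      ← trans_smul hgen (data ι hι V φ hφ hinter hcov) i j hi hj hU, smul_comm]

local notation "𝒞" => cocycle hgen (data ι hι V φ hφ hinter hcov)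
local notation "𝒢" => extension hgen (data ι hι V φ hφ hinter hcov)
local notation "𝓕" => fam ι hι V φ hφ hgen hinter hcov

theorem exists_toHom : ∃ β : 𝒢 ⟶ homMod I L, ∀ (i : U ⊕ κ) (W : X.Opens)
    (h : W ≤ allN hgen (data ι hι V φ hφ hinter hcov) i) (a : Γ(𝒢, W)) (z : Γ(I, W)),
      ev (secEquiv W (β.app W a)) le_rfl z = coef (𝒞) i h a • ev (𝓕 i) h z := by
  have hcoef : ∀ i j (W : X.Opens) (hi : W ≤ allN hgen (data ι hι V φ hφ hinter hcov) i)
      (hj : W ≤ allN hgen (data ι hι V φ hφ hinter hcov) j) (a : Γ(𝒢, W)) (z : Γ(I, W)),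
      coef (𝒞) j hj a • ev (𝓕 j) hj z = coef (𝒞) i hi a • ev (𝓕 i) hi z := fun i j W hi hj a z => by
    rw [fam_trans ι hι V φ hφ hgen hinter hcov i j hi hj z, smul_smul]
    congr 1
    have := congrArg (rO X (le_inf le_rfl (le_inf hi hj) : W ≤ W ⊓ ((𝒞).N i ⊓ (𝒞).N j))) (coords_cond (𝒞) a i j)
    rw [Groth.L22.PicGlue.rO_mul, rO_rO, rO_rO, rO_rO] at this
    rw [mul_comm]
    exact this.symm
  let f : ∀ i (W : X.Opens), W ≤ allN hgen (data ι hι V φ hφ hinter hcov) i →
      (Γ(𝒢, W) ⟶ Γ(homMod I L, W)) := fun i W h =>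
    AddCommGrpCat.ofHom (AddMonoidHom.mk'
      (fun a => (secEquiv W).symm (coef (𝒞) i h a • resSec h (𝓕 i))) fun a b => by
        rw [show coef (𝒞) i h (a + b) = coef (𝒞) i h a + coef (𝒞) i h b from map_add _ _ _, add_smul, map_add])
  obtain ⟨β, hβ, -⟩ := Groth.L21.Mod.existsUnique_hom (U := allN hgen (data ι hι V φ hφ hinter hcov))
    (eq_top_iff.2 fun x _ => Opens.mem_iSup.2 (cover_all hgen (data ι hι V φ hφ hinter hcov) x)) f
    (fun i j W W' hi hj h => by
      ext a
      refine (secEquiv W).injective (Groth.L16.HomSh.sec_ext fun O hO z => ?_)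
      show rO X hO (coef (𝒞) i hi (rs (𝒢) h a)) • ev (𝓕 i) (hO.trans hi) z =
        rO X (hO.trans h) (coef (𝒞) j hj a) • ev (𝓕 j) (hO.trans (h.trans hj)) z
      rw [← coef_rs (𝒞) i hi hO, ← coef_rs (𝒞) j hj (hO.trans h), rs_rs]
      exact (hcoef i j O _ _ _ z).symm)
    (fun i W h r a => by
      show (secEquiv W).symm (coef (𝒞) i h (r • a) • resSec h (𝓕 i)) =
        r • (secEquiv W).symm (coef (𝒞) i h a • resSec h (𝓕 i))
      refine (congrArg (secEquiv W).symm ?_).trans ((secEquiv W).symm.map_smul r _)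
      rw [smul_smul]
      congr 1
      rw [coef, coords_smul, Groth.L22.PicGlue.rO_mul, rO_rO]
      congr 1
      exact rO_self _ r)
  refine ⟨β, fun i W h a z => ?_⟩
  rw [hβ i W h]
  show rO X le_rfl (coef (𝒞) i h a) • ev (𝓕 i) _ z = _
  rw [rO_self]

/-- A module locally isomorphic to an ideal, trivial off its cosupport, is the ideal times an invertible module. -/
theorem exists_iso_tensor {U : X.Opens} (hι : ∀ W ≤ U, Function.Bijective (ι.app W)) (hgen : GenOn L U)
    {κ : Type u} (V : κ → X.Opens) (hcov : ∀ x, x ∉ U → ∃ s, x ∈ V s)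
    (hinter : ∀ s t, s ≠ t → V s ⊓ V t ≤ U) (φ : ∀ s, Sec I L (V s))
    (hφ : ∀ s (W : X.Opens) (h : W ≤ V s), Function.Bijective (ev (φ s) h)) :
    ∃ M : X.Modules, PicF.IsInvertible M ∧ Nonempty (L ≅ CohB1.tensorMod I M) := by
  let D := data ι hι V φ hφ hinter hcov
  let M' := extension hgen D
  let C' := cocycle hgen D
  refine ⟨M', isInvertible_extension hgen D, ?_⟩
  obtain ⟨β, hβ⟩ := exists_toHom ι hι V φ hφ hgen hinter hcov
  let ψ : CohB1.tensorMod I M' ⟶ L := tensorMap (𝟙 I) β ≫ evalMod I L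
  suffices h : ∀ x, Function.Bijective (RefHull.stalkMapₗ ψ x) by
    haveI : IsIso ψ := by
      rw [Scheme.Modules.Hom.isIso_iff_isIso_app]
      intro W
      rw [ConcreteCategory.isIso_iff_bijective]
      exact Groth.L15.Ref.app_bijective_of_stalk ψ fun y _ => h y
    exact ⟨(asIso ψ).symm⟩
  intro x
  obtain ⟨i, hxi⟩ := cover_all hgen D x
  let g := M'.presheaf.germ (C'.N i) x hxi (gen C' i)
  have key : ∀ (W : X.Opens) (hxW : x ∈ W) (h : W ≤ C'.N i) (m : Γ(I, W)),
      RefHull.stalkMapₗ ψ x (tst I M' x (I.presheaf.germ W x hxW m) g) =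
        L.presheaf.germ W x hxW (ev (fam ι hι V φ hφ hgen hinter hcov i) h m) := fun W hxW h m => by
    rw [show g = M'.presheaf.germ W x hxW (rs M' h (gen C' i)) from
      (Groth.L20.ModStalk.germ_rs M' h hxW _).symm, tst_germ, RefHull.stalkMapₗ_germ]
    congr 1
    show (evalMod I L).app W ((tensorMap (𝟙 I) β).app W (tens I M' W m _)) = _
    rw [tensorMap_tens, evalMod_tens]
    show ev (secEquiv W (β.app W (rs M' h (gen C' i)))) le_rfl m = _
    rw [hβ i W h, show coef C' i h (rs M' h (gen C' i)) = 1 by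
      conv_lhs => rw [← one_smul Γ(X, W) (rs M' h (gen C' i))]
      exact coef_smul_gen C' i h 1, one_smul]
  have hsurj : ∀ w, ∃ z, w = tst I M' x z g := fun w => by
    obtain ⟨p, rfl⟩ := (τE I M' x).surjective w
    induction p using TensorProduct.induction_on with
    | zero => exact ⟨0, by rw [map_zero, map_zero, LinearMap.zero_apply]⟩
    | tmul m n =>
      obtain ⟨W, hW, hxW, a, rfl⟩ := exists_rep (M := M') hxi n
      refine ⟨X.presheaf.germ W x hxW (coef C' i hW a) • m, ?_⟩
      rw [map_smul, LinearMap.smul_apply]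
      conv_lhs => rw [← smul_gen_eq C' i hW a, Groth.L20.ModStalk.germ_smul, Groth.L20.ModStalk.germ_rs,
        TensorProduct.tmul_smul, map_smul]
      rfl
    | add p q hp hq =>
      obtain ⟨a, ha⟩ := hp
      obtain ⟨b, hb⟩ := hq
      exact ⟨a + b, by rw [map_add, ha, hb, map_add, LinearMap.add_apply]⟩
  constructor
  · refine (injective_iff_map_eq_zero _).2 fun w hw => ?_
    obtain ⟨z, rfl⟩ := hsurj w
    obtain ⟨W, hW, hxW, m, rfl⟩ := exists_rep (M := I) hxi z
    rw [key W hxW hW] at hw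
    obtain ⟨W', hxW', i₁, i₂, e⟩ := TopCat.Presheaf.germ_eq L.presheaf x hxW hxW _ 0 (hw.trans (map_zero _).symm)
    have h0 : Groth.L18.Frame.rs I i₁.le m = 0 := (bijective_ev_fam ι hι V φ hφ hgen hinter hcov i (i₁.le.trans hW)).1 (by
      rw [map_zero, ← ev_rs _ hW i₁.le m]
      exact e.trans (map_zero _))
    rw [← Groth.L20.ModStalk.germ_rs I i₁.le hxW' m, h0, map_zero, map_zero, LinearMap.zero_apply]
  · intro v
    obtain ⟨W, hW, hxW, n, rfl⟩ := exists_rep (M := L) hxi v
    obtain ⟨m, rfl⟩ := (bijective_ev_fam ι hι V φ hφ hgen hinter hcov i hW).2 n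
    exact ⟨_, key W hxW hW m⟩

end Groth.L21.TFNodal.Glue
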