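import Mathlib.RingTheory.Localization.BaseChange
import Mathlib.RingTheory.LocalRing.Module
import Mathlib.RingTheory.Length
import Mathlib.RingTheory.IntegralClosure.IsIntegralClosure.Basic
import Mathlib.LinearAlgebra.TensorProduct.Tower
import Mathlib.LinearAlgebra.TensorProduct.Quotient
import Mathlib.RingTheory.TensorProduct.Finite
import Mathlib.LinearAlgebra.Dimension.Constructions
import Mathlib.RingTheory.LocalRing.ResidueField.Basic
import Mathlib.RingTheory.Polynomial.ScaleRoots
import Mathlib.RingTheory.Nakayama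
import Mathlib.RingTheory.Ideal.Cotangent
import Mathlib.LinearAlgebra.TensorProduct.Prod
import Mathlib.LinearAlgebra.TensorProduct.Pi

/-!
A finite birational extension of a local ring with cokernel of length one, and modules over it.
-/

set_option autoImplicit false
set_option linter.style.haveILetI false

universe u

open TensorProduct IsLocalRing

noncomputable section

namespace Groth.L21.TFNodal

variable {R B A : Type u} [CommRing R] [CommRing B] [CommRing A] [IsLocalRing A] [Algebra R A] [Algebra R B]
  (p : Ideal R) [p.IsPrime] [IsLocalization.AtPrime A p]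

omit [p.IsPrime] in
theorem simple_smul_top {C : Type u} [AddCommGroup C] [Module A C] (h : Module.length A C = 1) :
    maximalIdeal A • (⊤ : Submodule A C) = ⊥ := by
  haveI := Module.length_eq_one_iff.1 h
  refine (IsSimpleOrder.eq_bot_or_eq_top _).resolve_right fun htop => ?_
  haveI : Nontrivial C := IsSimpleModule.nontrivial A C
  haveI : Module.Finite A C := inferInstance
  exact top_ne_bot (Submodule.eq_bot_of_le_smul_of_le_jacobson_bot (maximalIdeal A) (⊤ : Submodule A C)
    Module.Finite.fg_top htop.ge (maximalIdeal_le_jacobson _))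

/-- Elements of `p` multiply `B` into `p`, up to a denominator. -/
theorem exists_smul_eq [Module.Finite R B] (hinj : Function.Injective (algebraMap R B))
    {P : Type u} [AddCommGroup P] [Module R P] [Module A P] [IsScalarTower R A P]
    (g : B →ₗ[R] P) [IsLocalizedModule p.primeCompl g] (ω : A →ₗ[A] P)
    (hω : ∀ a : R, ω (algebraMap R A a) = g (algebraMap R B a))
    (hlen : Module.length A (P ⧸ LinearMap.range ω) = 1) (r : R) (hr : r ∈ p) (b : B) :
    ∃ s, s ∉ p ∧ ∃ c ∈ p, (s * r) • b = algebraMap R B c := by
  have hrm : algebraMap R A r ∈ maximalIdeal A :=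
    (IsLocalization.AtPrime.to_map_mem_maximal_iff A p r).2 hr
  have h1 : (Submodule.mkQ (LinearMap.range ω)) (algebraMap R A r • g b) = 0 := by
    rw [map_smul]
    have h := Submodule.smul_mem_smul (M := P ⧸ LinearMap.range ω) hrm
      (Submodule.mem_top (x := (Submodule.mkQ (LinearMap.range ω)) (g b)))
    rwa [simple_smul_top hlen, Submodule.mem_bot] at h
  obtain ⟨a, ha⟩ : algebraMap R A r • g b ∈ LinearMap.range ω := (Submodule.Quotient.mk_eq_zero _).1 h1
  obtain ⟨⟨c, s⟩, hcs⟩ := IsLocalization.surj p.primeCompl a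
  have h2 : g (((s : R) * r) • b) = g (algebraMap R B c) := by
    calc g (((s : R) * r) • b) = algebraMap R A (s : R) • (algebraMap R A r • g b) := by
          rw [map_smul, mul_smul, algebraMap_smul, algebraMap_smul]
      _ = ω (a * algebraMap R A (s : R)) := by rw [← ha, ← map_smul, smul_eq_mul, mul_comm]
      _ = g (algebraMap R B c) := by rw [hcs, hω]
  obtain ⟨t, ht⟩ := IsLocalizedModule.exists_of_eq (S := p.primeCompl) h2
  have h3 : (((t : R) * s) * r) • b = algebraMap R B ((t : R) * c) := by
    rw [mul_assoc, mul_smul]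
    exact ht.trans (by rw [Submonoid.smul_def, Algebra.smul_def, map_mul])
  refine ⟨(t : R) * s, fun h => (Ideal.IsPrime.mem_or_mem inferInstance h).elim t.2 s.2, _, ?_, h3⟩
  obtain ⟨P, hP, hPb⟩ := (Algebra.IsIntegral.isIntegral (R := R) (((t : R) * s) • b) : IsIntegral R _)
  have h4 : algebraMap R B ((t : R) * c) = r • (((t : R) * s) • b) := by
    rw [← h3, ← mul_smul, mul_comm r]
  have h5 := Polynomial.scaleRoots_eval₂_eq_zero (algebraMap R B) (s := r) hPb
  rw [← Algebra.smul_def, ← h4, Polynomial.eval₂_at_apply,
    map_eq_zero_iff _ hinj, Polynomial.eval_eq_sum_range, Polynomial.natDegree_scaleRoots,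
    Finset.sum_range_succ, Polynomial.coeff_scaleRoots_natDegree, hP.leadingCoeff, one_mul] at h5
  have h6 : (((t : R) * c) ^ P.natDegree : R) ∈ p := by
    rw [← add_zero (((t : R) * c) ^ P.natDegree), ← neg_add_cancel_left (∑ i ∈ Finset.range P.natDegree,
      (P.scaleRoots r).coeff i * ((t : R) * c) ^ i) (((t : R) * c) ^ P.natDegree), h5, add_zero, add_zero]
    refine neg_mem (sum_mem fun i hi => ?_)
    rw [Polynomial.coeff_scaleRoots]
    refine Ideal.mul_mem_right _ _ (Ideal.mul_mem_left _ _ ?_)
    exact Ideal.pow_mem_of_mem _ hr _ (Nat.sub_pos_of_lt (Finset.mem_range.1 hi))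
  exact Ideal.IsPrime.mem_of_pow_mem inferInstance _ h6

variable {M'' P N M : Type u} [AddCommGroup M''] [Module R M''] [Module B M''] [IsScalarTower R B M'']
  [AddCommGroup P] [Module R P] [Module A P] [IsScalarTower R A P]
  [AddCommGroup N] [Module R N] [Module A N] [IsScalarTower R A N]
  [AddCommGroup M] [Module R M]
  (g : M'' →ₗ[R] P) [IsLocalizedModule p.primeCompl g]
  (l : M →ₗ[R] N) (u : M →ₗ[R] M'') (ω : N →ₗ[A] P)

omit [IsScalarTower R A N] in
/-- If `M''` is generated over `B` by the image of `M`, then `m P` is the image of `m N`. -/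
theorem smul_top_le_map (hK : ∀ r ∈ p, ∀ b : B, ∃ s, s ∉ p ∧ ∃ c ∈ p, (s * r) • b = algebraMap R B c)
    (hspan : Submodule.span B (Set.range u) = ⊤) (hω : ∀ x, ω (l x) = g (u x)) :
    maximalIdeal A • (⊤ : Submodule A P) ≤ Submodule.map ω (maximalIdeal A • ⊤) := by
  set T := Submodule.map ω (maximalIdeal A • (⊤ : Submodule A N))
  have key : ∀ r ∈ p, ∀ y : M'', algebraMap R A r • g y ∈ T := by
    intro r hr y
    have hy : y ∈ Submodule.span B (Set.range u) := hspan ▸ Submodule.mem_top
    revert r
    refine Submodule.closure_induction (p := fun y _ => ∀ r ∈ p, algebraMap R A r • g y ∈ T) ?_ ?_ ?_ hy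
    · intro r _; rw [map_zero, smul_zero]; exact zero_mem _
    · intro y z _ _ hy hz r hr; rw [map_add, smul_add]; exact add_mem (hy r hr) (hz r hr)
    · rintro b _ ⟨x, rfl⟩ r hr
      obtain ⟨s, hs, c, hc, hsc⟩ := hK r hr b
      obtain ⟨v, hv⟩ := (IsLocalization.map_units A (⟨s, hs⟩ : p.primeCompl)).exists_left_inv
      have h1 : algebraMap R A s • (algebraMap R A r • g (b • u x)) = ω (algebraMap R A c • l x) := by
        rw [algebraMap_smul, algebraMap_smul, ← mul_smul, ← map_smul, ← smul_assoc, hsc,
          algebraMap_smul, map_smul, map_smul, hω, algebraMap_smul]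
      have h2 : algebraMap R A r • g (b • u x) = v • ω (algebraMap R A c • l x) := by
        rw [← h1, smul_smul, hv, one_smul]
      rw [h2, ← map_smul]
      exact Submodule.mem_map_of_mem (Submodule.smul_mem _ _ (Submodule.smul_mem_smul
        ((IsLocalization.AtPrime.to_map_mem_maximal_iff A p c).2 hc) Submodule.mem_top))
  refine Submodule.smul_le.2 fun a ha z _ => ?_
  obtain ⟨⟨c, s⟩, hcs⟩ := IsLocalization.surj p.primeCompl a
  obtain ⟨⟨y, t⟩, hyt⟩ := IsLocalizedModule.surj p.primeCompl g z
  have hc : c ∈ p := (IsLocalization.AtPrime.to_map_mem_maximal_iff A p c).1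
    (hcs ▸ Ideal.mul_mem_right _ _ ha)
  obtain ⟨v, hv⟩ := (IsLocalization.map_units A (s * t)).exists_left_inv
  have : a • z = v • (algebraMap R A c • g y) := by
    rw [← hcs, ← hyt, Submonoid.smul_def, ← algebraMap_smul A (t : R) z, smul_smul, smul_smul]
    congr 1
    rw [Submonoid.coe_mul, map_mul] at hv
    linear_combination -a * hv
  rw [this]
  exact Submodule.smul_mem _ _ (key c hc y)

omit [p.IsPrime] in
/-- The length of the cokernel of an injection with the same `m`-multiple. -/
theorem length_coker_add (hinj : Function.Injective ω)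
    (h : maximalIdeal A • (⊤ : Submodule A P) ≤ Submodule.map ω (maximalIdeal A • ⊤)) :
    Module.length A (N ⧸ maximalIdeal A • (⊤ : Submodule A N)) + Module.length A (P ⧸ LinearMap.range ω) =
      Module.length A (P ⧸ maximalIdeal A • (⊤ : Submodule A P)) := by
  have heq : Submodule.map ω (maximalIdeal A • ⊤) = maximalIdeal A • (⊤ : Submodule A P) :=
    le_antisymm (by rw [Submodule.map_smul'']; exact Submodule.smul_mono le_rfl le_top) h
  let f₁ : (N ⧸ maximalIdeal A • (⊤ : Submodule A N)) →ₗ[A] P ⧸ maximalIdeal A • (⊤ : Submodule A P) :=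
    Submodule.mapQ _ _ ω (Submodule.map_le_iff_le_comap.1 heq.le)
  let f₂ : (P ⧸ maximalIdeal A • (⊤ : Submodule A P)) →ₗ[A] P ⧸ LinearMap.range ω :=
    Submodule.factor (heq ▸ LinearMap.map_le_range)
  refine (Module.length_eq_add_of_exact f₁ f₂ ?_ (Submodule.factor_surjective _) ?_).symm
  · refine (injective_iff_map_eq_zero _).2 fun x hx => ?_
    induction x using Submodule.Quotient.induction_on with
    | H n =>
      rw [Submodule.mapQ_apply, Submodule.Quotient.mk_eq_zero, ← heq] at hx
      obtain ⟨n', hn', e⟩ := hx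
      exact (Submodule.Quotient.mk_eq_zero _).2 (hinj e ▸ hn')
  · rw [LinearMap.exact_iff, Submodule.range_mapQ, Submodule.ker_mapQ]
    · rw [Submodule.comap_id]


include p g in
/-- The fibre of a localisation is the fibre of the module. -/
theorem length_quot_eq : Module.length A (P ⧸ maximalIdeal A • (⊤ : Submodule A P)) =
    Module.length (ResidueField A) (ResidueField A ⊗[R] M'') := by
  have hbc : IsBaseChange A g := IsLocalizedModule.isBaseChange p.primeCompl A g
  let e : (P ⧸ maximalIdeal A • (⊤ : Submodule A P)) ≃ₗ[A] ResidueField A ⊗[R] M'' :=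
    (TensorProduct.quotTensorEquivQuotSMul P (maximalIdeal A)).symm ≪≫ₗ
      (TensorProduct.congr (LinearEquiv.refl A (A ⧸ maximalIdeal A)) hbc.equiv.symm) ≪≫ₗ
      (AlgebraTensorModule.cancelBaseChange R A A (A ⧸ maximalIdeal A) M'')
  rw [e.length_eq, Module.length_eq_of_surjective (S := A) (R := ResidueField A) residue_surjective]

omit [IsLocalization.AtPrime A p] in
/-- Fibre dimension of a base change. -/
theorem length_residue_baseChange [Module.Finite R B] [Module.Finite R M] (hu : IsBaseChange B u) :
    Module.length (ResidueField A) (ResidueField A ⊗[R] M'') =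
      ((Module.finrank (ResidueField A) (ResidueField A ⊗[R] B) *
        Module.finrank (ResidueField A) (ResidueField A ⊗[R] M) : ℕ) : ℕ∞) := by
  let e : ResidueField A ⊗[R] M'' ≃ₗ[ResidueField A]
      (ResidueField A ⊗[R] B) ⊗[ResidueField A] (ResidueField A ⊗[R] M) :=
    AlgebraTensorModule.congr (LinearEquiv.refl _ (ResidueField A)) (hu.equiv.symm.restrictScalars R) ≪≫ₗ
      (AlgebraTensorModule.assoc R R (ResidueField A) (ResidueField A) B M).symm ≪≫ₗ
      (AlgebraTensorModule.cancelBaseChange R (ResidueField A) (ResidueField A) (ResidueField A ⊗[R] B) M).symm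
  rw [e.length_eq, Module.length_eq_finrank, Module.finrank_tensorProduct]

omit [p.IsPrime] in
/-- The fibre dimension of `A^a × m^c`. -/
theorem length_quot_type {A : Type u} [CommRing A] [IsLocalRing A] [IsNoetherianRing A] {d : ℕ}
    (hd : Module.finrank (ResidueField A) (CotangentSpace A) = d)
    {N : Type u} [AddCommGroup N] [Module A N] {a c : ℕ}
    (e : N ≃ₗ[A] (Fin a → A) × (Fin c → maximalIdeal A)) :
    Module.length A (N ⧸ maximalIdeal A • (⊤ : Submodule A N)) = ((a + c * d : ℕ) : ℕ∞) := by
  let κ := A ⧸ maximalIdeal A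
  let e1 : κ ⊗[A] N ≃ₗ[A] (Fin a → κ) × (Fin c → CotangentSpace A) :=
    TensorProduct.congr (LinearEquiv.refl A κ) e ≪≫ₗ TensorProduct.prodRight A A κ _ _ ≪≫ₗ
      LinearEquiv.prodCongr (TensorProduct.piScalarRight A A κ (Fin a))
        (TensorProduct.piRight A A κ (fun _ : Fin c => ↥(maximalIdeal A)) ≪≫ₗ
          LinearEquiv.piCongrRight fun _ => TensorProduct.quotTensorEquivQuotSMul _ (maximalIdeal A))
  have hκ : Module.length A κ = 1 := by
    show Module.length A (ResidueField A) = 1
    rw [Module.length_eq_of_surjective (S := A) (R := ResidueField A) residue_surjective]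
    exact (Module.length_eq_finrank _ _).trans (by rw [Module.finrank_self]; rfl)
  have hC : Module.length A (CotangentSpace A) = (d : ℕ∞) := by
    rw [Module.length_eq_of_surjective (S := A) (R := ResidueField A) residue_surjective,
      Module.length_eq_finrank, hd]
  rw [((TensorProduct.quotTensorEquivQuotSMul N (maximalIdeal A)).symm ≪≫ₗ e1).length_eq, Module.length_prod,
    Module.length_pi, Module.length_pi, ENat.card_eq_coe_fintype_card, ENat.card_eq_coe_fintype_card, Fintype.card_fin, Fintype.card_fin, hκ, hC]
  push_cast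
  ring

/-- The cokernel of length one gives fibres of dimension two. -/
theorem finrank_residue_eq_two [Module.Finite R B] (hinj : Function.Injective (algebraMap R B))
    {P : Type u} [AddCommGroup P] [Module R P] [Module A P] [IsScalarTower R A P]
    (g : B →ₗ[R] P) [IsLocalizedModule p.primeCompl g] (ω : A →ₗ[A] P)
    (hω : ∀ a : R, ω (algebraMap R A a) = g (algebraMap R B a)) (hωinj : Function.Injective ω)
    (hlen : Module.length A (P ⧸ LinearMap.range ω) = 1) :
    Module.finrank (ResidueField A) (ResidueField A ⊗[R] B) = 2 := by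
  have hK := exists_smul_eq p hinj g ω hω hlen
  have h := smul_top_le_map p g (Algebra.linearMap R A) (Algebra.linearMap R B) ω (fun r hr b => hK r hr b)
    (eq_top_iff.2 fun b _ => by
      rw [← mul_one b, ← smul_eq_mul]
      exact Submodule.smul_mem _ _ (Submodule.subset_span ⟨1, (algebraMap R B).map_one⟩)) hω
  have h2 := length_coker_add ω hωinj h
  rw [length_quot_eq p g, Module.length_eq_finrank, hlen, smul_eq_mul, Ideal.mul_top] at h2
  change Module.length A (ResidueField A) + 1 = _ at h2
  rw [Module.length_eq_of_surjective (S := A) (R := ResidueField A) residue_surjective, Module.length_eq_finrank,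
    Module.finrank_self] at h2
  exact_mod_cast h2.symm

end Groth.L21.TFNodal
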