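import Groth.Agent.L22.Norm.Reduced
import Groth.Agent.L21.TFNodal.NodeAlg
import Groth.Agent.L06.MulticrossApps
import Mathlib.RingTheory.DedekindDomain.PID
import Mathlib.RingTheory.Ideal.GoingUp
import Mathlib.RingTheory.IntegralClosure.IsIntegralClosure.Basic
import Mathlib.RingTheory.Finiteness.Nakayama
import Mathlib.RingTheory.LocalRing.RingHom.Basic

/-!
Regular ideals of a one-dimensional reduced local ring of delta invariant one are principal or isomorphic to the
maximal ideal.
-/

set_option autoImplicit false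
set_option linter.style.haveILetI false
set_option linter.unusedSectionVars false
universe u

open IsLocalRing nonZeroDivisors

noncomputable section

namespace Groth.L21.TFNodal.NodeIdeal

variable {R : Type u} [CommRing R] [IsNoetherianRing R] [IsReduced R] [IsLocalRing R]

local notation "B" => integralClosure R (FractionRing R)
local notation "j" => algebraMap R (integralClosure R (FractionRing R))

theorem j_injective : Function.Injective (j) := fun _ _ h =>
  IsFractionRing.injective R (FractionRing R) (congrArg Subtype.val h)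

/-- Localisations at primes of the normalisation are principal ideal rings. -/
theorem isPrincipal_localization [Module.Finite R B] (hdim : ringKrullDim R = 1) (Q : Ideal B) [Q.IsPrime] :
    IsPrincipalIdealRing (Localization.AtPrime Q) := by
  obtain ⟨h1, h2⟩ := Groth.L22.Norm.isDomain_isIntegrallyClosed_localization R Q
  haveI := h1
  haveI := h2
  haveI : IsNoetherianRing B := IsNoetherianRing.of_finite R B
  haveI : IsNoetherianRing (Localization.AtPrime Q) :=
    IsLocalization.isNoetherianRing Q.primeCompl _ inferInstance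
  let f : PrimeSpectrum (Localization.AtPrime Q) → PrimeSpectrum R := fun P =>
    PrimeSpectrum.comap (j) (PrimeSpectrum.comap (algebraMap B (Localization.AtPrime Q)) P)
  have hf : StrictMono f := fun P P' h => by
    have hlt : P.asIdeal < P'.asIdeal := h
    have h' : (PrimeSpectrum.comap (algebraMap B (Localization.AtPrime Q)) P).asIdeal <
        (PrimeSpectrum.comap (algebraMap B (Localization.AtPrime Q)) P').asIdeal :=
      lt_of_le_of_ne (Ideal.comap_mono hlt.le) fun he => hlt.ne (by
        rw [← IsLocalization.map_under Q.primeCompl (Localization.AtPrime Q) P.asIdeal,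
          ← IsLocalization.map_under Q.primeCompl (Localization.AtPrime Q) P'.asIdeal]
        exact congrArg (Ideal.map _) he)
    exact Ideal.IsIntegral.comap_lt_comap h'
  haveI : Ring.KrullDimLE 1 (Localization.AtPrime Q) := by
    rw [Ring.krullDimLE_iff]
    exact (Order.krullDim_le_of_strictMono f hf).trans (hdim.le.trans (by simp))
  haveI : Ring.DimensionLEOne (Localization.AtPrime Q) :=
    ⟨fun {p} hne hp => Ring.krullDimLE_one_iff_of_isPrime_bot.1 inferInstance p hne hp⟩
  haveI : IsDedekindDomain (Localization.AtPrime Q) := { }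
  exact IsPrincipalIdealRing.of_finite_maximals (R := Localization.AtPrime Q)
    ((Set.finite_singleton (maximalIdeal (Localization.AtPrime Q))).subset
      fun _ hI => IsLocalRing.eq_maximalIdeal hI)

/-- The normalisation has finitely many maximal ideals. -/
theorem finite_maximal [Module.Finite R B] : {Q : Ideal B | Q.IsMaximal}.Finite := by
  haveI : IsNoetherianRing B := IsNoetherianRing.of_finite R B
  refine ((Ideal.map (j) (maximalIdeal R)).finite_minimalPrimes_of_isNoetherianRing B).subset fun Q hQ => ?_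
  haveI : Q.IsMaximal := hQ
  have hc : Q.comap (j) = maximalIdeal R :=
    IsLocalRing.eq_maximalIdeal (Ideal.isMaximal_comap_of_isIntegral_of_isMaximal (R := R) Q)
  refine ⟨⟨inferInstance, Ideal.map_le_iff_le_comap.2 hc.ge⟩, fun P ⟨hP, hmP⟩ hPQ => ?_⟩
  haveI := hP
  have : P.IsMaximal := Ideal.isMaximal_of_isIntegral_of_isMaximal_comap (R := R) P
    (by
      have : maximalIdeal R ≤ P.comap (j) := Ideal.map_le_iff_le_comap.1 hmP
      rw [← (maximalIdeal.isMaximal R).eq_of_le (Ideal.comap_ne_top _ hP.ne_top) this]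
      infer_instance)
  exact (this.eq_of_le (Ideal.IsMaximal.ne_top inferInstance) hPQ).ge

variable {k : Type*} [Field k] [Infinite k] (φ : k →+* R)

include φ in
/-- A regular ideal has an element generating its extension to the normalisation. -/
theorem exists_generator [Module.Finite R B] (hdim : ringKrullDim R = 1) (M : Ideal R) {a : R} (ha : a ∈ M)
    (haz : a ∈ R⁰) : ∃ t ∈ M, Ideal.map (j) M = Ideal.span {j t} := by
  classical
  haveI : IsNoetherianRing B := IsNoetherianRing.of_finite R B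
  obtain ⟨n, g, hg⟩ := Submodule.fg_iff_exists_fin_generating_family.1 (IsNoetherian.noetherian M)
  replace hg : Ideal.span (Set.range g) = M := hg
  set I := Ideal.map (j) M
  have hI : I = Ideal.span (Set.range fun i => j (g i)) := by
    show Ideal.map (j) M = _
    rw [← hg, Ideal.map_span, ← Set.range_comp]
    rfl
  haveI : Finite {Q : Ideal B // Q.IsMaximal} := (finite_maximal (R := R)).to_subtype
  let bad : {Q : Ideal B // Q.IsMaximal} → Submodule k (Fin n → k) := fun Q =>
    { carrier := {c : Fin n → k | (∑ i, j (φ (c i)) * j (g i)) ∈ Q.1 * I}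
      add_mem' := fun {c c'} (h : (∑ i, j (φ (c i)) * j (g i)) ∈ Q.1 * I)
          (h' : (∑ i, j (φ (c' i)) * j (g i)) ∈ Q.1 * I) =>
        show (∑ i, j (φ (c i + c' i)) * j (g i)) ∈ Q.1 * I by
          simp only [map_add, add_mul, Finset.sum_add_distrib]
          exact add_mem h h'
      zero_mem' := show (∑ i, j (φ (0 : k)) * j (g i)) ∈ Q.1 * I by simp
      smul_mem' := fun s c (h : (∑ i, j (φ (c i)) * j (g i)) ∈ Q.1 * I) =>
        show (∑ i, j (φ (s * c i)) * j (g i)) ∈ Q.1 * I by
          simp only [map_mul, mul_assoc, ← Finset.mul_sum]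
          exact Ideal.mul_mem_left _ _ h }
  have hbad : ∀ Q, bad Q ≠ ⊤ := fun Q h => by
    haveI := Q.2
    have hle : I ≤ Q.1 * I := by
      conv_lhs => rw [hI]
      rw [Ideal.span_le]
      rintro _ ⟨i, rfl⟩
      have hi : (Pi.single i 1 : Fin n → k) ∈ bad Q := h ▸ Submodule.mem_top
      have hi' : (∑ l, j (φ ((Pi.single i 1 : Fin n → k) l)) * j (g l)) ∈ Q.1 * I := hi
      rwa [Finset.sum_eq_single i (fun l _ hl => by rw [Pi.single_eq_of_ne hl, map_zero, map_zero, zero_mul])
        (fun hh => absurd (Finset.mem_univ i) hh), Pi.single_eq_same, map_one, map_one, one_mul] at hi'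
    obtain ⟨r, hr, hr0⟩ := Submodule.exists_sub_one_mem_and_smul_eq_zero_of_fg_of_le_smul Q.1 I
      (IsNoetherian.noetherian I) (by rwa [smul_eq_mul])
    have h0 : r * j a = 0 := hr0 _ (Ideal.mem_map_of_mem _ ha)
    have hr' : r = 0 := Subtype.ext (by
      have := congrArg Subtype.val h0
      exact ((IsLocalization.map_units (FractionRing R) ⟨a, haz⟩).mul_left_eq_zero).1 this)
    rw [hr', zero_sub, Ideal.neg_mem_iff] at hr
    exact Q.2.ne_top ((Ideal.eq_top_iff_one _).2 hr)
  obtain ⟨c, hc⟩ := Submodule.exists_forall_notMem_of_forall_ne_top bad hbad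
  let t := ∑ i, φ (c i) * g i
  have htM : t ∈ M := Ideal.sum_mem _ fun i _ => Ideal.mul_mem_left _ _ (hg ▸ Ideal.subset_span ⟨i, rfl⟩)
  refine ⟨t, htM, le_antisymm ?_ ((Ideal.span_singleton_le_iff_mem _).2 (Ideal.mem_map_of_mem _ htM))⟩
  have hjt : j t = ∑ i, j (φ (c i)) * j (g i) := by simp [t, map_sum]
  let J : Ideal B :=
    { carrier := {b : B | ∀ x ∈ I, b * x ∈ Ideal.span {j t}}
      add_mem' := fun {b b'} (h : ∀ x ∈ I, b * x ∈ Ideal.span {j t}) (h' : ∀ x ∈ I, b' * x ∈ Ideal.span {j t}) =>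
        show ∀ x ∈ I, (b + b') * x ∈ Ideal.span {j t} from fun x hx => by
          rw [add_mul]; exact add_mem (h x hx) (h' x hx)
      zero_mem' := show ∀ x ∈ I, (0 : B) * x ∈ Ideal.span {j t} from fun x _ => by
        rw [zero_mul]; exact zero_mem _
      smul_mem' := fun s b (h : ∀ x ∈ I, b * x ∈ Ideal.span {j t}) =>
        show ∀ x ∈ I, (s * b) * x ∈ Ideal.span {j t} from fun x hx => by
          rw [mul_assoc]; exact Ideal.mul_mem_left _ _ (h x hx) }
  by_cases hJ : J = ⊤
  · intro x hx
    have h1 : (1 : B) ∈ J := hJ ▸ Submodule.mem_top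
    have := (h1 : ∀ x ∈ I, (1 : B) * x ∈ Ideal.span {j t}) x hx
    rwa [one_mul] at this
  exfalso
  obtain ⟨Q, hQ, hJQ⟩ := Ideal.exists_le_maximal J hJ
  haveI := hQ
  haveI := isPrincipal_localization hdim Q
  let L := Localization.AtPrime Q
  let z := Submodule.IsPrincipal.generator (I.map (algebraMap B L))
  have hz : z ∈ I.map (algebraMap B L) := Submodule.IsPrincipal.generator_mem _
  obtain ⟨⟨⟨a', ha'⟩, u⟩, hzu⟩ := (IsLocalization.mem_map_algebraMap_iff Q.primeCompl L).1 hz
  have key : ∀ x ∈ I, ∃ s : B, s ∉ Q ∧ s * x ∈ Ideal.span {a'} := fun x hx => by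
    obtain ⟨w, hw⟩ := (Submodule.IsPrincipal.mem_iff_eq_smul_generator (I.map (algebraMap B L))).1
      (Ideal.mem_map_of_mem _ hx)
    obtain ⟨⟨w', v⟩, hwv⟩ := IsLocalization.surj Q.primeCompl w
    have h1 : algebraMap B L (x * v * u) = algebraMap B L (a' * w') := by
      rw [map_mul, map_mul, map_mul, hw, smul_eq_mul]
      replace hzu : z * algebraMap B L u = algebraMap B L a' := hzu
      replace hwv : w * algebraMap B L v = algebraMap B L w' := hwv
      rw [← hzu, ← hwv]
      ring
    obtain ⟨s, hs⟩ := (IsLocalization.eq_iff_exists Q.primeCompl L).1 h1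
    refine ⟨(s : B) * v * u, fun hh => ?_, Ideal.mem_span_singleton'.2 ⟨(s : B) * w', ?_⟩⟩
    · rcases hQ.isPrime.mem_or_mem hh with h | h
      · rcases hQ.isPrime.mem_or_mem h with h | h
        · exact s.2 h
        · exact v.2 h
      · exact u.2 h
    · rw [mul_assoc, mul_comm w' a', ← hs]; ring
  choose s hsQ hsx using fun i => key (j (g i)) (hI ▸ Ideal.subset_span ⟨i, rfl⟩)
  let S := ∏ i, s i
  have hS : S ∉ Q := fun hh => by
    obtain ⟨i, -, hi⟩ := (hQ.isPrime.prod_mem_iff).1 hh
    exact hsQ i hi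
  have hSI : ∀ x ∈ I, S * x ∈ Ideal.span {a'} := fun x hx => by
    rw [hI] at hx
    induction hx using Submodule.span_induction with
    | mem x hx =>
      obtain ⟨i, rfl⟩ := hx
      obtain ⟨d, hd⟩ := Finset.dvd_prod_of_mem s (Finset.mem_univ i)
      show (∏ i, s i) * j (g i) ∈ _
      rw [hd, mul_comm (s i), mul_assoc]
      exact Ideal.mul_mem_left _ _ (hsx i)
    | zero => rw [mul_zero]; exact zero_mem _
    | add x y _ _ h h' => rw [mul_add]; exact add_mem h h'
    | smul r x _ h => rw [smul_eq_mul, mul_left_comm]; exact Ideal.mul_mem_left _ _ h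
  obtain ⟨b, hb⟩ := Ideal.mem_span_singleton'.1 (hSI _ (Ideal.mem_map_of_mem _ htM))
  have hbQ : b ∉ Q := fun hb' => hc ⟨Q, hQ⟩ (by
    have h1 : S * j t ∈ Q * I := hb ▸ Ideal.mul_mem_mul hb' ha'
    obtain ⟨y, q, hq, hy⟩ := hQ.exists_inv hS
    have h2 : j t = y * (S * j t) + q * j t := by rw [← mul_assoc, ← add_mul, hy, one_mul]
    show (∑ i, j (φ (c i)) * j (g i)) ∈ Q * I
    rw [← hjt, h2]
    exact add_mem (Ideal.mul_mem_left _ _ h1) (Ideal.mul_mem_mul hq (Ideal.mem_map_of_mem _ htM)))
  have hmem : S * b ∈ J := show ∀ x ∈ I, S * b * x ∈ Ideal.span {j t} from fun x hx => by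
    obtain ⟨d, hd⟩ := Ideal.mem_span_singleton'.1 (hSI x hx)
    refine Ideal.mem_span_singleton'.2 ⟨d * S, ?_⟩
    rw [mul_assoc, ← hb, mul_right_comm S b x, ← hd]
    ring
  exact (hQ.isPrime.mem_or_mem (hJQ hmem)).elim hS hbQ

include φ in
/-- A regular ideal which is not principal is isomorphic to the maximal ideal. -/
theorem exists_equiv_maximalIdeal [Module.Finite R B] (hdim : ringKrullDim R = 1) (hδ : Curv2.deltaInv R = 1)
    (M : Ideal R) {a : R} (ha : a ∈ M) (haz : a ∈ R⁰) (hM : ¬ M.IsPrincipal) :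
    Nonempty (M ≃ₗ[R] maximalIdeal R) := by
  classical
  let W₀ := LinearMap.range (Algebra.linearMap R B)
  have hlen : Module.length R (B ⧸ W₀) = 1 := hδ
  haveI hsimple : IsSimpleModule R (B ⧸ W₀) := Module.length_eq_one_iff.1 hlen
  have hMne : M ≠ ⊤ := fun h => hM ⟨⟨1, by rw [h]; exact Ideal.span_singleton_one.symm⟩⟩
  have ham : a ∈ maximalIdeal R := le_maximalIdeal hMne ha
  haveI : FaithfulSMul R B := (faithfulSMul_iff_algebraMap_injective R B).2 j_injective
  have hmB : ∀ r ∈ maximalIdeal R, ∀ b : B, ∃ r' ∈ maximalIdeal R, j r' = j r * b := fun r hr b => by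
    have h1 : r • W₀.mkQ b = 0 := by
      have h := Submodule.smul_mem_smul (M := B ⧸ W₀) hr (Submodule.mem_top (x := W₀.mkQ b))
      rwa [simple_smul_top hlen, Submodule.mem_bot] at h
    rw [← map_smul, Submodule.mkQ_apply, Submodule.Quotient.mk_eq_zero] at h1
    obtain ⟨r', hr'⟩ := h1
    replace hr' : j r' = j r * b := hr'.trans (Algebra.smul_def r b)
    refine ⟨r', fun hu => ?_, hr'⟩
    have hu' : IsUnit (j r * b) := hr' ▸ hu.map (j)
    exact hr (isUnit_of_map_unit (j) r (isUnit_of_mul_isUnit_left hu'))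
  have equiv : ∀ (N : Ideal R) (t : R), t ∈ N → (∀ x ∈ N, j x ∈ Ideal.span {j t}) →
      (∀ b : B, ∃ r ∈ N, j r = j t * b) → t ∈ R⁰ → Nonempty (B ≃ₗ[R] N) := fun N t htN hle hall htz => by
    choose r hr hr' using hall
    let f : B →ₗ[R] N :=
      { toFun := fun b => ⟨r b, hr b⟩
        map_add' := fun b b' => Subtype.ext (j_injective (by
          show j (r (b + b')) = j (r b + r b')
          rw [map_add, hr', hr', hr', mul_add]))
        map_smul' := fun s b => Subtype.ext (j_injective (by
          show j (r (s • b)) = j (s * r b)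
          rw [map_mul, hr', hr', Algebra.smul_def]
          ring)) }
    refine ⟨LinearEquiv.ofBijective f ⟨fun b b' h => ?_, fun x => ?_⟩⟩
    · have h1 : j t * b = j t * b' := by rw [← hr' b, ← hr' b']; exact congrArg (fun x : N => j x.1) h
      exact Subtype.ext ((IsLocalization.map_units (FractionRing R) ⟨t, htz⟩).mul_left_cancel
        (congrArg Subtype.val h1))
    · obtain ⟨b, hb⟩ := Ideal.mem_span_singleton'.1 (hle x.1 x.2)
      exact ⟨b, Subtype.ext (j_injective (by show j (r b) = j x.1; rw [hr', ← hb, mul_comm]))⟩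
  have nzd : ∀ (N : Ideal R) (t : R), (a ∈ N) → Ideal.map (j) N = Ideal.span {j t} → t ∈ R⁰ := fun N t haN he => by
    obtain ⟨b, hb⟩ := Ideal.mem_span_singleton'.1 (he ▸ Ideal.mem_map_of_mem (j) haN)
    refine mem_nonZeroDivisors_iff_right.2 fun x hx => ?_
    refine (mem_nonZeroDivisors_iff_right.1 haz) x (j_injective ?_)
    rw [map_mul, map_zero, ← hb, mul_left_comm, ← map_mul, hx, map_zero, mul_zero]
  obtain ⟨c, hcm, hc⟩ := exists_generator φ hdim (maximalIdeal R) ham haz
  obtain ⟨em⟩ := equiv (maximalIdeal R) c hcm (fun x hx => hc ▸ Ideal.mem_map_of_mem _ hx) (hmB c hcm)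
    (nzd _ c ham hc)
  obtain ⟨t, htM, ht⟩ := exists_generator φ hdim M ha haz
  let W : Submodule R B :=
    { carrier := {b : B | ∃ r ∈ M, j r = j t * b}
      add_mem' := fun {b b'} ⟨r, hr, h⟩ ⟨r', hr', h'⟩ =>
        ⟨r + r', add_mem hr hr', by rw [map_add, h, h', mul_add]⟩
      zero_mem' := ⟨0, zero_mem _, by rw [map_zero, mul_zero]⟩
      smul_mem' := fun s b ⟨r, hr, h⟩ =>
        ⟨s * r, Ideal.mul_mem_left _ _ hr, by rw [map_mul, h, Algebra.smul_def]; ring⟩ }
  have hW : W₀ ≤ W := by
    rintro _ ⟨r, rfl⟩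
    exact ⟨t * r, Ideal.mul_mem_right _ _ htM, map_mul _ _ _⟩
  rcases eq_bot_or_eq_top (W.map W₀.mkQ) with h | h
  · exfalso
    refine hM ⟨⟨t, le_antisymm (fun x hx => ?_) ((Ideal.span_singleton_le_iff_mem _).2 htM)⟩⟩
    obtain ⟨b, hb⟩ := Ideal.mem_span_singleton'.1 (ht ▸ Ideal.mem_map_of_mem (j) hx)
    have hbW : b ∈ W := ⟨x, hx, by rw [mul_comm, hb]⟩
    have h1 : W₀.mkQ b ∈ W.map W₀.mkQ := Submodule.mem_map_of_mem hbW
    rw [h, Submodule.mem_bot, Submodule.mkQ_apply, Submodule.Quotient.mk_eq_zero] at h1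
    obtain ⟨r, rfl⟩ := h1
    refine Ideal.mem_span_singleton'.2 ⟨r, j_injective ?_⟩
    rw [map_mul, ← hb]
    rfl
  · have hall : ∀ b : B, ∃ r ∈ M, j r = j t * b := fun b => by
      obtain ⟨w, hw, he⟩ : W₀.mkQ b ∈ W.map W₀.mkQ := h ▸ Submodule.mem_top
      have h2 : b - w ∈ W := hW ((Submodule.Quotient.eq W₀).1 he.symm)
      have := add_mem h2 hw
      rwa [sub_add_cancel] at this
    obtain ⟨eM⟩ := equiv M t htM (fun x hx => ht ▸ Ideal.mem_map_of_mem _ hx) hall (nzd M t ha ht)
    exact ⟨eM.symm.trans em⟩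

end Groth.L21.TFNodal.NodeIdeal
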