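import Groth.Agent.L21.TFNodal.RankOne
import Groth.Agent.L21.TFNodal.Basic
import Groth.Agent.L21.TFNodal.NodeIdeal
import Groth.Agent.L21.NormRed.Nodal
import Groth.Agent.L15.TFCurve.Basic

/-!
The local types of rank one torsion-free modules on nodal curves.
-/

set_option autoImplicit false
set_option linter.style.haveILetI false
set_option backward.isDefEq.respectTransparency false
set_option backward.isDefEq.respectTransparency.types false
universe u

open CategoryTheory AlgebraicGeometry TopologicalSpace IsLocalRing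
open Groth.L10.RelCan (stk)

noncomputable section

namespace Groth.L21.TFNodal

variable {X : Scheme.{u}}

theorem injective_stk {L A : X.Modules} (φ : L ⟶ A) [Mono φ] (x : X) : Function.Injective (stk φ x) :=
  (Groth.L21.Mod.mono_iff_stalk_injective φ).1 inferInstance x

/-- A module embedded in an invertible one, generically isomorphically, has regular ideals as stalks. -/
theorem exists_ideal_equiv [IsLocallyNoetherian X] [AlgebraicGeometry.IsReduced X] {L A : X.Modules}
    (hL : Coh.IsCoh L) (hA : PicF.IsInvertible A) (φ : L ⟶ A) [Mono φ]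
    (hb : ∀ y : X, IsField (X.presheaf.stalk y) → Function.Bijective (stk φ y)) (x : X) :
    ∃ (M : Ideal (X.presheaf.stalk x)) (a : X.presheaf.stalk x), a ∈ M ∧ a ∈ nonZeroDivisors (X.presheaf.stalk x) ∧
      Nonempty (L.presheaf.stalk x ≃ₗ[X.presheaf.stalk x] M) := by
  classical
  haveI : Coh.IsQCoh L := hL.1
  haveI : Coh.IsQCoh A := (Groth.L16.ProperFinite.isCoh_of_isInvertible hA).1
  obtain ⟨q, hq⟩ := Groth.L21.RR.exists_frame_stalk hA x
  obtain ⟨W, hxW, q₀, rfl⟩ := TopCat.Presheaf.exists_germ_eq (F := A.presheaf) (x := x) q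
  obtain ⟨V, hV, hxV, hVW⟩ := exists_isAffineOpen_mem_and_subset (x := x) (U := W) hxW
  haveI : IsNoetherianRing Γ(X, V) := IsLocallyNoetherian.component_noetherian ⟨V, hV⟩
  let q₁ : Γ(A, V) := Groth.L18.Frame.rs A hVW q₀
  have hq₁ : A.presheaf.germ V x hxV q₁ = A.presheaf.germ W x hxW q₀ := Groth.L20.ModStalk.germ_rs A hVW hxV q₀
  let g := (LinearEquiv.ofBijective (LinearMap.toSpanSingleton _ _ (A.presheaf.germ W x hxW q₀)) hq).symm
  let F := g.toLinearMap.comp (stk φ x)
  have hF : Function.Injective F := g.injective.comp (injective_stk φ x)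
  let J : Ideal Γ(X, V) :=
    { carrier := {r | ∃ m : Γ(L, V), φ.app V m = r • q₁}
      add_mem' := fun {a b} ⟨m, hm⟩ ⟨m', hm'⟩ => ⟨m + m', by rw [map_add, hm, hm', add_smul]⟩
      zero_mem' := ⟨0, by rw [map_zero, zero_smul]⟩
      smul_mem' := fun c r ⟨m, hm⟩ => ⟨c • m, by
        rw [Scheme.Modules.Hom.app_smul, hm, smul_smul]
        rfl⟩ }
  obtain ⟨r, hrJ, hr⟩ := exists_nonZeroDivisor_of_not_le_minimal J fun p hp hle => by
    let q : PrimeSpectrum Γ(X, V) := ⟨p, hp.isPrime⟩
    have hyV : hV.fromSpec q ∈ V := hV.range_fromSpec.subset ⟨q, rfl⟩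
    have hqq : (hV.primeIdealOf ⟨_, hyV⟩).asIdeal = p := congrArg PrimeSpectrum.asIdeal
      (hV.fromSpec.isOpenEmbedding.injective (hV.fromSpec_primeIdealOf ⟨_, hyV⟩))
    let S := (hV.primeIdealOf ⟨_, hyV⟩).asIdeal.primeCompl
    obtain ⟨v, hv⟩ := (hb _ (isField_stalk_fromSpec hV q hp)).2 (A.presheaf.germ V _ hyV q₁)
    letI := Groth.L20.ModStalk.stalkModule L hyV
    haveI := Groth.L20.ModStalk.isLocalizedModule_germ L hV hyV
    obtain ⟨⟨m, c⟩, hmc⟩ := IsLocalizedModule.surj S (Groth.L20.ModStalk.germₗ L hyV) v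
    letI := Groth.L20.ModStalk.stalkModule A hyV
    haveI := Groth.L20.ModStalk.isLocalizedModule_germ A hV hyV
    have h1 : A.presheaf.germ V _ hyV (φ.app V m) = A.presheaf.germ V _ hyV ((c : Γ(X, V)) • q₁) := by
      rw [Groth.L20.ModStalk.germ_smul, ← hv, ← map_smul]
      refine (DerSch.stalkFunctor_map_germ _ φ V hyV m).symm.trans ?_
      exact congrArg (stk φ _) hmc.symm
    obtain ⟨t, ht⟩ := (IsLocalizedModule.eq_iff_exists S (Groth.L20.ModStalk.germₗ A hyV)).1 h1
    have hmem : (t : Γ(X, V)) * c ∈ J := ⟨(t : Γ(X, V)) • m, by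
      rw [Scheme.Modules.Hom.app_smul, mul_smul]
      exact ht⟩
    exact ((hp.isPrime).mem_or_mem (hle hmem)).elim (fun h => t.2 (hqq ▸ h)) fun h => c.2 (hqq ▸ h)
  obtain ⟨m, hm⟩ := hrJ
  letI := X.presheaf.algebra_section_stalk (⟨x, hxV⟩ : V)
  haveI := hV.isLocalization_stalk ⟨x, hxV⟩
  refine ⟨LinearMap.range F, X.presheaf.germ V x hxV r, ⟨L.presheaf.germ V x hxV m, ?_⟩,
    IsLocalization.map_nonZeroDivisors_le (hV.primeIdealOf ⟨x, hxV⟩).asIdeal.primeCompl _ ⟨r, hr, rfl⟩,
    ⟨LinearEquiv.ofInjective F hF⟩⟩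
  refine g.symm.injective ((g.symm_apply_apply _).trans ?_)
  refine (DerSch.stalkFunctor_map_germ x φ V hxV m).trans ?_
  rw [hm, Groth.L20.ModStalk.germ_smul, hq₁]
  rfl

variable (k : Type u) [Field k] [IsAlgClosed k] [X.Over (Spec (CommRingCat.of k))]
  [IsProper (X ↘ (Spec (CommRingCat.of k)))]

/-- A rank one torsion-free module is free or the maximal ideal at every closed point of a nodal curve. -/
theorem free_or_equiv_maximalIdeal [AlgebraicGeometry.IsReduced X] [IsLocallyNoetherian X]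
    (hequi : ∀ Z ∈ irreducibleComponents (X : Type u), topologicalKrullDim Z = 1) (hX : Curv2.AtWorstNodal k X)
    {x : X} (hx : IsClosed ({x} : Set X)) (M : Ideal (X.presheaf.stalk x)) {a : X.presheaf.stalk x} (ha : a ∈ M)
    (haz : a ∈ nonZeroDivisors (X.presheaf.stalk x)) :
    Nonempty (M ≃ₗ[X.presheaf.stalk x] X.presheaf.stalk x) ∨
      Nonempty (M ≃ₗ[X.presheaf.stalk x] maximalIdeal (X.presheaf.stalk x)) := by
  let R := X.presheaf.stalk x
  have hdim := Groth.L06.Multicross.ringKrullDim_stalk_eq_one k hequi hx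
  haveI := Groth.L22.Norm.finite_integralClosure R (Groth.L06.Multicross.isNagata_stalk' k (X := X) x)
  let φ := Groth.L15.TFCurve.genK k x
  by_cases hM : M.IsPrincipal
  · left
    obtain ⟨⟨t, ht⟩⟩ := hM
    obtain ⟨b, hb⟩ := Submodule.mem_span_singleton.1 (ht ▸ ha)
    have htz : t ∈ nonZeroDivisors R := mem_nonZeroDivisors_iff_right.2 fun y hy =>
      (mem_nonZeroDivisors_iff_right.1 haz) y (by rw [← hb, smul_eq_mul, mul_left_comm, hy, mul_zero])
    let f : R →ₗ[R] M := LinearMap.codRestrict M (LinearMap.toSpanSingleton R R t) fun y =>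
      ht.ge (Submodule.mem_span_singleton.2 ⟨y, rfl⟩)
    refine ⟨(LinearEquiv.ofBijective f ⟨(injective_iff_map_eq_zero f).2 fun y hy => ?_, fun z => ?_⟩).symm⟩
    · exact (mem_nonZeroDivisors_iff_right.1 htz) y (congrArg Subtype.val hy)
    · obtain ⟨y, hy⟩ := Submodule.mem_span_singleton.1 (ht.le z.2)
      exact ⟨y, Subtype.ext hy⟩
  · right
    refine NodeIdeal.exists_equiv_maximalIdeal φ hdim ?_ M ha haz hM
    by_contra hne
    have hn : ¬ Curv2.IsNode k X x := fun h => hne (Groth.L21.NormRed.deltaInv_of_isNode k hequi h)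
    have h0 := Groth.L21.NormRed.deltaInv_eq_zero_of_not_isNode k hX hx hn
    rw [Curv2.deltaInv, Module.length_eq_zero_iff, Submodule.Quotient.subsingleton_iff] at h0
    obtain ⟨t, htM, ht⟩ := NodeIdeal.exists_generator φ hdim M ha haz
    refine hM ⟨⟨t, le_antisymm (fun y hy => ?_) ((Ideal.span_singleton_le_iff_mem _).2 htM)⟩⟩
    obtain ⟨b, hb⟩ := Ideal.mem_span_singleton'.1 (ht ▸ Ideal.mem_map_of_mem _ hy)
    obtain ⟨r, rfl⟩ : b ∈ LinearMap.range (Algebra.linearMap R _) := h0 ▸ Submodule.mem_top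
    exact Ideal.mem_span_singleton'.2 ⟨r, NodeIdeal.j_injective ((map_mul _ _ _).trans hb)⟩

end Groth.L21.TFNodal
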