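import Groth.Agent.L21.TFNodal.Suite
import Groth.Agent.L21.TFNodal.Factor
import Groth.Agent.L21.TFNodal.Lattice
import Groth.Agent.L16.QcqsPush
import Groth.Agent.L18.KRRAmple
import Groth.Agent.L15.CohFlat

/-!
A torsion-free sheaf of given type on a nodal curve inside a locally free sheaf, with simple cokernel at the nodes.
-/

set_option autoImplicit false
set_option backward.isDefEq.respectTransparency false
set_option backward.isDefEq.respectTransparency.types false
set_option linter.style.haveILetI false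
universe u

open CategoryTheory CategoryTheory.Limits AlgebraicGeometry TopologicalSpace IsLocalRing

noncomputable section

namespace Groth.L21.TFNodal.Hull

open Groth.L18.Frame (rs ro rs_rs)
open Groth.L20.ModStalk (germ_rs germ_smul)
open Groth.L00.SubExtend (StalkSub gspan Good sub subι)
open Groth.L21.Bundle (sm)

/-- A point of a closed set without proper generisations in it is isolated there. -/
theorem isOpen_insert_compl {T : Type u} [TopologicalSpace T] [NoetherianSpace T] [QuasiSober T] [T0Space T]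
    {Z : Set T} (hZ : IsClosed Z) {x : T} (hx : IsClosed ({x} : Set T)) (h : ∀ g ∈ Z, g ⤳ x → g = x) :
    IsOpen (Zᶜ ∪ {x}) := by
  haveI : QuasiSober Z := hZ.isClosedEmbedding_subtypeVal.quasiSober
  let C : Set (Set Z) := {c ∈ irreducibleComponents Z | ¬ x ∈ Subtype.val '' c}
  have hcl : IsClosed (⋃ c ∈ C, Subtype.val '' c) :=
    ((NoetherianSpace.finite_irreducibleComponents (α := Z)).subset fun c hc => hc.1).isClosed_biUnion fun c hc =>
      hZ.isClosedEmbedding_subtypeVal.isClosedMap _ (isClosed_of_mem_irreducibleComponents c hc.1)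
  convert hcl.isOpen_compl using 1
  ext y
  simp only [Set.mem_union, Set.mem_compl_iff, Set.mem_iUnion, Set.mem_singleton_iff, not_exists]
  constructor
  · rintro (hy | rfl) c hc ⟨z, hz, hzy⟩
    · exact hy (hzy ▸ z.2)
    · exact hc.2 ⟨z, hz, hzy⟩
  · intro hy
    by_contra hcon
    push Not at hcon
    obtain ⟨c, hc, hyc⟩ := Set.mem_iUnion₂.1
      (show (⟨y, hcon.1⟩ : Z) ∈ ⋃ c ∈ irreducibleComponents Z, c from
        Set.mem_biUnion (irreducibleComponent_mem_irreducibleComponents _) mem_irreducibleComponent)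
    obtain ⟨g, hg⟩ := QuasiSober.sober hc.1 (isClosed_of_mem_irreducibleComponents c hc)
    by_cases hxc : x ∈ Subtype.val '' c
    · obtain ⟨z, hz, rfl⟩ := hxc
      have hgz := h g.1 g.2 ((subtype_specializes_iff g z).1 (hg.specializes hz))
      refine hcon.2 ?_
      have hgy : g.1 ⤳ y := (subtype_specializes_iff g ⟨y, hcon.1⟩).1 (hg.specializes hyc)
      rw [hgz] at hgy
      exact hgy.mem_closed hx rfl
    · exact hy c ⟨hc, hxc⟩ ⟨_, hyc, rfl⟩

variable {X : Scheme.{u}} (U : X.Opens) (F : X.Modules)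

/-- Sections of `F` on `U`, as a sheaf. -/
abbrev pU : X.Modules := (Scheme.Modules.pushforward U.ι).obj ((Scheme.Modules.restrictFunctor U.ι).obj F)

/-- The inclusion. -/
abbrev toP : F ⟶ pU U F := (Scheme.Modules.restrictAdjunction U.ι).unit.app F

/-- The trace of an open on `U`. -/
abbrev tr (V : X.Opens) : X.Opens := U.ι ''ᵁ (U.ι ⁻¹ᵁ V)

theorem tr_le (V : X.Opens) : tr U V ≤ V := U.ι.image_preimage_le V

theorem mem_tr {V : X.Opens} {y : X} (hV : y ∈ V) (hU : y ∈ U) : y ∈ tr U V := ⟨⟨y, hU⟩, hV, rfl⟩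

theorem tr_mem {V : X.Opens} {y : X} (h : y ∈ tr U V) : y ∈ V ∧ y ∈ U :=
  ⟨tr_le U V h, by obtain ⟨w, -, rfl⟩ := h; exact w.2⟩

theorem smul_pU {V : X.Opens} (a : Γ(X, V)) (s : Γ(F, tr U V)) :
    (show Γ(F, tr U V) from a • (show Γ(pU U F, V) from s)) = ro (tr_le U V) a • s :=
  Eq.trans (by rfl) (Groth.L18.Frame.restrict_smul' F U _ _ _)

theorem injective_toP_stalk {y : X} (hy : y ∈ U) : Function.Injective (sm (toP U F) y) := by
  refine (injective_iff_map_eq_zero _).2 fun v hv => ?_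
  obtain ⟨W, hyW, s, rfl⟩ := TopCat.Presheaf.exists_germ_eq F.presheaf v
  replace hv := (Groth.L21.Mod.stalkF_map_germ (toP U F) W y hyW s).symm.trans hv
  obtain ⟨W', hyW', i₁, i₂, hW'⟩ := TopCat.Presheaf.germ_eq (pU U F).presheaf y hyW hyW _ 0 (hv.trans (map_zero _).symm)
  have h0 : rs (pU U F) i₁.le ((toP U F).app W s) = 0 := hW'.trans (map_zero _)
  rw [← Groth.L17.BC.PullSec.app_rs (toP U F) i₁.le s] at h0
  rw [← germ_rs F i₁.le hyW' s, ← germ_rs F (tr_le U W') (mem_tr U hyW' hy) (rs F i₁.le s)]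
  exact (congrArg (F.presheaf.germ (tr U W') y (mem_tr U hyW' hy)) h0).trans (map_zero _)

/-- A function invertible on `U` near `x` acts injectively on sections on `U` at `x`. -/
theorem cancel {V : X.Opens} {x : X} (hxV : x ∈ V) (c : Γ(X, V)) (hc : tr U V ≤ X.basicOpen c)
    {v w : (pU U F).presheaf.stalk x} (h : X.presheaf.germ V x hxV c • v = X.presheaf.germ V x hxV c • w) : v = w := by
  rw [← sub_eq_zero] at h ⊢
  rw [← smul_sub] at h
  generalize v - w = z at h ⊢
  obtain ⟨W, hxW, σ, rfl⟩ := TopCat.Presheaf.exists_germ_eq (pU U F).presheaf z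
  rw [← germ_rs (pU U F) (inf_le_left : W ⊓ V ≤ W) ⟨hxW, hxV⟩ σ,
    ← TopCat.Presheaf.germ_res_apply X.presheaf (homOfLE (inf_le_right : W ⊓ V ≤ V)) x ⟨hxW, hxV⟩ c,
    ← germ_smul] at h
  obtain ⟨W', hxW', i₁, i₂, hW'⟩ := TopCat.Presheaf.germ_eq (pU U F).presheaf x (show x ∈ W ⊓ V from ⟨hxW, hxV⟩) (show x ∈ W ⊓ V from ⟨hxW, hxV⟩) _ 0 (h.trans (map_zero _).symm)
  have h0 : rs (pU U F) i₁.le (ro (inf_le_right : W ⊓ V ≤ V) c • rs (pU U F) inf_le_left σ) = 0 := hW'.trans (map_zero _)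
  rw [Groth.L18.Frame.rs_smul, rs_rs, Groth.L18.Frame.ro_ro] at h0
  have h1 := (smul_pU U F _ (show Γ(F, tr U W') from rs (pU U F) (i₁.le.trans inf_le_left) σ)).symm.trans
    (show (show Γ(F, tr U W') from _) = 0 from h0)
  have hu : IsUnit (ro (tr_le U W') (ro (i₁.le.trans inf_le_right) c)) := by
    rw [Groth.L18.Frame.ro_ro]
    have hle : tr U W' ≤ X.basicOpen c := fun y hy =>
      hc (mem_tr U ((i₁.le.trans inf_le_right) (tr_mem U hy).1) (tr_mem U hy).2)
    have := (RingedSpace.isUnit_res_basicOpen X.toRingedSpace c).map (X.presheaf.map (homOfLE hle).op).hom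
    convert this using 1
    exact (Groth.L18.Frame.ro_ro (X.basicOpen_le c) hle c).symm
  rw [← germ_rs (pU U F) (i₁.le.trans inf_le_left) hxW' σ]
  exact (congrArg ((pU U F).presheaf.germ W' x hxW') (show rs (pU U F) (i₁.le.trans inf_le_left) σ = 0 from
    (IsUnit.smul_eq_zero (M := Γ(F, tr U W')) hu).1 h1)).trans (map_zero _)

variable {r : ℕ}

/-- The data of a free lattice at a node. -/
def IsHullAt (x : X) {ι : Type} [Fintype ι] (v : F.presheaf.stalk x →ₗ[X.presheaf.stalk x] (ι → X.presheaf.stalk x))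
    (b : ι → (pU U F).presheaf.stalk x) : Prop :=
  LinearIndependent (X.presheaf.stalk x) b ∧
  (∀ m, sm (toP U F) x m = ∑ i, v m i • b i) ∧
  ∃ (V : X.Opens) (hx : x ∈ V) (n : ℕ) (t : Fin n → Γ(pU U F, V)), IsAffineOpen V ∧
    gspan (pU U F) t x hx = Submodule.span _ (Set.range b) ∧
    ∀ (y : X) (hy : y ∈ V), y ≠ x → y ∈ U ∧ gspan (pU U F) t y hy = LinearMap.range (sm (toP U F) y)

set_option maxHeartbeats 1600000 in
/-- Free lattices exist at closed points outside `U` where `F` sits in a free module with quotient killed by a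
regular element. -/
theorem exists_hullAt [AlgebraicGeometry.IsNoetherian X] [AlgebraicGeometry.IsReduced X] (hF : Coh.IsCoh F) (hinj : ∀ y, Function.Injective (sm (toP U F) y))
    (hfin : (U : Set X)ᶜ.Finite) (hcl : ∀ y ∉ U, IsClosed ({y} : Set X)) (hmax : ∀ y ∈ U, ∀ x ∉ U, y ⤳ x → IsField (X.presheaf.stalk y))
    {x : X} (hx : x ∉ U) {ι : Type} [Fintype ι]
    (v : F.presheaf.stalk x →ₗ[X.presheaf.stalk x] (ι → X.presheaf.stalk x)) (hv : Function.Injective v)
    {c₀ : X.presheaf.stalk x} (hc₀ : IsRegular c₀) (hcv : ∀ w, ∃ m, v m = c₀ • w) :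
    ∃ b : ι → (pU U F).presheaf.stalk x, IsHullAt U F x v b := by
  classical
  haveI := hF.1
  have hxcl := hcl x hx
  obtain ⟨V₀, hV₀x, c, hc⟩ := TopCat.Presheaf.exists_germ_eq X.presheaf c₀
  choose m₀ hm₀ using fun i => hcv (Pi.single i 1)
  choose V₁ hV₁x m₁ hm₁ using fun i => TopCat.Presheaf.exists_germ_eq F.presheaf (m₀ i)
  -- isolate the zeros of `c`
  have hiso : IsOpen ((((U ⊓ X.basicOpen c : X.Opens) : Set X)ᶜ)ᶜ ∪ {x}) := by
    refine isOpen_insert_compl (U ⊓ X.basicOpen c).2.isClosed_compl hxcl fun g hg hgx => ?_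
    by_contra hne
    by_cases hgU : g ∈ U
    · refine hg ⟨hgU, ?_⟩
      have hgV : g ∈ V₀ := hgx.mem_open V₀.2 hV₀x
      refine (X.mem_basicOpen c g hgV).2 ?_
      have hgen : g ∈ genericPoints X := by
        exact (Groth.L20.mem_genericPoints_iff g).2 fun w hw => by
          haveI : Subsingleton (PrimeSpectrum (X.presheaf.stalk g)) :=
            (PrimeSpectrum.subsingleton_iff_isField_of_isReduced).2 (hmax g hgU x hx hgx)
          obtain ⟨w', rfl⟩ : w ∈ Set.range (X.fromSpecStalk g) := X.range_fromSpecStalk ▸ hw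
          rw [Subsingleton.elim (α := PrimeSpectrum (X.presheaf.stalk g)) w' (closedPoint _)]
          exact Scheme.fromSpecStalk_closedPoint
      have h0 := Groth.L15.TFCurve.stalkSpecializes_ne_zero hgen hgx hc₀
      rw [← hc, TopCat.Presheaf.germ_stalkSpecializes_apply] at h0
      letI := (hmax g hgU x hx hgx).toField
      exact isUnit_iff_ne_zero.2 h0
    · exact hne ((hgx.mem_closed (hcl g hgU) rfl).symm)
  rw [compl_compl] at hiso
  let W₀ : X.Opens := ⟨_, hiso⟩ ⊓ V₀ ⊓ Finset.univ.inf V₁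
  have hxW₀ : x ∈ W₀ := ⟨⟨Or.inr rfl, hV₀x⟩, by
    show x ∈ ((Finset.univ.inf V₁ : X.Opens) : Set X)
    rw [Opens.coe_finset_inf, Finset.inf_set_eq_iInter]
    exact Set.mem_iInter₂.2 fun i _ => hV₁x i⟩
  obtain ⟨V, hV, hxV, hVle⟩ := exists_isAffineOpen_mem_and_subset (x := x) (U := W₀) hxW₀
  have hV0 : V ≤ V₀ := fun y hy => (hVle hy).1.2
  have hV1 : ∀ i, V ≤ V₁ i := fun i y hy =>
    (Finset.inf_le (Finset.mem_univ i) : Finset.univ.inf V₁ ≤ V₁ i) (hVle hy).2
  have hVU : ∀ y ∈ V, y ≠ x → y ∈ U ∧ y ∈ X.basicOpen c := fun y hy hne => by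
    rcases (hVle hy).1.1 with h | h
    · exact h
    · exact absurd h hne
  have hc' : tr U V ≤ X.basicOpen (ro hV0 c) := fun y hy => by
    have hyx : y ≠ x := fun e => hx (e ▸ (tr_mem U hy).2)
    show y ∈ X.basicOpen (X.presheaf.map (homOfLE hV0).op c)
    rw [Scheme.basicOpen_res]
    exact ⟨(tr_mem U hy).1, (hVU y (tr_mem U hy).1 hyx).2⟩
  have hu : IsUnit (ro (tr_le U V) (ro hV0 c)) := by
    have := (RingedSpace.isUnit_res_basicOpen X.toRingedSpace (ro hV0 c)).map (X.presheaf.map (homOfLE hc').op).hom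
    convert this using 1
    exact (Groth.L18.Frame.ro_ro (X.basicOpen_le _) hc' _).symm
  let β : ι → Γ(pU U F, V) := fun i => show Γ(F, tr U V) from
    (↑hu.unit⁻¹ : Γ(X, tr U V)) • rs F ((tr_le U V).trans (hV1 i)) (m₁ i)
  have hβ : ∀ i, ro hV0 c • β i = (toP U F).app V (rs F (hV1 i) (m₁ i)) := fun i => by
    refine (smul_pU U F _ _).trans ?_
    show ro (tr_le U V) (ro hV0 c) • ((↑hu.unit⁻¹ : Γ(X, tr U V)) • rs F _ (m₁ i)) = _
    rw [smul_smul, IsUnit.mul_val_inv, one_smul]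
    exact (rs_rs F (hV1 i) (tr_le U V) (m₁ i)).symm
  have hcx : X.presheaf.germ V x hxV (ro hV0 c) = c₀ :=
    (TopCat.Presheaf.germ_res_apply X.presheaf (homOfLE hV0) x hxV c).trans hc
  let b : ι → (pU U F).presheaf.stalk x := fun i => (pU U F).presheaf.germ V x hxV (β i)
  have hb : ∀ i, c₀ • b i = sm (toP U F) x (m₀ i) := fun i => by
    rw [← hcx, ← germ_smul, hβ, ← hm₁ i, ← germ_rs F (hV1 i) hxV (m₁ i)]
    exact (Groth.L21.Mod.stalkF_map_germ (toP U F) V x hxV _).symm
  have hcomb : ∀ w : ι → X.presheaf.stalk x, ∀ m, v m = c₀ • w → c₀ • ∑ i, w i • b i = sm (toP U F) x m := fun w m hm => by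
    have hm' : m = ∑ i, w i • m₀ i := hv (by
      rw [hm, map_sum]
      simp_rw [map_smul, hm₀]
      ext j
      simp [Finset.sum_apply, Pi.single_apply, mul_comm])
    rw [hm', map_sum, Finset.smul_sum]
    exact Finset.sum_congr rfl fun i _ => by rw [map_smul, ← hb, smul_comm]
  have hfac : ∀ m, sm (toP U F) x m = ∑ i, v m i • b i := fun m => by
    have h := hcomb (v m) (c₀ • m) (map_smul v c₀ m)
    rw [map_smul, ← hcx] at h
    exact (cancel U F hxV (ro hV0 c) hc' h).symm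
  have hli : LinearIndependent (X.presheaf.stalk x) b := by
    rw [Fintype.linearIndependent_iff]
    intro g hg i
    obtain ⟨m, hm⟩ := hcv g
    have h := hcomb g m hm
    rw [hg, smul_zero] at h
    rw [hinj x (h.symm.trans (map_zero _).symm), map_zero] at hm
    exact hc₀.left ((congrFun hm i).symm.trans (mul_zero _).symm)
  -- the generators of `F` lie in the span near `x`
  obtain ⟨n, t, ht⟩ := Groth.L21.TFNodal.Lat.exists_generators F hV hF
  choose D hDx d hd using fun q : Fin n × ι =>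
    TopCat.Presheaf.exists_germ_eq X.presheaf (v (F.presheaf.germ V x hxV (t q.1)) q.2)
  let W₁ : X.Opens := V ⊓ Finset.univ.inf D
  have hxW₁ : x ∈ W₁ := ⟨hxV, by
    show x ∈ ((Finset.univ.inf D : X.Opens) : Set X)
    rw [Opens.coe_finset_inf, Finset.inf_set_eq_iInter]
    exact Set.mem_iInter₂.2 fun i _ => hDx i⟩
  have hWD : ∀ q, W₁ ≤ D q := fun q => inf_le_right.trans (Finset.inf_le (Finset.mem_univ q))
  have heq : ∀ q, ∃ (W : X.Opens) (_ : x ∈ W) (h : W ≤ W₁),
      rs (pU U F) (h.trans inf_le_left) ((toP U F).app V (t q)) =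
        rs (pU U F) h (∑ i, ro (hWD (q, i)) (d (q, i)) • rs (pU U F) inf_le_left (β i)) := fun q => by
    have hg : (pU U F).presheaf.germ W₁ x hxW₁ (rs (pU U F) inf_le_left ((toP U F).app V (t q))) =
        (pU U F).presheaf.germ W₁ x hxW₁ (∑ i, ro (hWD (q, i)) (d (q, i)) • rs (pU U F) inf_le_left (β i)) := by
      rw [germ_rs, map_sum, ← Groth.L21.Mod.stalkF_map_germ (toP U F) V x hxV (t q)]
      refine (hfac _).trans (Finset.sum_congr rfl fun i _ => ?_)
      rw [germ_smul, germ_rs]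
      congr 1
      exact ((TopCat.Presheaf.germ_res_apply X.presheaf (homOfLE (hWD (q, i))) x hxW₁ (d (q, i))).trans (hd (q, i))).symm
    obtain ⟨W, hxW, i₁, i₂, hW⟩ := TopCat.Presheaf.germ_eq (pU U F).presheaf x hxW₁ hxW₁ _ _ hg
    exact ⟨W, hxW, i₁.le, (rs_rs (pU U F) inf_le_left i₁.le _).symm.trans hW⟩
  choose W hxW hWle hW using heq
  obtain ⟨V', hV', hxV', hV'le⟩ := exists_isAffineOpen_mem_and_subset (x := x) (U := W₁ ⊓ Finset.univ.inf W) ⟨hxW₁, by
    show x ∈ ((Finset.univ.inf W : X.Opens) : Set X)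
    rw [Opens.coe_finset_inf, Finset.inf_set_eq_iInter]
    exact Set.mem_iInter₂.2 fun i _ => hxW i⟩
  have hV'V : V' ≤ V := fun y hy => (hV'le hy).1.1
  let eι := Fintype.equivFin ι
  refine ⟨b, hli, hfac, V', hxV', _, fun a => rs (pU U F) hV'V (β (eι.symm a)), hV', ?_, fun y hy hne => ⟨(hVU y (hV'V hy) hne).1, ?_⟩⟩
  · rw [Groth.L00.SubExtend.gspan_rs, gspan]
    refine congrArg _ ?_
    exact eι.symm.surjective.range_comp b
  · rw [Groth.L00.SubExtend.gspan_rs, gspan]
    refine le_antisymm (Submodule.span_le.2 ?_) ?_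
    · rintro _ ⟨a, rfl⟩
      have hyu : IsUnit (X.presheaf.germ V y (hV'V hy) (ro hV0 c)) := by
        refine (X.mem_basicOpen _ y (hV'V hy)).1 (hc' (mem_tr U (hV'V hy) (hVU y (hV'V hy) hne).1))
      refine (Submodule.smul_mem_iff_of_isUnit _ hyu).1 ?_
      rw [← germ_smul, hβ, ← Groth.L21.Mod.stalkF_map_germ (toP U F) V y (hV'V hy)]
      exact LinearMap.mem_range_self _ _
    · rw [LinearMap.range_eq_map, ← ht y (hV'V hy), gspan, Submodule.map_span, Submodule.span_le]
      rintro _ ⟨_, ⟨q, rfl⟩, rfl⟩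
      have hyW : y ∈ W q := (Finset.inf_le (Finset.mem_univ q) : Finset.univ.inf W ≤ W q) (hV'le hy).2
      show sm (toP U F) y (F.presheaf.germ V y (hV'V hy) (t q)) ∈ _
      rw [show sm (toP U F) y _ = _ from Groth.L21.Mod.stalkF_map_germ (toP U F) V y (hV'V hy) (t q),
        ← germ_rs (pU U F) ((hWle q).trans inf_le_left) hyW, hW q, germ_rs _ _ hyW, map_sum]
      refine Submodule.sum_mem _ fun i _ => ?_
      rw [germ_smul, germ_rs]
      exact Submodule.smul_mem _ _ (Submodule.subset_span ⟨eι i, by simp⟩)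

end Groth.L21.TFNodal.Hull
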