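import Groth.Agent.L21.TFNodal.NormIso
import Groth.Agent.L16.QcqsPush
import Groth.Agent.L16.CohSupport
import Groth.Agent.L15.CohFlat

/-!
The quotient of a coherent module by the sections killed on a dense open.
-/

set_option autoImplicit false
set_option backward.isDefEq.respectTransparency false
set_option linter.style.haveILetI false
universe u

open CategoryTheory CategoryTheory.Limits AlgebraicGeometry TopologicalSpace

noncomputable section

namespace Groth.L21.TFNodal

open Groth.L18.Frame (rs rs_rs rs_smul ro)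

variable {Y : Scheme.{u}}

theorem eq_zero_of_smul_dense [IsReduced Y] [IsLocallyNoetherian Y] (hdom : ∀ y : Y, IsDomain (Y.presheaf.stalk y))
    (D : Y.Opens) (T : Y.Modules)
    (htf : ∀ z ∈ D, Module.IsTorsionFree (Y.presheaf.stalk z) (T.presheaf.stalk z))
    {y : Y} {W : Y.Opens} (hyW : y ∈ W) (a : Γ(Y, W)) (hay : Y.presheaf.germ W y hyW a ≠ 0)
    {W' : Y.Opens} (h : W' ≤ W ⊓ D) (hW : IsPreirreducible (W : Set Y)) (s : Γ(T, W'))
    (hs : ro (h.trans inf_le_left) a • s = 0) : s = 0 := by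
  refine TopCat.Presheaf.section_ext ⟨T.presheaf, T.isSheaf⟩ W' s 0 fun z hz => ?_
  rw [map_zero]
  haveI := hdom z
  haveI := htf z (h hz).2
  have h1 : Y.presheaf.germ W z (h hz).1 a • T.presheaf.germ W' z hz s = 0 := by
    refine Eq.trans ?_ ((congrArg (T.presheaf.germ W' z hz) hs).trans (map_zero _))
    rw [Groth.L20.ModStalk.germ_smul]
    congr 1
    exact (TopCat.Presheaf.germ_res_apply Y.presheaf _ z hz a).symm
  refine (smul_eq_zero.1 h1).resolve_left fun h0 => hay ?_
  obtain ⟨W₂, hzW₂, i₁, i₂, h2⟩ := TopCat.Presheaf.germ_eq Y.presheaf z (h hz).1 (h hz).1 a 0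
    (h0.trans (map_zero _).symm)
  rw [eq_zero_of_preirreducible hW i₁.le ⟨z, hzW₂⟩ a (h2.trans (map_zero _)), map_zero]

/-- A coherent module has a torsion-free coherent quotient agreeing with it on a dense open where it is torsion-free. -/
theorem exists_tf_quotient [IsReduced Y] [IsLocallyNoetherian Y] (hdom : ∀ y : Y, IsDomain (Y.presheaf.stalk y))
    (D : Y.Opens) {T : Y.Modules} (hT : Coh.IsCoh T)
    (htf : ∀ z ∈ D, Module.IsTorsionFree (Y.presheaf.stalk z) (T.presheaf.stalk z)) :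
    ∃ (E : Y.Modules) (p : T ⟶ E), Epi p ∧ Coh.IsCoh E ∧ TorSh.IsTorsionFree E ∧
      ∀ W : Y.Opens, W ≤ D → Function.Injective (p.app W) := by
  haveI : Coh.IsQCoh T := hT.1
  let P : Y.Modules := (Scheme.Modules.pushforward D.ι).obj ((Scheme.Modules.restrictFunctor D.ι).obj T)
  haveI : Coh.IsQCoh (T.restrict D.ι) := Scheme.Modules.isQuasicoherent_restrictFunctor _ T
  haveI : Coh.IsQCoh P := Groth.L16.QcqsPush.isQCoh_push (M := T.restrict D.ι) D.ι
  let η : T ⟶ P := (Scheme.Modules.restrictAdjunction D.ι).unit.app T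
  refine ⟨Abelian.image η, Abelian.factorThruImage η, inferInstance,
    Groth.L16.CohSupport.isCoh_image hT η, fun y => ?_, fun W hW => ?_⟩
  · haveI := hdom y
    have hinj : Function.Injective ((Groth.L00.Stk.F Y y).map (Abelian.image.ι η)).hom :=
      (Groth.L21.Mod.mono_iff_stalk_injective _).1 inferInstance y
    haveI : Module.IsTorsionFree (Y.presheaf.stalk y) (P.presheaf.stalk y) := by
      refine ⟨fun c hc v w hvw => ?_⟩
      rw [← sub_eq_zero]
      have hvw' : c • (v - w) = 0 := by rw [smul_sub, sub_eq_zero]; exact hvw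
      generalize v - w = u at hvw'
      obtain ⟨W₁, hy₁, σ, rfl⟩ := TopCat.Presheaf.exists_germ_eq P.presheaf u
      obtain ⟨W₂, hy₂, a, rfl⟩ := TopCat.Presheaf.exists_germ_eq Y.presheaf c
      obtain ⟨W₃, hy₃, -, hW₃⟩ := exists_preirreducible_nhd y
      let W := W₁ ⊓ W₂ ⊓ W₃
      have hyW : y ∈ W := ⟨⟨hy₁, hy₂⟩, hy₃⟩
      rw [← Groth.L20.ModStalk.germ_rs P (show W ≤ W₁ from inf_le_left.trans inf_le_left) hyW σ,
        ← TopCat.Presheaf.germ_res_apply Y.presheaf (homOfLE (show W ≤ W₂ from inf_le_left.trans inf_le_right)) y hyW a,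
        ← Groth.L20.ModStalk.germ_smul] at hvw'
      obtain ⟨W₄, hy₄, i₁, i₂, h4⟩ := TopCat.Presheaf.germ_eq P.presheaf y hyW hyW _ 0
        (hvw'.trans (map_zero _).symm)
      have hirr : IsPreirreducible (W₄ : Set Y) := fun o o' ho ho' h h' => by
        obtain ⟨x, -, ⟨x1, x2⟩, x3, -⟩ := hW₃ (o ∩ W₄) (o' ∩ W₄) (ho.inter W₄.2) (ho'.inter W₄.2)
          (h.imp fun x hx => ⟨(i₁.le hx.1).2, hx.2, hx.1⟩) (h'.imp fun x hx => ⟨(i₁.le hx.1).2, hx.2, hx.1⟩)
        exact ⟨x, x2, x1, x3⟩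
      have h5 : ro (i₁.le.trans (inf_le_left.trans inf_le_right)) a •
          rs P (i₁.le.trans (inf_le_left.trans inf_le_left)) σ = 0 := by
        have h6 := h4.trans (map_zero _)
        change rs P i₁.le (ro _ a • rs P _ σ) = 0 at h6
        rw [rs_smul, rs_rs, Groth.L18.Frame.ro_ro] at h6
        exact h6
      have hne : Y.presheaf.germ W₄ y hy₄ (ro (i₁.le.trans (inf_le_left.trans inf_le_right)) a) ≠ 0 := by
        intro h0
        refine nonZeroDivisors.ne_zero (isRegular_iff_mem_nonZeroDivisors.1 hc) ?_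
        refine Eq.trans ?_ h0
        exact (TopCat.Presheaf.germ_res_apply Y.presheaf (homOfLE (i₁.le.trans (inf_le_left.trans inf_le_right))) y hy₄ a).symm
      have h7 : rs P (i₁.le.trans (inf_le_left.trans inf_le_left)) σ = 0 :=
        eq_zero_of_smul_dense hdom D T htf hy₄ _ hne
          (W' := D.ι ''ᵁ (D.ι ⁻¹ᵁ W₄)) (le_inf (D.ι.image_preimage_le W₄)
            (by rintro _ ⟨z, -, rfl⟩; exact z.2)) hirr
          (show Γ(T, D.ι ''ᵁ (D.ι ⁻¹ᵁ W₄)) from rs P (i₁.le.trans (inf_le_left.trans inf_le_left)) σ)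
          (Eq.trans ((Groth.L18.Frame.restrict_smul' T D _ _ _).symm.trans (by rfl)) h5)
      rw [← Groth.L20.ModStalk.germ_rs P (i₁.le.trans (inf_le_left.trans inf_le_left)) hy₄ σ, h7, map_zero]
    haveI : Module.IsTorsionFree (Y.presheaf.stalk y) ((Groth.L00.Stk.F Y y).obj P) :=
      ‹Module.IsTorsionFree (Y.presheaf.stalk y) (P.presheaf.stalk y)›
    exact hinj.moduleIsTorsionFree _ fun r v => map_smul _ r v
  · intro s t hst
    have h1 : η.app W s = η.app W t := by
      have h2 : ∀ u, η.app W u = (Abelian.image.ι η).app W ((Abelian.factorThruImage η).app W u) := fun u =>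
        (congrArg (fun q : T ⟶ P => q.app W u) (Abelian.image.fac η)).symm
      rw [h2, h2, hst]
    refine TopCat.Presheaf.section_ext ⟨T.presheaf, T.isSheaf⟩ W s t fun z hz => ?_
    have hz' : z ∈ D.ι ''ᵁ (D.ι ⁻¹ᵁ W) := ⟨⟨z, hW hz⟩, hz, rfl⟩
    have h3 : rs T (D.ι.image_preimage_le W) s = rs T (D.ι.image_preimage_le W) t := h1
    exact (Groth.L20.ModStalk.germ_rs T _ hz' s).symm.trans
      ((congrArg (T.presheaf.germ _ z hz') h3).trans (Groth.L20.ModStalk.germ_rs T _ hz' t))

end Groth.L21.TFNodal
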