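import Groth.Agent.L21.TFNodal.Embed
import Groth.Agent.L21.Mod.SpreadIso
import Groth.Agent.L22.CurveDeg.TensorDeg
import Groth.Agent.L21.RR.Finite
import Groth.Agent.L21.Bundle.Results
import Groth.Agent.L21.Nodal.CurveLike
import Groth.Agent.L21.TFNodal.Lattice
import Groth.Agent.L03.Euler.Section
import Groth.Agent.L00.TensorColim

/-!
Torsion-free modules of rank one on reduced curves: embeddings avoiding points, degrees of tensor products.
-/

set_option autoImplicit false
set_option linter.style.haveILetI false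
set_option linter.unusedSectionVars false
set_option maxSynthPendingDepth 4
set_option backward.isDefEq.respectTransparency false
set_option backward.isDefEq.respectTransparency.types false
universe u

open CategoryTheory CategoryTheory.Limits AlgebraicGeometry TopologicalSpace IsLocalRing
open scoped TensorProduct
open Groth.L10.RelCan (stk homE dualStalk homE_dualMap dualStalk_bidual)

noncomputable section

namespace Groth.L21.TFNodal

variable {X : Scheme.{u}}

/-- The twist maps do not vanish at points where a functional does not. -/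
theorem exists_maps_point [IsNoetherian X] {L : X.Modules} (hL : CohB1.IsAmple L) {F : X.Modules}
    (hF : Coh.IsCoh F) :
    ∃ (m N : ℕ) (φ : Fin N → (F ⟶ CohB1.tensorPow L m)), ∀ (x : X) (v : F.presheaf.stalk x),
      (∃ f : F.presheaf.stalk x →ₗ[X.presheaf.stalk x] X.presheaf.stalk x, f v = 1) →
        ∃ j, stk (φ j) x v ∉ maximalIdeal (X.presheaf.stalk x) •
          (⊤ : Submodule (X.presheaf.stalk x) ((CohB1.tensorPow L m).presheaf.stalk x)) := by
  haveI : Coh.IsQCoh (Coh.structureModule X) := (Groth.L16.CohClosedPush.isCoh_structure (X := X)).1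
  obtain ⟨L', hL', ⟨e⟩⟩ := Groth.L08.Cube.exists_inverse hL.1
  have hD := Groth.L15.Ref.isCoh_dual hF
  obtain ⟨a, N, p, hp⟩ := Groth.L18.LefTwists.exists_epi_negPow hL e hD
  obtain ⟨g⟩ := Groth.L18.VanBundle.nonempty_free_tensor (CohB1.tensorPow L' a) N
  let M := CohB1.tensorPow L' a
  have hM : PicF.IsInvertible M := Groth.L18.Ample.isInvertible_tensorPow hL' a
  have hMc : Coh.IsCoh M := Groth.L16.ProperFinite.isCoh_of_isInvertible hM
  obtain ⟨ed⟩ := Groth.L18.NegVanish.nonempty_dual_invertible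
    (Groth.L00.Tensor.tensorComm M (CohB1.tensorPow L a) ≪≫ Groth.L16.NegPow.powInvIso e a)
    (Groth.L20.ResDescent.isFinLocFree_of_isInvertible hM)
  let pj : Fin N → (M ⟶ RefHull.dual F) := fun j => Sigma.ι (fun _ : Fin N => M) j ≫ g.inv ≫ p
  refine ⟨a, N, fun j => RefHull.bidualMap F ≫ RefFun.dualMap (pj j) ≫ ed.hom, fun η v hfv => ?_⟩
  obtain ⟨f, hf⟩ := hfv
  let R := X.presheaf.stalk η
  let 𝔪 := maximalIdeal R
  by_contra hall
  push Not at hall
  let b := stk (RefHull.bidualMap F) η v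
  let se := (Groth.L15.Ref.strE η).symm.toLinearMap
  have h1 : ∀ (j : Fin N) (w : M.presheaf.stalk η), se (homE hD η b (stk (pj j) η w)) ∈ 𝔪 := fun j w => by
    have h0 : stk (RefFun.dualMap (pj j)) η b ∈ 𝔪 •
        (⊤ : Submodule R ((RefHull.dual M).presheaf.stalk η)) := by
      have hh := hall j
      rw [stk_comp_apply, stk_comp_apply] at hh
      have h' := Groth.L03.Euler.map_mem_smul_top (stk ed.inv η) 𝔪 hh
      rwa [← stk_comp_apply, ed.hom_inv_id, stk_id_apply] at h'
    let ev : (RefHull.dual M).presheaf.stalk η →ₗ[R] R :=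
      (se ∘ₗ LinearMap.applyₗ w) ∘ₗ (homE hMc η).toLinearMap
    have h' := Groth.L03.Euler.map_mem_smul_top ev 𝔪 h0
    rw [smul_eq_mul, Ideal.mul_top] at h'
    have hh2 := LinearMap.congr_fun (homE_dualMap hMc hD (pj j) η b) w
    show se (homE hD η b (stk (pj j) η w)) ∈ 𝔪
    rw [show homE hD η b (stk (pj j) η w) = homE hMc η (stk (RefFun.dualMap (pj j)) η b) w from hh2.symm]
    exact h'
  have h2 : ∀ θ, se (homE hD η b θ) ∈ 𝔪 := fun θ => by
    haveI : Epi (g.inv ≫ p) := inferInstance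
    obtain ⟨u, rfl⟩ := stk_surjective (g.inv ≫ p) η θ
    let c := biproduct.isoCoproduct fun _ : Fin N => M
    have hid : 𝟙 (∐ fun _ : Fin N => M) =
        ∑ j, (c.inv ≫ biproduct.π _ j) ≫ Sigma.ι (fun _ : Fin N => M) j := by
      have h3 : c.inv ≫ (∑ j, biproduct.π (fun _ : Fin N => M) j ≫ biproduct.ι (fun _ : Fin N => M) j) ≫ c.hom =
          𝟙 _ := by
        rw [biproduct.total, Category.id_comp, Iso.inv_hom_id]
      rw [← h3, Preadditive.sum_comp, Preadditive.comp_sum]
      exact Finset.sum_congr rfl fun j _ => by simp [c]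
    rw [show u = stk (𝟙 _) η u from (stk_id_apply η u).symm, hid, stk_sum_apply, map_sum, map_sum, map_sum]
    refine Ideal.sum_mem _ fun j _ => ?_
    rw [stk_comp_apply (c.inv ≫ biproduct.π _ j), ← stk_comp_apply (Sigma.ι _ j)]
    exact h1 j _
  have h3 := h2 ((dualStalk hF η).symm f)
  have h4 : se (homE hD η b ((dualStalk hF η).symm f)) = f v := by
    show dualStalk hD η b ((dualStalk hF η).symm f) = f v
    rw [dualStalk_bidual hF η v]
    exact LinearMap.congr_fun ((dualStalk hF η).apply_symm_apply f) v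
  rw [h4, hf] at h3
  exact (Ideal.ne_top_iff_one _).1 (maximalIdeal.isMaximal R).ne_top h3

/-- The stalk at a point of a trivialising open. -/
theorem exists_stalk_equiv_of_restrict {M : X.Modules} {U : X.Opens}
    (e : M.restrict U.ι ≅ Coh.structureModule (↑U : Scheme.{u})) {x : X} (hx : x ∈ U) :
    Nonempty (M.presheaf.stalk x ≃ₗ[X.presheaf.stalk x] X.presheaf.stalk x) := by
  let i : Coh.structureModule (↑U : Scheme.{u}) ≅ FlatMod.freeMod (↑U : Scheme.{u}) 1 :=
    (coproductUniqueIso fun _ : Fin 1 => Coh.structureModule (↑U : Scheme.{u})).symm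
  obtain ⟨b⟩ := Groth.L15.Ref.exists_basis_stalk_of_iso U.ι (e ≪≫ i) ⟨x, hx⟩
  exact ⟨(show (M.presheaf.stalk x ≃ₗ[X.presheaf.stalk x] (Fin 1 → X.presheaf.stalk x)) from b.equivFun).trans
    (LinearEquiv.funUnique (Fin 1) (X.presheaf.stalk x) (X.presheaf.stalk x))⟩

theorem bijective_stk_tensor_left {A B M : X.Modules} (u : A ⟶ B) (x : X) (h : Function.Bijective (stk u x)) :
    Function.Bijective (stk (Groth.L00.Tensor.tensorMap u (𝟙 M)) x) := by
  haveI : IsIso ((Groth.L00.Stk.F X x).map u) := (ConcreteCategory.isIso_iff_bijective _).2 h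
  let ψ := ((Groth.L00.Stk.F X x).map (𝟙 M)).hom
  let φ := ((Groth.L00.Stk.F X x).map u).hom
  have hψ : Function.Bijective ψ := ConcreteCategory.bijective_of_isIso ((Groth.L00.Stk.F X x).map (𝟙 M))
  let e := TensorProduct.congr (LinearEquiv.ofBijective φ h) (LinearEquiv.ofBijective ψ hψ)
  haveI : IsIso (ModuleCat.ofHom (TensorProduct.map φ ψ)) :=
    (ConcreteCategory.isIso_iff_bijective _).2 e.bijective
  haveI : IsIso ((Groth.L00.Stk.τ x A M).hom ≫ (Groth.L00.Stk.F X x).map (Groth.L00.Tensor.tensorMap u (𝟙 M))) := by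
    rw [← Groth.L00.Stk.τ_natural]; infer_instance
  haveI := IsIso.of_isIso_comp_left (Groth.L00.Stk.τ x A M).hom
    ((Groth.L00.Stk.F X x).map (Groth.L00.Tensor.tensorMap u (𝟙 M)))
  exact ConcreteCategory.bijective_of_isIso ((Groth.L00.Stk.F X x).map (Groth.L00.Tensor.tensorMap u (𝟙 M)))

theorem stalkTensorEquivRight {A : X.Modules} (M : X.Modules) {x : X}
    (e : A.presheaf.stalk x ≃ₗ[X.presheaf.stalk x] X.presheaf.stalk x) :
    Nonempty ((CohB1.tensorMod A M).presheaf.stalk x ≃ₗ[X.presheaf.stalk x] M.presheaf.stalk x) :=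
  ⟨(Groth.L00.Stk.τ x A M).toLinearEquiv.symm.trans
    ((TensorProduct.congr e (LinearEquiv.refl _ _)).trans (TensorProduct.lid _ _))⟩

theorem stalkTensorEquivLeft (A : X.Modules) {M : X.Modules} {x : X}
    (e : M.presheaf.stalk x ≃ₗ[X.presheaf.stalk x] X.presheaf.stalk x) :
    Nonempty ((CohB1.tensorMod A M).presheaf.stalk x ≃ₗ[X.presheaf.stalk x] A.presheaf.stalk x) :=
  ⟨(Groth.L00.Stk.τ x A M).toLinearEquiv.symm.trans
    ((TensorProduct.congr (LinearEquiv.refl _ _) e).trans (TensorProduct.rid _ _))⟩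

section Curve

variable (k : Type u) [Field k] [Infinite k] [X.Over (Spec (CommRingCat.of k))]
  [IsProper (X ↘ Spec (CommRingCat.of k))] [AlgebraicGeometry.IsReduced X]
  (hcl : Groth.L21.Nodal.CurveLike X)

include hcl in
theorem isField_of_not_isClosed {y : X} (hy : ¬ IsClosed ({y} : Set X)) : IsField (X.presheaf.stalk y) :=
  isField_stalk_of_nonclosed hcl.1 hy

include hcl in
theorem exists_regular [IsLocallyNoetherian X] {x : X} (hx : IsClosed ({x} : Set X)) :
    ∃ r ∈ maximalIdeal (X.presheaf.stalk x), r ∈ nonZeroDivisors (X.presheaf.stalk x) := by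
  refine exists_nonZeroDivisor_of_not_le_minimal _ fun p hp hle => ?_
  obtain ⟨y, hne, hy⟩ := hcl.2 x hx
  refine hne ?_
  obtain ⟨q, rfl⟩ : y ∈ Set.range (X.fromSpecStalk x) := X.range_fromSpecStalk ▸ hy
  have hqm : q = closedPoint (X.presheaf.stalk x) := PrimeSpectrum.ext
    (le_antisymm (le_maximalIdeal q.2.ne_top)
      (hle.trans (hp.2 ⟨q.2, bot_le⟩ ((le_maximalIdeal q.2.ne_top).trans hle))))
  rw [hqm]
  exact Scheme.fromSpecStalk_closedPoint

include hcl in
theorem not_isAssPoint_of_torsionFree [IsLocallyNoetherian X] {T : X.Modules} {x : X} (hx : IsClosed ({x} : Set X))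
    (hT : Module.IsTorsionFree (X.presheaf.stalk x) (T.presheaf.stalk x)) : ¬ Curv2.IsAssPoint T x := by
  intro h
  haveI := hT
  obtain ⟨a, ham, ha⟩ := exists_regular hcl hx
  have h1 : a ∈ ⋃ p ∈ associatedPrimes (X.presheaf.stalk x) (T.presheaf.stalk x),
      (p : Set (X.presheaf.stalk x)) := Set.mem_biUnion h ham
  rw [biUnion_associatedPrimes_eq_zero_divisors] at h1
  obtain ⟨v, hv, hav⟩ := h1
  exact hv (Module.IsTorsionFree.isSMulRegular (M := T.presheaf.stalk x)
    (isRegular_iff_mem_nonZeroDivisors.2 ha) (hav.trans (smul_zero a).symm))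

include k hcl in
/-- A rank one torsion-free module maps to a twist, isomorphically near given free points. -/
theorem exists_mono_avoid {H : X.Modules} (hH : CohB1.IsAmple H) {L : X.Modules} (hL : Coh.IsCoh L)
    (hLt : TorSh.IsTorsionFree L)
    (hgen : ∀ y : X, ¬ IsClosed ({y} : Set X) →
      Nonempty (L.presheaf.stalk y ≃ₗ[X.presheaf.stalk y] X.presheaf.stalk y))
    (S : Set X) (hS : S.Finite)
    (hfree : ∀ y ∈ S, Nonempty (L.presheaf.stalk y ≃ₗ[X.presheaf.stalk y] X.presheaf.stalk y)) :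
    ∃ (m : ℕ) (φ : L ⟶ CohB1.tensorPow H m), Mono φ ∧
      ∀ y : X, (¬ IsClosed ({y} : Set X) ∨ y ∈ S) → Function.Bijective (stk φ y) := by
  classical
  haveI := Groth.L21.RR.isNoetherian_of_proper (X := X) k
  haveI : Coh.IsQCoh L := hL.1
  have hd := Groth.L21.Nodal.topologicalKrullDim_le_one_of_curveLike hcl
  obtain ⟨m, N, ψ, hψ⟩ := exists_maps_point hH hL
  have hA := Groth.L18.Ample.isInvertible_tensorPow hH.1 m
  let P := {y : X // ¬ IsClosed ({y} : Set X) ∨ y ∈ S}
  haveI : Finite P := ((Groth.L22.CurveDeg.finite_nonclosed hd).union hS).to_subtype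
  have hP : ∀ y : P, Nonempty (L.presheaf.stalk y.1 ≃ₗ[X.presheaf.stalk y.1] X.presheaf.stalk y.1) :=
    fun y => y.2.elim (hgen y.1) (hfree y.1)
  let e := fun y : P => (hP y).some
  choose q hq using fun y : X => Groth.L21.RR.exists_frame_stalk hA y
  let g := fun y : X => (LinearEquiv.ofBijective (LinearMap.toSpanSingleton _ _ (q y)) (hq y)).symm
  let f := fun (y : P) (j : Fin N) =>
    IsLocalRing.residue (X.presheaf.stalk y.1) (g y.1 (stk (ψ j) y.1 ((e y).symm 1)))
  have hspan : ∀ y, Submodule.span (ResidueField (X.presheaf.stalk y.1)) (Set.range (f y)) = ⊤ := fun y => by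
    obtain ⟨j, hj⟩ := hψ y.1 ((e y).symm 1) ⟨(e y).toLinearMap, (e y).apply_symm_apply 1⟩
    have hne : f y j ≠ 0 := fun h0 => hj (by
      have hm : g y.1 (stk (ψ j) y.1 ((e y).symm 1)) ∈ maximalIdeal (X.presheaf.stalk y.1) :=
        (IsLocalRing.residue_eq_zero_iff _).1 h0
      have := Groth.L03.Euler.map_mem_smul_top (g y.1).symm.toLinearMap (maximalIdeal (X.presheaf.stalk y.1))
        (show g y.1 (stk (ψ j) y.1 ((e y).symm 1)) ∈ maximalIdeal (X.presheaf.stalk y.1) •
          (⊤ : Submodule (X.presheaf.stalk y.1) (X.presheaf.stalk y.1)) by rwa [smul_eq_mul, Ideal.mul_top])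
      rwa [LinearEquiv.coe_coe, LinearEquiv.symm_apply_apply] at this)
    refine Submodule.eq_top_iff'.2 fun z => ?_
    have hz : z = (z / f y j) • f y j := by rw [smul_eq_mul, div_mul_cancel₀ _ hne]
    rw [hz]
    exact Submodule.smul_mem _ _ (Submodule.subset_span ⟨j, rfl⟩)
  obtain ⟨c, hc⟩ := exists_combination (fun y : P =>
    (IsLocalRing.residue (X.presheaf.stalk y.1)).comp (Groth.L15.TFCurve.genK k y.1)) f hspan
    (fun y => Module.finrank_self (ResidueField (X.presheaf.stalk y.1))) (r := 1)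
  let φ : L ⟶ CohB1.tensorPow H m := ∑ j, ψ j ≫ Formal.smulMod k _ (c 0 j)
  have hb : ∀ y : X, (¬ IsClosed ({y} : Set X) ∨ y ∈ S) → Function.Bijective (stk φ y) := fun y hy => by
    let yy : P := ⟨y, hy⟩
    have hne := (hc yy).ne_zero 0
    have h1 : stk φ y ((e yy).symm 1) =
        ∑ j, Groth.L15.TFCurve.genK k y (c 0 j) • stk (ψ j) y ((e yy).symm 1) := by
      rw [stk_sum_apply]
      refine Finset.sum_congr rfl fun j _ => ?_
      rw [stk_comp_apply]
      exact Groth.L15.TFCurve.stalkF_map_smulMod _ _ _ _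
    have hu : IsUnit (g y (stk φ y ((e yy).symm 1))) := by
      by_contra hu
      refine hne ?_
      have h2 := (IsLocalRing.residue_eq_zero_iff _).2 ((mem_maximalIdeal _).2 hu)
      simp only [h1, map_sum, map_smul, smul_eq_mul, map_mul] at h2
      exact h2
    obtain ⟨w, hw⟩ := hu
    have hlin : ∀ v, stk φ y v = (g y).symm (e yy v * (w : X.presheaf.stalk y)) := fun v => by
      refine (g y).injective ?_
      rw [LinearEquiv.apply_symm_apply, hw]
      conv_lhs => rw [show v = e yy v • (e yy).symm 1 by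
        rw [← map_smul, smul_eq_mul, mul_one, LinearEquiv.symm_apply_apply]]
      rw [map_smul, map_smul, smul_eq_mul]
    rw [show (stk φ y : _ → _) = (g y).symm ∘ (fun r => r * (w : X.presheaf.stalk y)) ∘ e yy from funext hlin]
    exact (g y).symm.bijective.comp ((Units.mulRight w).bijective.comp (e yy).bijective)
  refine ⟨m, φ, Groth.L22.EnrSev.mono_of_injective_ass φ fun y hy => (hb y (Or.inl fun hc' => ?_)).1, hb⟩
  exact not_isAssPoint_of_torsionFree hcl hc' (hLt y) hy

include k hcl in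
/-- Degrees add on tensor products of rank one torsion-free modules, one of which is free at each point. -/
theorem euler_tensor_add {H : X.Modules} (hH : CohB1.IsAmple H) {L M : X.Modules} (hL : Coh.IsCoh L)
    (hM : Coh.IsCoh M) (hLt : TorSh.IsTorsionFree L) (hMt : TorSh.IsTorsionFree M)
    (hLg : ∀ y : X, ¬ IsClosed ({y} : Set X) →
      Nonempty (L.presheaf.stalk y ≃ₗ[X.presheaf.stalk y] X.presheaf.stalk y))
    (hMg : ∀ y : X, ¬ IsClosed ({y} : Set X) →
      Nonempty (M.presheaf.stalk y ≃ₗ[X.presheaf.stalk y] X.presheaf.stalk y))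
    (hLM : ∀ y : X, Nonempty (L.presheaf.stalk y ≃ₗ[X.presheaf.stalk y] X.presheaf.stalk y) ∨
      ∃ U : X.Opens, y ∈ U ∧ Nonempty (M.restrict U.ι ≅ Coh.structureModule (↑U : Scheme.{u}))) :
    Curv2.euler k X (CohB1.tensorMod L M) + Curv2.euler k X (Coh.structureModule X) =
      Curv2.euler k X L + Curv2.euler k X M := by
  classical
  haveI := Groth.L21.RR.isNoetherian_of_proper (X := X) k
  have hd := Groth.L21.Nodal.topologicalKrullDim_le_one_of_curveLike hcl
  have hO := Groth.L16.CohClosedPush.isCoh_structure (X := X)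
  haveI : Coh.IsQCoh (Coh.structureModule X) := hO.1
  haveI : Coh.IsQCoh L := hL.1
  haveI : Coh.IsQCoh M := hM.1
  let T : X.Opens := ⟨{y | ∃ U : X.Opens, y ∈ U ∧ Nonempty (M.restrict U.ι ≅ Coh.structureModule (↑U : Scheme.{u}))},
    isOpen_iff_forall_mem_open.2 fun y ⟨U, hy, hi⟩ => ⟨U, fun z hz => ⟨U, hz, hi⟩, U.2, hy⟩⟩
  have hTgen : ∀ y : X, ¬ IsClosed ({y} : Set X) → y ∈ T := fun y hy => by
    obtain ⟨eM⟩ := hMg y hy
    obtain ⟨V, hyV, -, ⟨i⟩⟩ := Groth.L21.Mod.exists_iso_restrict_of_stalk hM hO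
      (eM.trans (Groth.L15.Ref.strE y)) (U₀ := ⊤) trivial
    exact ⟨V, hyV, ⟨i ≪≫ (Scheme.Modules.restrictFunctorIsoPullback V.ι).app _ ≪≫
      Groth.L29.LocFree.pullbackUnitIso V.ι⟩⟩
  have hTc : ((T : Set X)ᶜ).Finite := Lat.finite_of_closed_points T.2.isClosed_compl fun z hz => by
    by_contra hne
    exact hz (hTgen z hne)
  have hMfree : ∀ y ∈ T, Nonempty (M.presheaf.stalk y ≃ₗ[X.presheaf.stalk y] X.presheaf.stalk y) :=
    fun y ⟨U, hyU, ⟨i⟩⟩ => exists_stalk_equiv_of_restrict i hyU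
  obtain ⟨m, φ, hφ, hb⟩ := exists_mono_avoid k hcl hH hL hLt hLg _ hTc fun y hy => (hLM y).resolve_right hy
  let A := CohB1.tensorPow H m
  have hA : PicF.IsInvertible A := Groth.L18.Ample.isInvertible_tensorPow hH.1 m
  have hAc : Coh.IsCoh A := Groth.L16.ProperFinite.isCoh_of_isInvertible hA
  haveI : Coh.IsQCoh A := hAc.1
  let S := ShortComplex.mk φ (cokernel.π φ) (cokernel.condition φ)
  have hS : S.ShortExact := { exact := ShortComplex.exact_cokernel _, mono_f := hφ }
  have hQc : Coh.IsCoh (cokernel φ) := (Groth.L16.CohKernel.isCoh_kernel_cokernel hL hAc φ).2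
  have h1 := Groth.L03.Euler.euler_add (k := k) hS hL hAc hQc
  let G := Groth.L00.Tensor.tensorRightF M
  haveI : Coh.IsQCoh (G.obj L) := (Groth.L15.Ref.isCoh_tensorMod hL hM).1
  haveI hmono : Mono (G.map φ) := by
    refine Groth.L22.EnrSev.mono_of_injective_ass _ fun y hy =>
      (bijective_stk_tensor_left φ y (hb y (Or.inl fun hc => ?_))).1
    refine not_isAssPoint_of_torsionFree hcl hc ?_ hy
    rcases hLM y with ⟨⟨eL⟩⟩ | hT
    · obtain ⟨θ⟩ := stalkTensorEquivRight M eL
      haveI := hMt y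
      exact θ.injective.moduleIsTorsionFree θ (map_smul θ)
    · obtain ⟨θ⟩ := stalkTensorEquivLeft L (hMfree y hT).some
      haveI := hLt y
      exact θ.injective.moduleIsTorsionFree θ (map_smul θ)
  let S' := ShortComplex.mk (G.map φ) (cokernel.π (G.map φ)) (cokernel.condition _)
  have hS' : S'.ShortExact := { exact := ShortComplex.exact_cokernel _, mono_f := hmono }
  have hLMc := Groth.L15.Ref.isCoh_tensorMod hL hM
  have hAMc := Groth.L15.Ref.isCoh_tensorMod hAc hM
  have hQ'c : Coh.IsCoh (cokernel (G.map φ)) := (Groth.L16.CohKernel.isCoh_kernel_cokernel hLMc hAMc _).2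
  have h2 := Groth.L03.Euler.euler_add (k := k) hS' hLMc hAMc hQ'c
  let iQ : CohB1.tensorMod (cokernel φ) M ≅ cokernel (G.map φ) := PreservesCokernel.iso G φ
  have hQzero : ∀ y : X, (¬ IsClosed ({y} : Set X) ∨ y ∈ (T : Set X)ᶜ) →
      Subsingleton ((cokernel φ).presheaf.stalk y) := fun y hy => ⟨fun z z' => by
    have hz : ∀ z : (cokernel φ).presheaf.stalk y, z = 0 := fun z => by
      obtain ⟨w, rfl⟩ := stk_surjective (cokernel.π φ) y z
      obtain ⟨v, rfl⟩ := (hb y hy).2 w
      rw [← stk_comp_apply, cokernel.condition]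
      show ((Groth.L00.Stk.F X y).map (0 : L ⟶ cokernel φ)).hom v = 0
      rw [Functor.map_zero]
      rfl
    rw [hz z, hz z']⟩
  have hθ : ∀ y : X, Nonempty ((CohB1.tensorMod (cokernel φ) M).presheaf.stalk y ≃ₗ[X.presheaf.stalk y]
      (cokernel φ).presheaf.stalk y) := fun y => by
    by_cases hy : y ∈ T
    · exact stalkTensorEquivLeft _ (hMfree y hy).some
    · haveI := hQzero y (Or.inr hy)
      haveI : Subsingleton ((Groth.L00.Stk.F X y).obj (cokernel φ) ⊗[X.presheaf.stalk y]
          (Groth.L00.Stk.F X y).obj M) := by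
        haveI : Subsingleton ((Groth.L00.Stk.F X y).obj (cokernel φ)) := hQzero y (Or.inr hy)
        infer_instance
      haveI : Subsingleton ((CohB1.tensorMod (cokernel φ) M).presheaf.stalk y) :=
        @Equiv.subsingleton _ _ (Groth.L00.Stk.τ y (cokernel φ) M).toLinearEquiv.symm.toEquiv this
      exact ⟨LinearEquiv.ofSubsingleton _ _⟩
  have hsQ : Groth.L21.RR.SuppClosed (cokernel φ) := fun y hy => hQzero y (Or.inl hy)
  have hsQM : Groth.L21.RR.SuppClosed (CohB1.tensorMod (cokernel φ) M) := fun y hy => by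
    haveI := hQzero y (Or.inl hy)
    exact (hθ y).some.toEquiv.subsingleton
  have h3 : Curv2.euler k X (cokernel (G.map φ)) = Curv2.euler k X (cokernel φ) := by
    rw [← Groth.L03.Euler.euler_iso iQ, Groth.L21.RR.euler_eq_h0_of_suppClosed k hsQM,
      Groth.L21.RR.euler_eq_h0_of_suppClosed k hsQ,
      Groth.L21.RR.h0_eq_of_stalk_equiv k hsQM hsQ fun y => (hθ y).some]
  have h4 := Groth.L22.CurveDeg.phi_eq_of_len k hd (Groth.L21.Bundle.locFree_one hA) hM hO fun y hy => by
    obtain ⟨eM⟩ := hMg y hy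
    exact (eM.trans (Groth.L15.Ref.strE y)).length_eq
  rw [Groth.L22.CurveDeg.phi_structure, Groth.L22.CurveDeg.phi, Curv2.deg] at h4
  simp only [S, S'] at h1 h2
  change Curv2.euler k X (CohB1.tensorMod A M) = Curv2.euler k X (CohB1.tensorMod L M) + _ at h2
  push_cast at h4
  linarith

end Curve

end Groth.L21.TFNodal
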