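import Groth.Agent.L21.TFNodal.Lattice
import Groth.Agent.L21.TFNodal.NodePush
import Groth.Agent.L12.KRes.Regular
import Groth.Agent.L15.CohFlat
import Groth.Agent.L22.CurveDeg.Devissage

/-!
Locally free sub- and supersheaves of a torsion-free sheaf on an integral curve agreeing with it where it is free.
-/

set_option autoImplicit false
set_option backward.isDefEq.respectTransparency false
set_option backward.isDefEq.respectTransparency.types false
set_option linter.style.haveILetI false
universe u

open CategoryTheory CategoryTheory.Limits AlgebraicGeometry TopologicalSpace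

noncomputable section

namespace Groth.L21.TFNodal.Lat

open Groth.L21.Bundle (sm rk)

variable {X : Scheme.{u}} [IsIntegral X] [IsNoetherian X] (hd : topologicalKrullDim X ≤ 1)
  (F : X.Modules) (hF : Coh.IsCoh F) (htF : TorSh.IsTorsionFree F)

/-- The points where the module is not free. -/
def bad : Set X := {x | ¬ FlatMod.IsFlatAt F x}

include hd hF in
theorem bad_props : (bad F).Finite ∧ (∀ s ∈ bad F, IsClosed ({s} : Set X)) ∧ genericPoint X ∉ bad F := by
  have hη : genericPoint X ∉ bad F := fun h => h (by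
    letI : Field (X.presheaf.stalk (genericPoint X)) := (inferInstance : Field X.functionField)
    show Module.Flat (X.presheaf.stalk (genericPoint X)) (F.presheaf.stalk (genericPoint X))
    infer_instance)
  have hcl : ∀ s ∈ bad F, IsClosed ({s} : Set X) := fun s hs => by
    by_contra hsc
    have := Groth.L21.RedCurve.maximal_of_not_isClosed hd hsc (genericPoint X) (specializes_gen s)
    exact hη (this ▸ hs)
  exact ⟨finite_of_closed_points (Groth.L12.KRes.isOpen_flatLocus hF).isClosed_compl hcl, hcl, hη⟩

/-- An inclusion of stalkwise data in the constant sheaf lifts. -/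
theorem exists_lift_of_range {A B : X.Modules} (i : A ⟶ gsky F) (j : B ⟶ gsky F) [Mono j]
    (h : ∀ y, LinearMap.range (sm i y) ≤ LinearMap.range (sm j y)) : ∃ l : A ⟶ B, l ≫ j = i := by
  have h0 : i ≫ cokernel.π j = 0 := Groth.L21.Mod.hom_ext_stalk fun y => by
    ext v
    obtain ⟨w, hw⟩ := h y (LinearMap.mem_range_self (sm i y) v)
    have hz : (Groth.L00.Stk.F X y).map j ≫ (Groth.L00.Stk.F X y).map (cokernel.π j) = 0 := by
      rw [← Functor.map_comp, cokernel.condition, Functor.map_zero]
    rw [Functor.map_comp, Functor.map_zero]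
    show sm (cokernel.π j) y (sm i y v) = 0
    rw [← hw]
    exact congr($hz w)
  exact ⟨Abelian.monoLift j i h0, Abelian.monoLift_comp j i h0⟩

variable {n : ℕ}

include hd hF htF in
/-- The submodule with free lattices at the bad points is locally free. -/
theorem locFree_lattice (hn : rk F = n) {S : Set X} (hηS : genericPoint X ∉ S)
    (hS : bad F ⊆ S) (b : X → Fin n → F.presheaf.stalk (genericPoint X))
    (hb : ∀ s ∈ S, LinearIndependent (X.presheaf.stalk (genericPoint X)) (b s))
    {E : X.Modules} (i : E ⟶ gsky F) [Mono i] (hE : Coh.IsCoh E)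
    (hr : ∀ y, LinearMap.range (sm i y) = stalkData F S b y) :
    FlatMod.IsFinLocFreeOfRank n E := by
  haveI := hF.1
  have e : ∀ y, E.presheaf.stalk y ≃ₗ[X.presheaf.stalk y] stalkData F S b y := fun y =>
    (LinearEquiv.ofInjective (sm i y) (Groth.L21.Bundle.injective_sm i y)).trans (LinearEquiv.ofEq _ _ (hr y))
  have e' : ∀ y, y ∉ S → F.presheaf.stalk y ≃ₗ[X.presheaf.stalk y] stalkData F S b y := fun y hy =>
    (LinearEquiv.ofInjective (ι₀ F y) (ι₀_injective F htF y)).trans
      (LinearEquiv.ofEq _ _ (stalkData_of_notMem F b hy).symm)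
  have hflat : FlatMod.IsFlat E := fun y => by
    by_cases hy : y ∈ S
    · have hli : LinearIndependent (X.presheaf.stalk y) (fun i => gy F y (b y i)) := by
        rw [Fintype.linearIndependent_iff]
        intro g hg i
        simp_rw [gy_smul, ← gy_sum, ← gy_zero F y] at hg
        have h0 := Fintype.linearIndependent_iff.1 (hb y hy) _ (gy_injective F y hg) i
        obtain ⟨W, hyW, a, ha⟩ := TopCat.Presheaf.exists_germ_eq X.presheaf (g i)
        rw [← ha] at h0 ⊢
        rw [TopCat.Presheaf.germ_stalkSpecializes_apply] at h0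
        rw [germ_injective_of_isIntegral X _ (gen_mem hyW) (h0.trans (map_zero _).symm), map_zero]
      have hfree : Module.Free (X.presheaf.stalk y) (stalkData F S b y) := by
        rw [stalkData_of_mem F b hy]
        exact Module.Free.of_basis (Module.Basis.span hli)
      exact Module.Flat.of_linearEquiv (e y)
    · haveI : Module.Flat (X.presheaf.stalk y) (F.presheaf.stalk y) := by
        by_contra h
        exact hy (hS h)
      exact Module.Flat.of_linearEquiv ((e y).trans (e' y hy).symm)
  obtain ⟨m, hm⟩ := Groth.L21.Disc.exists_rank (Groth.L15.CohFlat.isFinLocFree_of_isCoh_isFlat E hE hflat)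
  have h1 : rk E = rk F := ((e (genericPoint X)).trans (e' _ hηS).symm).finrank_eq
  rw [Groth.L21.Bundle.rk_eq hm, hn] at h1
  exact h1 ▸ hm

include hd hF htF in
/-- Locally free sub- and supersheaves agreeing at the free points. -/
theorem exists_sub_super (hn : rk F = n) :
    (∃ (E : X.Modules) (i : E ⟶ F), FlatMod.IsFinLocFreeOfRank n E ∧ Mono i ∧
      ∀ x, x ∉ bad F → Subsingleton ((cokernel i).presheaf.stalk x)) ∧
    (∃ (E : X.Modules) (j : F ⟶ E), FlatMod.IsFinLocFreeOfRank n E ∧ Mono j ∧
      ∀ x, x ∉ bad F → Subsingleton ((cokernel j).presheaf.stalk x)) := by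
  classical
  haveI := hF.1
  letI : Field (X.presheaf.stalk (genericPoint X)) := (inferInstance : Field X.functionField)
  haveI := Groth.L21.Bundle.finite_generic hF
  haveI : Module.Finite (X.presheaf.stalk (genericPoint X)) (F.presheaf.stalk (genericPoint X)) :=
    Groth.L06.SupportStalk.finite_stalk F hF _
  obtain ⟨hfin, hcl, hη⟩ := bad_props hd F hF
  choose V hV hxV using fun x : X => exists_isAffineOpen_mem_and_subset (x := x) (U := ⊤) trivial
  choose m t ht using fun x : X => exists_generators F (hV x) hF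
  let gt := fun (x : X) q => F.presheaf.germ (V x) (genericPoint X) (gen_mem (hxV x).1) (t x q)
  have hgt : ∀ x, Submodule.span (X.presheaf.stalk (genericPoint X)) (Set.range (gt x)) = ⊤ := fun x =>
    ht x (genericPoint X) (gen_mem (hxV x).1)
  have hbas : ∀ x, ∃ σ : Fin n → Fin (m x), LinearIndependent (X.presheaf.stalk (genericPoint X)) (gt x ∘ σ) ∧
      Submodule.span (X.presheaf.stalk (genericPoint X)) (Set.range (gt x ∘ σ)) = ⊤ := fun x => by
    obtain ⟨κ, a, ha, hs, hli⟩ := exists_linearIndependent' (X.presheaf.stalk (genericPoint X)) (gt x)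
    haveI : Finite κ := Finite.of_injective a ha
    haveI := Fintype.ofFinite κ
    have hc : Fintype.card κ = n := by
      rw [← hn, ← finrank_span_eq_card hli, hs, hgt x, finrank_top]
      rfl
    let σ := (Fintype.equivFinOfCardEq hc).symm
    refine ⟨a ∘ σ, hli.comp σ σ.injective, ?_⟩
    rw [← Function.comp_assoc, σ.surjective.range_comp, hs, hgt x]
  choose σ hli hsp using hbas
  let b₁ : X → Fin n → F.presheaf.stalk (genericPoint X) := fun x => gt x ∘ σ x
  have hb₂ : ∀ x, ∃ b : Fin n → F.presheaf.stalk (genericPoint X),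
      LinearIndependent (X.presheaf.stalk (genericPoint X)) b ∧
      Submodule.span (X.presheaf.stalk (genericPoint X)) (Set.range b) = ⊤ ∧
      LinearMap.range (ι₀ F x) ≤ Submodule.span (X.presheaf.stalk x) (Set.range fun i => gy F x (b i)) := fun x => by
    choose a ha using fun q => (Submodule.mem_span_range_iff_exists_fun (X.presheaf.stalk (genericPoint X))).1
      ((hsp x).ge (Submodule.mem_top : gt x q ∈ ⊤))
    obtain ⟨⟨h, hh⟩, hint⟩ := IsLocalization.exist_integer_multiples_of_finite
      (nonZeroDivisors (X.presheaf.stalk x)) (fun p : Fin (m x) × Fin n => a p.1 p.2)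
    let hK : X.presheaf.stalk (genericPoint X) := algebraMap (X.presheaf.stalk x) X.functionField h
    have hK0 : hK ≠ 0 := fun e => nonZeroDivisors.ne_zero hh
      (IsFractionRing.injective (X.presheaf.stalk x) X.functionField (e.trans (map_zero _).symm))
    let b : Fin n → F.presheaf.stalk (genericPoint X) := fun i => hK⁻¹ • gt x (σ x i)
    refine ⟨b, (hli x).units_smul fun _ => Units.mk0 hK⁻¹ (inv_ne_zero hK0), ?_, ?_⟩
    · refine top_le_iff.1 ((hsp x).ge.trans (Submodule.span_le.2 ?_))
      rintro _ ⟨i, rfl⟩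
      refine (Submodule.smul_mem_iff _ (inv_ne_zero hK0)).1 ?_
      exact Submodule.subset_span ⟨i, rfl⟩
    · rw [range_ι₀ F (t x) x (hxV x).1 (ht x x (hxV x).1), Submodule.span_le]
      rintro _ ⟨q, rfl⟩
      have e : gt x q = ∑ i, (hK * a q i) • b i := by
        rw [← ha q]
        refine Finset.sum_congr rfl fun i _ => ?_
        show a q i • gt x (σ x i) = (hK * a q i) • hK⁻¹ • gt x (σ x i)
        rw [smul_smul, mul_comm hK, mul_assoc, mul_inv_cancel₀ hK0, mul_one]
      show gy F x (gt x q) ∈ _
      rw [e]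
      refine gy_mem_span F x _ (fun i => ?_) b
      obtain ⟨r, hr⟩ := hint (q, i)
      exact ⟨r, hr.trans (Algebra.smul_def _ _)⟩
  choose b₂ hli₂ hsp₂ hle₂ using hb₂
  have hle₁ : ∀ x, Submodule.span (X.presheaf.stalk x) (Set.range fun i => gy F x (b₁ x i)) ≤
      LinearMap.range (ι₀ F x) := fun x => by
    refine Submodule.span_le.2 ?_
    rintro _ ⟨i, rfl⟩
    refine ⟨F.presheaf.germ (V x) x (hxV x).1 (t x (σ x i)), ?_⟩
    rw [ι₀_apply, TopCat.Presheaf.germ_stalkSpecializes_apply]
    rfl
  haveI : Mono (toG F) := (Groth.L21.Mod.mono_iff_stalk_injective _).2 fun y => ι₀_injective F htF y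
  refine ⟨?_, ?_⟩
  · obtain ⟨E, i, hi, hE, hr⟩ := exists_lattice F hd hF hfin hcl b₁ fun s _ => hsp s
    haveI := hi
    obtain ⟨l, hl⟩ := exists_lift_of_range F i (toG F) fun y => by
      rw [hr]
      by_cases hy : y ∈ bad F
      · rw [stalkData_of_mem F b₁ hy]; exact hle₁ y
      · rw [stalkData_of_notMem F b₁ hy]
    refine ⟨E, l, locFree_lattice hd F hF htF hn hη le_rfl b₁ (fun s _ => hli s) i hE hr,
      mono_of_mono_fac hl, fun x hx => Groth.L21.TFNodal.subsingleton_coker_stalk l fun v => ?_⟩
    obtain ⟨w, hw⟩ : ι₀ F x v ∈ LinearMap.range (sm i x) := by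
      rw [hr, stalkData_of_notMem F b₁ hx]; exact LinearMap.mem_range_self _ v
    refine ⟨w, ι₀_injective F htF x ?_⟩
    refine Eq.trans ?_ hw
    show ((Groth.L00.Stk.F X x).map l ≫ (Groth.L00.Stk.F X x).map (toG F)).hom w = _
    rw [← Functor.map_comp, hl]
    rfl
  · obtain ⟨E, i, hi, hE, hr⟩ := exists_lattice F hd hF hfin hcl b₂ fun s _ => hsp₂ s
    haveI := hi
    obtain ⟨l, hl⟩ := exists_lift_of_range F (toG F) i fun y => by
      rw [hr]
      by_cases hy : y ∈ bad F
      · rw [stalkData_of_mem F b₂ hy]; exact hle₂ y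
      · rw [stalkData_of_notMem F b₂ hy]
    refine ⟨E, l, locFree_lattice hd F hF htF hn hη le_rfl b₂ (fun s _ => hli₂ s) i hE hr,
      mono_of_mono_fac hl, fun x hx => Groth.L21.TFNodal.subsingleton_coker_stalk l fun v => ?_⟩
    obtain ⟨w, hw⟩ : sm i x v ∈ LinearMap.range (ι₀ F x) := by
      rw [← stalkData_of_notMem F b₂ hx, ← hr]; exact LinearMap.mem_range_self _ v
    refine ⟨w, Groth.L21.Bundle.injective_sm i x ?_⟩
    refine Eq.trans ?_ hw
    show ((Groth.L00.Stk.F X x).map l ≫ (Groth.L00.Stk.F X x).map i).hom w = _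
    rw [← Functor.map_comp, hl]
    rfl

end Groth.L21.TFNodal.Lat
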